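import Cfsg.Agent.HM.RtB
import Cfsg.Agent.Known.PSLAut

/-! `L₃(q)`: root subgroups and the Sylow subgroup. -/

set_option autoImplicit false
set_option linter.unusedSectionVars false

open scoped commutatorElement MatrixGroups

namespace Cfsg.Lib.HM

open Cfsg Subgroup
open Cfsg.Lib.Fus hiding cj IsSylowIn
open Cfsg.Lib.Trans (cj IsSylowIn QDFrame)
open Cfsg.Lib.Gold (Ns Cs C1)
open Cfsg.Lib.Gomi (AB PosC ZZ E2)
open Cfsg.Lib.Chev (slE stA_slE coe_slE StA)

universe u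

namespace A1Aux

section Gen

variable {G : Type*} [Group G] [Finite G]

theorem mem_Fx {s : Set G} {φ : MulAut G} (h : ∀ x ∈ s, φ x ∈ closure s) : φ ∈ Fx (closure s) := by
  have h1 : (closure s).map φ.toMonoidHom ≤ closure s := by
    rw [MonoidHom.map_closure, closure_le]
    rintro _ ⟨x, hx, rfl⟩
    exact h x hx
  have h2 : (closure s).map φ.toMonoidHom = closure s :=
    eq_of_le_of_card_ge h1 (card_map_of_injective φ.injective).ge
  refine fun g => ⟨fun hg => ?_, fun hg => h1 ⟨g, hg, rfl⟩⟩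
  rw [← h2] at hg
  obtain ⟨y, hy, e⟩ := hg
  exact φ.injective e ▸ hy

theorem mem_Ns {s : Set G} {g : G} (h : ∀ x ∈ s, g * x * g⁻¹ ∈ closure s) : g ∈ Ns (closure s) :=
  fun x => (mem_Fx (φ := MulAut.conj g) h x).symm

end Gen

variable {K : Type} [Field K]

/-- upper unitriangular matrices -/
def uT (a b c : K) : SL(3, K) := ⟨!![1, a, c; 0, 1, b; 0, 0, 1], by simp [Matrix.det_fin_three]⟩

theorem uT_eq_1' : type_of% @uT.eq_1 := @uT.eq_1

theorem coe_uT (a b c : K) : (uT a b c).1 = !![1, a, c; 0, 1, b; 0, 0, 1] := rfl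

theorem stA : StA (aE K) := stA_slE.map (QuotientGroup.mk' _)

theorem pos {i j k : Fin 3} (h1 : i ≠ j) (h2 : j ≠ k) (h3 : i ≠ k) :
    PosC (aE K i j) (aE K j k) (aE K i k) (a1 K) where
  addX := stA.add _ _ h1
  addY := stA.add _ _ h2
  addZ := stA.add _ _ h3
  addV _ _ := mul_one _
  comm a b := by rw [stA.comm _ _ _ h1 h2 h3, a1, mul_one]
  xz a c := stA.commute _ _ _ _ h1 h3 h1.symm h3 a c
  yz a c := stA.commute _ _ _ _ h2 h3 h3.symm h2 a c
  xv _ _ := by simp [a1]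
  yv _ _ := by simp [a1]
  zv _ _ := by simp [a1]

theorem posU : PosC (aE K 0 1) (aE K 1 2) (aE K 0 2) (a1 K) := pos (by decide) (by decide) (by decide)

theorem prod (a b c d : K) : aE K 0 1 a * aE K 1 2 b * aE K 0 2 c * a1 K d =
    QuotientGroup.mk (uT a b (c + a * b)) := by
  rw [a1, mul_one, aE, aE, aE, ← QuotientGroup.mk_mul, ← QuotientGroup.mk_mul]
  congr 1
  refine Subtype.ext ?_
  simp only [Matrix.SpecialLinearGroup.coe_mul, coe_slE (show (0 : Fin 3) ≠ 1 by decide),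
    coe_slE (show (1 : Fin 3) ≠ 2 by decide), coe_slE (show (0 : Fin 3) ≠ 2 by decide), coe_uT]
  ext i j
  fin_cases i <;> fin_cases j <;>
    simp [Matrix.mul_apply, Fin.sum_univ_three, Matrix.one_apply, Matrix.single_apply]

theorem rt : Rt 1 (aE K 0 1) (aE K 1 2) (aE K 0 2) (a1 K) where
  pos := posU
  inj a b c d e := by
    rw [prod, eq_comm, ← QuotientGroup.mk_one, Known.PSL_mk_eq_mk_iff] at e
    obtain ⟨s, hs⟩ := e
    have h1 := congrFun (congrFun hs 0) 1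
    have h2 := congrFun (congrFun hs 1) 2
    have h3 := congrFun (congrFun hs 0) 2
    simp [coe_uT] at h1 h2 h3
    exact ⟨h1, h2, by simpa [h1] using h3, rfl⟩
  typ := .inl ⟨rfl, fun _ => rfl⟩

variable (K) in
/-- the upper unitriangular subgroup -/
abbrev UU : Subgroup PSL(3, K) :=
  rA (aE K 0 1) (aE K 0 2) (a1 K) ⊔ rA (aE K 1 2) (aE K 0 2) (a1 K)

theorem memU (h2 : (2 : K) = 0) {j : PSL(3, K)} :
    j ∈ UU K ↔ ∃ a b c, j = QuotientGroup.mk (uT a b c) := by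
  rw [RtBAux.memJ posU h2]
  constructor
  · rintro ⟨a, b, c, d, rfl⟩
    exact ⟨_, _, _, prod ..⟩
  · rintro ⟨a, b, c, rfl⟩
    exact ⟨a, b, c - a * b, 0, by rw [prod, sub_add_cancel]⟩

theorem memA (h2 : (2 : K) = 0) {j : PSL(3, K)} :
    j ∈ rA (aE K 0 1) (aE K 0 2) (a1 K) ↔ ∃ a c, j = QuotientGroup.mk (uT a 0 c) := by
  rw [RtBAux.memA posU h2]
  constructor
  · rintro ⟨a, c, d, rfl⟩
    exact ⟨_, _, prod ..⟩
  · rintro ⟨a, c, rfl⟩
    exact ⟨a, c, 0, by rw [prod, mul_zero, add_zero]⟩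

theorem two_of_pos {G : Type*} [Group G] {x y z v : K → G} (h : PosC x y z v) (h2 : (2 : K) = 0) :
    IsPGroup 2 ↥(rA x z v ⊔ rA y z v) := by
  rintro ⟨g, hg⟩
  obtain ⟨a, b, c, d, rfl⟩ := (RtBAux.memJ h h2).1 hg
  have s : ∀ t : K, t + t = 0 := fun t => by linear_combination t * h2
  refine ⟨2, Subtype.ext ?_⟩
  change (x a * y b * z c * v d) ^ (2 * 2) = 1
  rw [pow_mul, sq, sq, RtBAux.mul h h2, RtBAux.mul h h2, ← RtBAux.one h]
  simp [s]

theorem cardU [Fintype K] (h2 : (2 : K) = 0) : Nat.card (UU K) = Fintype.card K ^ 3 := by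
  have : Nat.card (K × K × K) = Nat.card (UU K) := Nat.card_congr (Equiv.ofBijective
    (fun p => ⟨aE K 0 1 p.1 * aE K 1 2 p.2.1 * aE K 0 2 p.2.2 * a1 K 0,
      (RtBAux.memJ posU h2).2 ⟨_, _, _, _, rfl⟩⟩) ⟨fun p p' e => ?_, fun ⟨g, hg⟩ => ?_⟩)
  · rw [← this]; simp [pow_succ, mul_assoc]
  · obtain ⟨e1, e2, e3, -⟩ := RtBAux.uniq rt h2 (congrArg Subtype.val e)
    exact Prod.ext e1 (Prod.ext e2 e3)
  · obtain ⟨a, b, c, d, rfl⟩ := (RtBAux.memJ posU h2).1 hg
    exact ⟨(a, b, c), rfl⟩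

theorem even_card [Fintype K] (h2 : (2 : K) = 0) : Even (Fintype.card K) := by
  have : CharP K 2 := CharTwo.of_one_ne_zero_of_two_eq_zero one_ne_zero h2
  obtain ⟨n, -, hn⟩ := FiniteField.card K 2
  rw [hn]
  exact even_two.pow_of_ne_zero n.ne_zero

theorem syl [Fintype K] (h2 : (2 : K) = 0) : IsSylowIn 2 (UU K) ⊤ := by
  refine ⟨le_top, two_of_pos posU h2, ?_⟩
  rw [relIndex_top_right]
  have h1 := card_eq_card_quotient_mul_card_subgroup (center SL(3, K))
  rw [Class.card_SL_fin_three rfl, ← (UU K).card_mul_index, cardU h2, mul_assoc,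
    mul_assoc] at h1
  have hq : 0 < Fintype.card K := Fintype.card_pos
  have h3 := Nat.eq_of_mul_eq_mul_left (pow_pos hq 3) h1
  have e := even_card h2
  have o : ∀ n, n ≠ 0 → Odd (Fintype.card K ^ n - 1) := fun n hn =>
    Nat.Even.sub_odd (Nat.one_le_pow _ _ hq) (e.pow_of_ne_zero hn) odd_one
  have := (o 2 two_ne_zero).mul (o 3 three_ne_zero)
  rw [h3] at this
  exact fun hd => (Nat.not_even_iff_odd.2 this) (even_iff_two_dvd.2 (hd.mul_right _))

/-- the permutation matrix of `(1 2)` -/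
def pN (h2 : (2 : K) = 0) : SL(3, K) := ⟨!![1, 0, 0; 0, 0, 1; 0, 1, 0], by
  simp only [Matrix.det_fin_three]; simp; linear_combination -h2⟩

theorem pN_eq_1' : type_of% @pN.eq_1 := @pN.eq_1

theorem coe_pN (h2 : (2 : K) = 0) : (pN h2).1 = !![1, 0, 0; 0, 0, 1; 0, 1, 0] := rfl

theorem aN_eq (h2 : (2 : K) = 0) : aN K = QuotientGroup.mk (pN h2) := by
  rw [aN, aE, aE, ← QuotientGroup.mk_mul, ← QuotientGroup.mk_mul]
  congr 1
  refine Subtype.ext ?_
  have s : (1 : K) + 1 = 0 := by linear_combination h2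
  simp only [Matrix.SpecialLinearGroup.coe_mul, coe_slE (show (2 : Fin 3) ≠ 1 by decide),
    coe_slE (show (1 : Fin 3) ≠ 2 by decide), coe_pN]
  ext i j
  fin_cases i <;> fin_cases j <;>
    simp [Matrix.mul_apply, Fin.sum_univ_three, Matrix.one_apply, Matrix.single_apply, s]

theorem aN_conj (h2 : (2 : K) = 0) (a : K) : aN K * aE K 0 1 a * (aN K)⁻¹ = aE K 0 2 a ∧
    aN K * aE K 0 2 a * (aN K)⁻¹ = aE K 0 1 a := by
  constructor <;>
  · rw [mul_inv_eq_iff_eq_mul, aN_eq h2, aE, aE, ← QuotientGroup.mk_mul, ← QuotientGroup.mk_mul]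
    congr 1
    refine Subtype.ext ?_
    simp only [Matrix.SpecialLinearGroup.coe_mul, coe_slE (show (0 : Fin 3) ≠ 1 by decide),
      coe_slE (show (0 : Fin 3) ≠ 2 by decide), coe_pN]
    ext i j
    fin_cases i <;> fin_cases j <;>
      simp [Matrix.mul_apply, Fin.sum_univ_three, Matrix.one_apply, Matrix.single_apply]

end A1Aux

open A1Aux in
theorem st_A1 : St_A1 := fun _ _ _ h2 _ =>
  ⟨rt, syl h2, fun a => (aN_conj h2 a).1, fun a => (aN_conj h2 a).2, fun _ => by simp [a1]⟩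

end Cfsg.Lib.HM
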