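import Cfsg.Agent.HM.A1

/-! `L₃(q)`: the Borel subgroup. -/

set_option autoImplicit false
set_option linter.unusedSectionVars false

open scoped commutatorElement MatrixGroups

namespace Cfsg.Lib.HM

open Cfsg Subgroup
open Cfsg.Lib.Fus hiding cj IsSylowIn
open Cfsg.Lib.Trans (cj IsSylowIn QDFrame)
open Cfsg.Lib.Gold (Ns Cs C1)
open Cfsg.Lib.Gomi (AB PosC ZZ E2)
open Cfsg.Lib.Chev (slE stA_slE coe_slE StA)

universe u

namespace A2Aux

open A1Aux

variable {K : Type} [Field K]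

/-- lifting a conjugation from `PSL₃` to `SL₃` -/
theorem lift (h2 : (2 : K) = 0) {g : SL(3, K)} {a b c a' b' c' : K}
    (e : (QuotientGroup.mk g : PSL(3, K)) * QuotientGroup.mk (uT a b c) * (QuotientGroup.mk g)⁻¹ =
      QuotientGroup.mk (uT a' b' c')) : g.1 * (uT a b c).1 = (uT a' b' c').1 * g.1 := by
  rw [← QuotientGroup.mk_inv, ← QuotientGroup.mk_mul, ← QuotientGroup.mk_mul,
    Known.PSL_mk_eq_mk_iff] at e
  obtain ⟨s, hs⟩ := e
  have t := congrArg Matrix.trace hs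
  rw [Matrix.trace_smul, Matrix.SpecialLinearGroup.coe_mul, Matrix.trace_mul_comm,
    ← Matrix.SpecialLinearGroup.coe_mul, inv_mul_cancel_left] at t
  simp [coe_uT, Matrix.trace_fin_three] at t
  obtain rfl : s = 1 := by linear_combination -t + (1 - s) * h2
  rw [one_smul] at hs
  rw [← Matrix.SpecialLinearGroup.coe_mul, ← Matrix.SpecialLinearGroup.coe_mul,
    show uT a' b' c' = g * uT a b c * g⁻¹ from Subtype.ext hs, inv_mul_cancel_right]

/-- diagonal matrices -/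
def dg (x y z : K) (h : x * y * z = 1) : SL(3, K) := ⟨Matrix.diagonal ![x, y, z], by
  simp [Fin.prod_univ_three, h]⟩

theorem dg_eq_1' : type_of% @dg.eq_1 := @dg.eq_1

theorem coe_dg {x y z : K} (h : x * y * z = 1) : (dg x y z h).1 = Matrix.diagonal ![x, y, z] := rfl

theorem dg_conj {x y z : K} (h : x * y * z = 1) {i j : Fin 3} (hij : i ≠ j) (t : K) :
    (QuotientGroup.mk (dg x y z h) : PSL(3, K)) * aE K i j t * (QuotientGroup.mk (dg x y z h))⁻¹ =
      aE K i j (![x, y, z] i * (![x, y, z] j)⁻¹ * t) := by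
  have n : ∀ k, ![x, y, z] k ≠ 0 := fun k e => by
    fin_cases k <;> simp at e <;> simp [e] at h
  rw [mul_inv_eq_iff_eq_mul, aE, aE, ← QuotientGroup.mk_mul, ← QuotientGroup.mk_mul]
  congr 1
  refine Subtype.ext ?_
  simp only [Matrix.SpecialLinearGroup.coe_mul, coe_dg, coe_slE hij, mul_add, add_mul, mul_one, one_mul]
  congr 1
  ext k l
  rw [Matrix.mul_diagonal, Matrix.diagonal_mul, Matrix.single_apply, Matrix.single_apply]
  split_ifs with e
  · obtain ⟨rfl, rfl⟩ := e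
    have := n j
    field_simp
  · simp

theorem dec {g : SL(3, K)} (h1 : g.1 1 0 = 0) (h2 : g.1 2 0 = 0) (h3 : g.1 2 1 = 0) :
    ∃ a b c x y z h, g = uT a b c * dg x y z h := by
  have d := (Matrix.det_fin_three _).symm.trans g.2
  have d' : g.1 0 0 * g.1 1 1 * g.1 2 2 = 1 := by simpa [h1, h2, h3] using d
  have n1 : g.1 1 1 ≠ 0 := fun e => by simp [e] at d'
  have n2 : g.1 2 2 ≠ 0 := fun e => by simp [e] at d'
  refine ⟨g.1 0 1 / g.1 1 1, g.1 1 2 / g.1 2 2, g.1 0 2 / g.1 2 2, _, _, _, d', Subtype.ext ?_⟩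
  simp only [Matrix.SpecialLinearGroup.coe_mul, coe_dg, coe_uT]
  ext i j
  rw [Matrix.mul_diagonal]
  fin_cases i <;> fin_cases j <;> simp [h1, h2, h3, n1, n2]

theorem dg_aU [Finite K] {x y z : K} (h : x * y * z = 1) :
    (QuotientGroup.mk (dg x y z h) : PSL(3, K)) ∈ Ns (aU K) := by
  refine mem_Ns ?_
  rintro _ ((⟨t, rfl⟩ | ⟨t, rfl⟩) | ⟨t, rfl⟩) <;> rw [dg_conj h (by decide)]
  exacts [subset_closure (.inl (.inl ⟨_, rfl⟩)), subset_closure (.inl (.inr ⟨_, rfl⟩)),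
    subset_closure (.inr ⟨_, rfl⟩)]

theorem dg_rA [Finite K] {x y z : K} (h : x * y * z = 1) {i j k l : Fin 3} (hij : i ≠ j)
    (hkl : k ≠ l) :
    (QuotientGroup.mk (dg x y z h) : PSL(3, K)) ∈ Ns (rA (aE K i j) (aE K k l) (a1 K)) := by
  refine mem_Ns ?_
  rintro _ ((⟨t, rfl⟩ | ⟨t, rfl⟩) | ⟨t, rfl⟩)
  · rw [dg_conj h hij]; exact RtBAux.mx _
  · rw [dg_conj h hkl]; exact RtBAux.mz _
  · simp [a1]

theorem dg_UU [Finite K] {x y z : K} (h : x * y * z = 1) :
    (QuotientGroup.mk (dg x y z h) : PSL(3, K)) ∈ Ns (UU K) :=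
  normalizer_inf_normalizer_le_normalizer_sup _ _
    ⟨dg_rA h (by decide) (by decide), dg_rA h (by decide) (by decide)⟩

theorem upper (h2 : (2 : K) = 0) {g : SL(3, K)} (hg : (QuotientGroup.mk g : PSL(3, K)) ∈ Ns (UU K)) :
    g.1 1 0 = 0 ∧ g.1 2 0 = 0 ∧ g.1 2 1 = 0 := by
  obtain ⟨a, b, c, e⟩ := (memU h2).1 ((hg _).1 ((memU h2).2 ⟨1, 0, 0, rfl⟩))
  obtain ⟨a', b', c', e'⟩ := (memU h2).1 ((hg _).1 ((memU h2).2 ⟨0, 1, 0, rfl⟩))
  have f := lift h2 e
  have f' := lift h2 e'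
  have k1 := congrFun (congrFun f 2) 1
  have k2 := congrFun (congrFun f' 2) 2
  have k3 := congrFun (congrFun f 1) 1
  simp [coe_uT, Matrix.mul_apply, Fin.sum_univ_three] at k1 k2 k3
  exact ⟨by simpa [k2] using k3, k1, k2⟩

end A2Aux

open A1Aux A2Aux in
theorem st_A2 : St_A2 := by
  intro K _ _ h2 _ l hl
  induction l using QuotientGroup.induction_on with | H g => ?_
  obtain ⟨h1, h3, h4⟩ := upper h2 hl
  obtain ⟨a, b, c, x, y, z, h, rfl⟩ := dec h1 h3 h4
  have nx : x ≠ 0 := fun e => by simp [e] at h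
  have ny : y ≠ 0 := fun e => by simp [e] at h
  have nz : z ≠ 0 := fun e => by simp [e] at h
  refine ⟨_, (memU h2).2 ⟨a, b, c, rfl⟩, _, dg_aU h, rfl, x * y, x, mul_ne_zero nx ny, nx,
    fun t => ?_, fun t => ?_⟩
  · change _ * _ * _ = _
    rw [dg_conj h (by decide)]
    congr 1
    simp
    left
    field_simp
  · change _ * _ * _ = _
    rw [dg_conj h (by decide)]
    congr 1
    simp
    left
    field_simp
    linear_combination -h

end Cfsg.Lib.HM
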