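import Cfsg.Agent.HM.A2

/-! `L₃(q)`: the parabolic subgroup. -/

set_option autoImplicit false
set_option linter.unusedSectionVars false

open scoped commutatorElement MatrixGroups

namespace Cfsg.Lib.HM

open Cfsg Subgroup
open Cfsg.Lib.Fus hiding cj IsSylowIn
open Cfsg.Lib.Trans (cj IsSylowIn QDFrame)
open Cfsg.Lib.Gold (Ns Cs C1)
open Cfsg.Lib.Gomi (AB PosC ZZ E2)
open Cfsg.Lib.Chev (slE stA_slE coe_slE StA)

universe u
open A1Aux A2Aux in
theorem st_A3 : St_A3 := by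
  intro K _ _ h2 _ l hl
  induction l using QuotientGroup.induction_on with | H g => ?_
  obtain ⟨a, c, e⟩ := (memA h2).1 ((hl _).1 ((memA h2).2 ⟨1, 0, rfl⟩))
  have f := lift h2 e
  have k1 := congrFun (congrFun f 1) 1
  have k2 := congrFun (congrFun f 2) 1
  simp [coe_uT, Matrix.mul_apply, Fin.sum_univ_three] at k1 k2
  have up : ∀ g : SL(3, K), g.1 1 0 = 0 → g.1 2 0 = 0 → g.1 2 1 = 0 →
      (QuotientGroup.mk g : PSL(3, K)) ∈ Ns (UU K) := fun g h1 h3 h4 => by
    obtain ⟨a, b, c, x, y, z, h, rfl⟩ := dec h1 h3 h4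
    exact mul_mem (le_normalizer ((memU h2).2 ⟨a, b, c, rfl⟩)) (dg_UU h)
  by_cases k3 : g.1 2 1 = 0
  · exact mem_sup_right (up g k1 k2 k3)
  · have := up (pN h2 * (uT 0 (-(g.1 1 1 / g.1 2 1)) 0 * g)) ?_ ?_ ?_
    · rw [QuotientGroup.mk_mul, QuotientGroup.mk_mul, ← aN_eq h2] at this
      exact (mul_mem_cancel_left (mem_sup_right (le_normalizer ((memU h2).2 ⟨_, _, _, rfl⟩)))).1
        ((mul_mem_cancel_left (mem_sup_left (mem_zpowers _))).1 (mem_sup_right this))
    all_goals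
      simp only [Matrix.SpecialLinearGroup.coe_mul, coe_uT, coe_pN, Matrix.mul_apply,
        Fin.sum_univ_three]
      simp [k1, k2, k3]

end Cfsg.Lib.HM
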