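import Cfsg.Agent.HM.A1

/-! `L₃(q)`: the opposite unipotent subgroup. -/

set_option autoImplicit false
set_option linter.unusedSectionVars false

open scoped commutatorElement MatrixGroups

namespace Cfsg.Lib.HM

open Cfsg Subgroup
open Cfsg.Lib.Fus hiding cj IsSylowIn
open Cfsg.Lib.Trans (cj IsSylowIn QDFrame)
open Cfsg.Lib.Gold (Ns Cs C1)
open Cfsg.Lib.Gomi (AB PosC ZZ E2)
open Cfsg.Lib.Chev (slE stA_slE coe_slE StA)

universe u
namespace A4Aux

open A1Aux

variable {K : Type} [Field K]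

theorem posL : PosC (aE K 2 1) (aE K 1 0) (aE K 2 0) (a1 K) := pos (by decide) (by decide) (by decide)

theorem aU_eq : aU K = rA (aE K 2 1) (aE K 2 0) (a1 K) ⊔ rA (aE K 1 0) (aE K 2 0) (a1 K) := by
  refine le_antisymm ((closure_le _).2 ?_) (sup_le ((closure_le _).2 ?_) ((closure_le _).2 ?_)) <;>
    rintro _ ((⟨t, rfl⟩ | ⟨t, rfl⟩) | ⟨t, rfl⟩)
  exacts [mem_sup_right (RtBAux.mx t), mem_sup_left (RtBAux.mx t), mem_sup_left (RtBAux.mz t),
    subset_closure (.inl (.inr ⟨_, rfl⟩)), subset_closure (.inr ⟨_, rfl⟩), one_mem _,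
    subset_closure (.inl (.inl ⟨_, rfl⟩)), subset_closure (.inr ⟨_, rfl⟩), one_mem _]

theorem inf (h2 : (2 : K) = 0) : UU K ⊓ aU K = ⊥ := by
  refine eq_bot_iff.2 fun g ⟨h1, h3⟩ => ?_
  obtain ⟨a, b, c, rfl⟩ := (memU h2).1 h1
  rw [aU_eq] at h3
  obtain ⟨a', b', c', d', e⟩ := (RtBAux.memJ posL h2).1 h3
  rw [a1, mul_one, aE, aE, aE, ← QuotientGroup.mk_mul, ← QuotientGroup.mk_mul, eq_comm,
    Known.PSL_mk_eq_mk_iff] at e
  obtain ⟨s, hs⟩ := e
  simp only [Matrix.SpecialLinearGroup.coe_mul, coe_slE (show (2 : Fin 3) ≠ 1 by decide),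
    coe_slE (show (1 : Fin 3) ≠ 0 by decide), coe_slE (show (2 : Fin 3) ≠ 0 by decide), coe_uT] at hs
  have k1 := congrFun (congrFun hs 0) 1
  have k2 := congrFun (congrFun hs 1) 2
  have k3 := congrFun (congrFun hs 0) 2
  simp [Matrix.mul_apply, Matrix.one_apply, Matrix.single_apply] at k1 k2 k3
  have := prod (0 : K) 0 0 0
  rw [RtBAux.one posU] at this
  rw [mem_bot, k1, k2, k3, this]
  simp

end A4Aux

open A1Aux A4Aux in
theorem st_A4 : St_A4 := by
  intro K _ _ h2 _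
  refine ⟨aU_eq (K := K) ▸ two_of_pos posL h2, inf h2,
    fun a => ⟨subset_closure (.inl (.inl ⟨a, rfl⟩)), mem_Ns ?_⟩,
    fun a => ⟨subset_closure (.inl (.inr ⟨a, rfl⟩)), mem_Ns ?_⟩, ?_⟩
  · rintro _ ((⟨t, rfl⟩ | ⟨t, rfl⟩) | ⟨t, rfl⟩)
    · rw [stA.commute 1 0 1 2 (by decide) (by decide) (by decide) (by decide), mul_inv_cancel_right]
      exact RtBAux.mx t
    · rw [stA.conj_left (by decide) (by decide) (by decide)]
      exact mul_mem (RtBAux.mx _) (RtBAux.mz t)
    · simp [a1]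
  · rintro _ ((⟨t, rfl⟩ | ⟨t, rfl⟩) | ⟨t, rfl⟩)
    · rw [stA.commute 2 1 0 1 (by decide) (by decide) (by decide) (by decide), mul_inv_cancel_right]
      exact RtBAux.mx t
    · rw [stA.inv (by decide), mul_assoc, stA.comm 0 2 1 (by decide) (by decide) (by decide),
        ← mul_assoc, ← mul_assoc,
        stA.commute 2 1 0 1 (by decide) (by decide) (by decide) (by decide), ← stA.inv (by decide),
        mul_inv_cancel_right]
      exact mul_mem (RtBAux.mx _) (RtBAux.mz t)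
    · simp [a1]
  · set H := closure (Set.range (aE K 0 1) ∪ Set.range (aE K 1 2) ∪ Set.range (aE K 1 0) ∪
      Set.range (aE K 2 1))
    have m1 : ∀ t, aE K 0 1 t ∈ H := fun t => subset_closure (.inl (.inl (.inl ⟨t, rfl⟩)))
    have m2 : ∀ t, aE K 1 2 t ∈ H := fun t => subset_closure (.inl (.inl (.inr ⟨t, rfl⟩)))
    have m3 : ∀ t, aE K 1 0 t ∈ H := fun t => subset_closure (.inl (.inr ⟨t, rfl⟩))
    have m4 : ∀ t, aE K 2 1 t ∈ H := fun t => subset_closure (.inr ⟨t, rfl⟩)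
    have cm : ∀ i j k : Fin 3, i ≠ j → j ≠ k → i ≠ k → (∀ t, aE K i j t ∈ H) →
        (∀ t, aE K j k t ∈ H) → ∀ t, aE K i k t ∈ H := fun i j k h1 h3 h4 p q t => by
      have := mul_mem (p t) (q 1)
      rw [stA.comm _ _ _ h1 h3 h4, mul_one] at this
      exact (mul_mem_cancel_right (q 1)).1 ((mul_mem_cancel_right (p t)).1 this)
    have m5 := cm 0 1 2 (by decide) (by decide) (by decide) m1 m2
    have m6 := cm 2 1 0 (by decide) (by decide) (by decide) m4 m3
    have := Chev.closure_slE (H.comap (QuotientGroup.mk' _)) fun a b hab t => by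
      change aE K a b t ∈ H
      fin_cases a <;> fin_cases b
      exacts [absurd rfl hab, m1 t, m5 t, m3 t, absurd rfl hab, m2 t, m6 t, m4 t, absurd rfl hab]
    refine eq_top_iff.2 fun l _ => ?_
    induction l using QuotientGroup.induction_on with | H g => ?_
    exact this.ge (mem_top g)

end Cfsg.Lib.HM
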