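import Cfsg.Agent.HM.A1

/-! `L₃(q)`: automorphisms. -/

set_option autoImplicit false
set_option linter.unusedSectionVars false

open scoped commutatorElement MatrixGroups

namespace Cfsg.Lib.HM

open Cfsg Subgroup
open Cfsg.Lib.Fus hiding cj IsSylowIn
open Cfsg.Lib.Trans (cj IsSylowIn QDFrame)
open Cfsg.Lib.Gold (Ns Cs C1)
open Cfsg.Lib.Gomi (AB PosC ZZ E2)
open Cfsg.Lib.Chev (slE stA_slE coe_slE StA)

universe u
namespace A5Aux

open A1Aux Known

variable {K : Type} [Field K]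

theorem df (d : Fin 3 → Kˣ) (σ : RingAut K) {i j : Fin 3} (h : i ≠ j) (t : K) :
    (innD (Fin 3) K (Chev.glDg d) * fieldAut (Fin 3) K σ) (aE K i j t) =
      aE K i j (d i * ((d j)⁻¹ : Kˣ) * σ t) := by
  rw [MulAut.mul_apply, aE, fieldAut_mk, innD_mk, Chev.slE_eq h, fieldSL_transvection,
    ← Chev.slE_eq h, aE, ← Chev.slCj_slE d h]
  rfl

/-- the permutation matrix of `(0 2)` -/
def w0 : GL (Fin 3) K :=
  ⟨!![0, 0, 1; 0, 1, 0; 1, 0, 0], !![0, 0, 1; 0, 1, 0; 1, 0, 0],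
    by ext i j; fin_cases i <;> fin_cases j <;> simp [Matrix.mul_apply, Fin.sum_univ_three],
    by ext i j; fin_cases i <;> fin_cases j <;> simp [Matrix.mul_apply, Fin.sum_univ_three]⟩

theorem w0_eq_1' : type_of% @w0.eq_1 := @w0.eq_1

theorem gr (h2 : (2 : K) = 0) {i j : Fin 3} (h : i ≠ j) (t : K) :
    (innD (Fin 3) K w0 * graphAut (Fin 3) K) (aE K i j t) = aE K j.rev i.rev t := by
  have e : graphSL (Fin 3) K (slE i j t) = slE j i t := by
    rw [show t = -t by linear_combination t * h2, ← Chev.slIT_slE h,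
      show -t = t by linear_combination -t * h2]
    exact Subtype.ext (coe_graphSL _)
  rw [MulAut.mul_apply, aE, graphAut_mk, innD_mk, e, aE]
  congr 1
  refine Subtype.ext ?_
  rw [coe_conjSL, coe_slE h.symm, coe_slE (Fin.rev_injective.ne h.symm)]
  change !![0, 0, 1; 0, 1, 0; 1, 0, 0] * _ * !![0, 0, 1; 0, 1, 0; 1, 0, 0] = _
  ext k l
  simp only [Matrix.mul_apply, Fin.sum_univ_three, Matrix.add_apply, Matrix.one_apply,
    Matrix.single_apply]
  fin_cases i <;> fin_cases j <;> fin_cases k <;> fin_cases l <;> simp [Fin.rev] at h ⊢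

end A5Aux

open A1Aux A5Aux in
theorem st_A5 : St_A5 := by
  intro K _ _ h2 _
  refine ⟨fun α β σ ha hb => ⟨Known.innD (Fin 3) K (Chev.glDg ![Units.mk0 α ha * Units.mk0 β hb,
    Units.mk0 β hb, 1]) * Known.fieldAut (Fin 3) K σ, mem_Fx ?_, fun t => ?_, fun t => ?_⟩,
    Known.innD (Fin 3) K w0 * Known.graphAut (Fin 3) K, mem_Fx ?_, fun t => ?_, fun t => ?_⟩
  · rintro _ ((⟨t, rfl⟩ | ⟨t, rfl⟩) | ⟨t, rfl⟩) <;> rw [df _ _ (by decide)]
    exacts [subset_closure (.inl (.inl ⟨_, rfl⟩)), subset_closure (.inl (.inr ⟨_, rfl⟩)),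
      subset_closure (.inr ⟨_, rfl⟩)]
  · rw [df _ _ (by decide)]; simp [hb]
  · rw [df _ _ (by decide)]; simp
  · rintro _ ((⟨t, rfl⟩ | ⟨t, rfl⟩) | ⟨t, rfl⟩) <;> rw [gr h2 (by decide)]
    exacts [subset_closure (.inl (.inr ⟨_, rfl⟩)), subset_closure (.inl (.inl ⟨_, rfl⟩)),
      subset_closure (.inr ⟨_, rfl⟩)]
  · rw [gr h2 (by decide)]; simp
  · rw [gr h2 (by decide)]; simp

end Cfsg.Lib.HM
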