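import Cfsg.Agent.HM.St
import Cfsg.Agent.Trans.GenFitting
import Cfsg.Agent.Trans.NormalComplement
import Cfsg.Agent.Rank2.QWFrame

/-! Minimal 2-fusion systems in the pushing-up case: transport of the conclusion. -/

set_option autoImplicit false

open scoped commutatorElement MatrixGroups

namespace Cfsg.Lib.HM

open Cfsg Subgroup
open Cfsg.Lib.Fus hiding cj IsSylowIn
open Cfsg.Lib.Trans (cj IsSylowIn QDFrame)
open Cfsg.Lib.Rank2 (SylEmb DFrame)

universe u

namespace BackAux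

variable {X X' G G' : Type*} [Group X] [Group X'] [Group G] [Group G']

theorem cent_map (e : G ≃* G') {L : Subgroup G} (h : centralizer (L : Set G) = ⊥) :
    centralizer ((L.map (e : G →* G') : Subgroup G') : Set G') = ⊥ := by
  refine eq_bot_iff.2 fun y hy => ?_
  have : e.symm y ∈ centralizer (L : Set G) := mem_centralizer_iff.2 fun x hx => e.injective <| by
    rw [map_mul, map_mul, e.apply_symm_apply]
    exact mem_centralizer_iff.1 hy _ (mem_map_of_mem _ hx)
  rw [h, mem_bot] at this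
  rw [mem_bot, ← e.apply_symm_apply y, this, map_one]

theorem cls_equiv [Finite G] (h : Cls X G) (a : X ≃* X') (e : G ≃* G') : Cls X' G' := by
  have hc : Nat.card X' = Nat.card X := (Nat.card_congr a.toEquiv).symm
  rcases h with ⟨⟨m, hm, ⟨b⟩⟩, K, _, _, hK, h⟩ | ⟨h1, K, _, _, r, hr, hK, L, hL, hi, hC, ⟨b⟩⟩ |
    ⟨h1, h2, ⟨b⟩⟩ | ⟨h1, h⟩ | ⟨h1, F, _, _, ω, h2, h3, ⟨b⟩⟩ | ⟨K, _, _, h1, h2, h3, h4⟩
  · refine Or.inl ⟨⟨m, hm, ⟨a.symm.trans b⟩⟩, K, inferInstance, inferInstance, hK, ?_⟩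
    rcases h with ⟨⟨c⟩⟩ | ⟨⟨c⟩⟩
    · exact Or.inl ⟨e.symm.trans c⟩
    · exact Or.inr ⟨e.symm.trans c⟩
  · refine Or.inr (Or.inl ⟨Rank2.isQuasiDihedral_of_equiv a h1, K, inferInstance, inferInstance, r,
      hr, hK, L.map (e : G →* G'), hL.map _ e.surjective, ?_, cent_map e hC,
      ⟨(e.subgroupMap L).symm.trans b⟩⟩)
    rw [index_map_of_bijective e.bijective, hi]
  · exact Or.inr (Or.inr (Or.inl ⟨Rank2.isQuasiDihedral_of_equiv a h1, hc.trans h2,
      ⟨e.symm.trans b⟩⟩))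
  · refine Or.inr (Or.inr (Or.inr (Or.inl ⟨hc.trans h1, ?_⟩)))
    rcases h with ⟨⟨c⟩⟩ | ⟨⟨c⟩⟩
    · exact Or.inl ⟨e.symm.trans c⟩
    · exact Or.inr ⟨e.symm.trans c⟩
  · exact Or.inr (Or.inr (Or.inr (Or.inr (Or.inl ⟨hc.trans h1, F, inferInstance, inferInstance, ω,
      h2, h3, ⟨e.symm.trans b⟩⟩))))
  · have e1 := Trans.map_genFitting_equiv e
    have e2 := Trans.map_pResidual_of_surjective (p := 2) (e : G →* G') e.surjective
    have b : ↥(generalizedFittingSubgroup G') ≃* ↥(generalizedFittingSubgroup G) :=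
      ((e.subgroupMap _).trans (MulEquiv.subgroupCongr e1)).symm
    refine Or.inr (Or.inr (Or.inr (Or.inr (Or.inr ⟨K, inferInstance, inferInstance, ?_, ?_, ?_,
      ?_⟩))))
    · rcases h1 with ⟨⟨c⟩⟩ | ⟨⟨c⟩, h⟩
      · exact Or.inl ⟨b.trans c⟩
      · exact Or.inr ⟨⟨b.trans c⟩, h⟩
    · rw [← e1, ← e2]
      exact map_mono h2
    · change Odd ((generalizedFittingSubgroup G').relIndex (pResidual 2 G'))
      rw [← e1, ← e2, relIndex_map_map_of_injective _ _ e.injective]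
      exact h3
    · rw [← e2, index_map_of_bijective e.bijective, h4]

end BackAux

open BackAux in
theorem st_Back : St_Back.{u} := by
  intro Ω Γ _ _ S _ F i F' hi hS h ⟨G, _, _, E, hE, hC⟩
  have hinj := injOn_extFun hi
  let e : G ≃* ULift.{u} G := MulEquiv.ulift.symm
  let a : S ≃* i.range := MonoidHom.ofInjective hi
  let E0 := Rk2.precomp E a
  let E' : SylEmb S (ULift.{u} G) := ⟨e.toMonoidHom.comp E0.j, e.injective.comp E0.inj, by
    rw [MonoidHom.range_comp, index_map_of_bijective e.bijective]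
    exact E0.odd⟩
  have key : ∀ x ∈ S, extFun E'.j x = e (extFun E.j (extFun i x)) := fun x hx => by
    rw [extFun_of_mem _ hx, extFun_of_mem _ hx, extFun_of_mem E.j ⟨⟨x, hx⟩, rfl⟩]
    rfl
  refine ⟨ULift.{u} G, inferInstance, inferInstance, E'.j, ?_, Rk2.exists_sylow_eq hS E',
    cls_equiv hC a.symm e⟩
  refine isRealizedBy_of_mor E'.inj (fun P f hf => ?_) fun P f g hP hf hg => ?_
  · obtain ⟨f', hf', e1⟩ := h.mor _ _ hf
    obtain ⟨g, hg⟩ := hf'.exists_conj_of_realized hE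
    refine ⟨e g, fun x hx => ?_⟩
    rw [key _ (hf.maps hx), key _ (hf.le hx), ← e1 x hx, hg _ (mem_img_of_mem _ hx), map_mul,
      map_mul, map_inv]
  · have hm := h.mulOn.mono hP
    have hg' : ∀ x ∈ P, extFun E.j (extFun i (f x)) =
        e.symm g * extFun E.j (extFun i x) * (e.symm g)⁻¹ := fun x hx => e.injective <| by
      rw [map_mul, map_mul, map_inv, e.apply_symm_apply, ← key _ (hf x hx), ← key _ (hP hx),
        hg x hx]
    have h1 : Mor F' (img P (extFun i)) (pullConj E.j (e.symm g)) :=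
      mor_pullConj hE (h.img_le hP) fun y hy => by
        obtain ⟨x, hx, rfl⟩ := hm.mem_img.1 hy
        rw [← hg' x hx]
        exact extFun_mem_range' _ (h.maps (hf x hx))
    obtain ⟨f₀, hf₀, e1⟩ := h.lift _ _ h1
    rw [h.mulOn.pre_img_of_ker_le hP (by rw [h.mulOn.pre_bot_of_injOn hinj]; exact bot_le)]
      at hf₀ e1
    refine hf₀.congr fun x hx => hinj (hf₀.maps hx) (hf x hx) ?_
    rw [← e1 x hx]
    exact (eq_pullConj E.inj (h.maps (hf x hx)) (hg' x hx)).symm

end Cfsg.Lib.HM
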