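import Cfsg.Agent.HM.Nm0

/-! Maps on large subgroups lie in the subsystem. -/

set_option autoImplicit false

open scoped commutatorElement MatrixGroups

namespace Cfsg.Lib.HM

open Cfsg Subgroup
open Cfsg.Lib.Fus hiding cj IsSylowIn
open Cfsg.Lib.Trans (cj IsSylowIn QDFrame)
open Cfsg.Lib.Gold (Ns Cs C1)
open Cfsg.Lib.Gomi (AB PosC ZZ E2)
open Cfsg.Lib.GCT (RB RQ WW QQ VV DD K0 MC)
open Cfsg.Lib.Rank2 (SylEmb DFrame)
open Cfsg.Lib.Fus.Rk2 (FHas TwoCl Rigid autF pullE)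

universe u

theorem st_Big : St_Big.{u} := by
  intro Γ _ _ S F N U s hle as mx
  obtain ⟨h1, hU, Q₀, g₀, hUQ, hQ, hg, r₀, nr₀⟩ := mx.bad
  have key : ∀ (P : Subgroup Γ) (f : Equiv.Perm Γ), Mor F P f →
      Nat.card ↥(S ⊓ Ns U) ≤ Nat.card P → Mor N P f := by
    refine alperin_essential s.two s.sat (fun P f g _ a e c => (a c).congr e)
      (fun P Q f _ a hle c => (a (c.trans (Subgroup.card_le_of_le hle))).restrict hle)
      (fun P Q R f g i _ a b c => (a c).pmul (b (i.card_eq ▸ c)) fun x hx => i.maps hx)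
      fun Q hQ _ f i c => ?_
    obtain ⟨g, r, e⟩ := s.univ.exists_R i.mor
    refine Mor.congr (?_ : R N Q g) fun x hx => (e x hx).symm
    rcases hQ with rfl | hQ
    · exact as g r
    by_contra nr
    have lt := Trans.lt_inf_normalizer s.two (lt_of_isEssential s.two s.sat hQ)
    have := mx.max Q ⟨fun e => h1 (by
      rw [e, card_bot] at c
      exact eq_bot_of_card_le _ ((Subgroup.card_le_of_le (hUQ.trans ‹_›)).trans c)), r.le, Q, g,
      le_rfl, lt.le, mem_normalizer_of_finite fun x hx => e x hx ▸ i.maps hx, r, nr⟩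
    exact absurd (Trans.card_lt_of_lt lt) (not_lt.2 (this.trans c))
  have big : ∀ (Q : Subgroup Γ) (g : Γ), Nat.card ↥(S ⊓ Ns U) ≤ Nat.card Q → R F Q g → R N Q g :=
    fun Q g c r => key Q (Fus.cj g) r c
  refine ⟨big, ?_⟩
  obtain ⟨h, r, n⟩ := s.exists_fn hU
  have k := r₀.cj_le_inf hQ hg
  have := mx.max (cj h U) ⟨mt Trans.cj_eq_bot.1 h1, n.1, cj h Q₀, h * g₀ * h⁻¹, Trans.cj_mono h hUQ,
    (Trans.cj_mono h hQ).trans r.cj_norm_le, conj_mem_Ns hg h, r₀.conj r hQ k, fun r' => nr₀ (by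
      have := r'.conj (big _ h le_rfl r).inv (Trans.cj_mono h hQ) (by
        rw [Trans.cj_cj, inv_mul_cancel_right, Trans.cj_mul]
        exact Trans.cj_mono h k)
      rwa [Trans.cj_inv_cj, show h⁻¹ * (h * g₀ * h⁻¹) * h⁻¹⁻¹ = g₀ by group] at this)⟩
  have c : F.IsConj U (cj h U) := by
    have := Mor.isConj (r.mono (le_inf hU le_normalizer))
    rwa [img_conj] at this
  refine isFullyNormalized_iff.2 ⟨hU, fun f m => le_trans ?_ this⟩
  obtain ⟨f', m', e⟩ := isConj_iff.1 (isConj_trans (isConj_symm c) m.isConj)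
  exact e ▸ (isFullyNormalized_iff.1 n).2 f' m'

end Cfsg.Lib.HM
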