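import Cfsg.Agent.HM.JsF

/-! The exceptional case. -/

set_option autoImplicit false

open scoped commutatorElement MatrixGroups

namespace Cfsg.Lib.HM

open Cfsg Subgroup
open Cfsg.Lib.Fus hiding cj IsSylowIn
open Cfsg.Lib.Trans (cj IsSylowIn QDFrame)
open Cfsg.Lib.Gold (Ns Cs C1)
open Cfsg.Lib.Gomi (AB PosC ZZ E2)
open Cfsg.Lib.GCT (RB RQ WW QQ VV DD K0 MC)
open Cfsg.Lib.Rank2 (SylEmb DFrame)
open Cfsg.Lib.Fus.Rk2 (FHas TwoCl Rigid autF pullE)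

universe u

theorem st_BigB (_hJsF : St_JsF.{u}) (hEN : St_EN.{u}) : St_BigB.{u} := by
  rintro Γ _ _ S F N A A' U y mn h h2 hc rl ⟨h1, hU, Q, g, hUQ, hQ, hg, r, nr⟩ hS
  have e : S ⊓ Ns U = S := inf_eq_left.2 hS
  obtain ⟨M, hM⟩ := mn.mdl U h1 (isFullyNormalized_of_le_normalizer hU hS)
  rcases hEN h (e ▸ hM.syl) hM.chp h2 hc with k | ⟨x, z, jc, cz, nz⟩
  · obtain ⟨m, hm, em⟩ := hM.ext Q g hUQ hQ r hg
    refine absurd ((((rl.jj _ m le_sup_right).2 (hM.mor m hm _ (sup_le hQ (h.le.trans e.ge)) ?_)).mono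
      le_sup_left).congr em) nr
    rw [Trans.cj_sup, Gold.mem_Ns_iff.1 (k hm)]
    exact sup_le (Trans.cj_le_iff.2 fun y hy => (em y hy).symm ▸ r.maps hy) h.le
  have n : C1 z ≤ Ns (zpowers z) := Gold.Cs_zpowers z ▸ Gold.Cs_le_Ns
  have hS' : S ≤ Ns (zpowers z) := ((e ▸ hM.syl.le).trans cz).trans n
  have e' : S ⊓ Ns (zpowers z) = S := inf_eq_left.2 hS'
  have zR := zpowers_le.2 (jc.ZR jc.zZ)
  obtain ⟨M', hM'⟩ := mn.mdl _ (mt zpowers_eq_bot.1 jc.z1)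
    (isFullyNormalized_of_le_normalizer (zR.trans jc.RS) hS')
  have nz' : ¬ M' ≤ Ns (A ⊓ A') := fun k => nz fun m hm => by
    obtain ⟨m', hm', em⟩ := hM'.ext _ m zR (jc.RS.trans e'.ge) (hM.mor m hm _ (jc.RS.trans e.ge)
      ((Gold.mem_Ns_iff.1 (Local.le_normalizer_pCoreOf M hm)).le.trans jc.RS)) (n (cz hm))
    exact mem_normalizer_of_finite fun w hw =>
      em w (jc.ZR hw) ▸ Trans.mem_normalizer_conj (k hm') hw
  rcases hEN h (e' ▸ hM'.syl) hM'.chp h2 hc with k | ⟨x', z', jc', cz', -⟩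
  · exact absurd (fun m hm => h.ab.inf_Cs_S ▸ Gold.mem_Ns_inf (k hm) (Gold.mem_Ns_Cs (k hm))) nz'
  obtain rfl := (jc.fix z' jc'.zZ
    (Gold.mem_C1.1 (cz' ((e' ▸ hM'.syl.le) jc.js.yS)))).resolve_left jc'.z1
  exact ⟨x', z', M', jc', hM', nz'⟩

end Cfsg.Lib.HM
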