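import Cfsg.Agent.HM.St

/-! Minimal 2-fusion systems in the pushing-up case: a rank one block in the model. -/

set_option autoImplicit false

open scoped commutatorElement

namespace Cfsg.Lib.HM

open Cfsg Subgroup Cfsg.Lib.Solv Cfsg.Lib.Trans Cfsg.Lib.Trans.TJ Cfsg.Lib.Trans.MP
  Cfsg.Lib.Trans.PU Cfsg.Lib.Trans.BB Cfsg.Lib.Local.MSS Cfsg.Lib.Gold
open Cfsg.Lib.GCT (RB RQ WW QQ VV DD)

universe u

namespace BlkAux

variable {Γ : Type u} [Group Γ] [Finite Γ] {S : Subgroup Γ} {F N : FusionSystem S}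
  {U M Y : Subgroup Γ}

theorem O_le (m : Mdl F U M) : pCoreOf 2 M ≤ S ⊓ Ns U := Local.pCoreOf_le_sylowIn m.syl

theorem key (m : Mdl F U M) (h1 : S ⊓ Ns U ≤ Y)
    (h : ∀ V, V ≤ S ⊓ Ns U → Y ≤ Ns V → ¬ Bad F N V) {V : Subgroup Γ} (hV : V ≠ ⊥)
    (h2 : V ≤ S ⊓ Ns U) (h3 : Y ≤ Ns V) {g : Γ} (hg : g ∈ M) (hn : g ∈ Ns V) :
    g ∈ NF N (pCoreOf 2 M) := by
  have hO := O_le m
  have nO : g ∈ Ns (pCoreOf 2 M) := Local.le_normalizer_pCoreOf M hg
  have hQ : pCoreOf 2 M ⊔ V ≤ S ⊓ Ns U := sup_le hO h2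
  refine ⟨nO, fun _ => by_contra fun c => h V h2 h3 ⟨hV, h2.trans inf_le_left, pCoreOf 2 M ⊔ V, g,
    le_sup_right, le_inf (hQ.trans inf_le_left) (hQ.trans (h1.trans h3)), hn,
    m.mor g hg _ hQ ?_, fun r => c (r.mono le_sup_left)⟩⟩
  rw [cj_sup, cj_eq_of_mem_normalizer nO, cj_eq_of_mem_normalizer hn]
  exact hQ.trans inf_le_left

end BlkAux

open BlkAux in
theorem st_Blk : St_Blk.{u} := by
  intro Γ _ _ S F N U M Y hU m hM h1 h2 h
  have : Fact (Nat.Prime 2) := ⟨Nat.prime_two⟩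
  set T := S ⊓ Ns U with hT
  have hf := M.subtype_injective
  have TM : T ≤ M := m.syl.le
  have UT : U ≤ T := le_inf m.le le_normalizer
  have eB : (baumannSubgroupOf 2 (T.subgroupOf M)).map M.subtype = baumannSubgroupOf 2 T :=
    red_bau TM
  have nB : Y ≤ Ns (baumannSubgroupOf 2 T) := h2.trans (normalizer_le_bau T)
  have cs : cStarOf 2 (T.subgroupOf M) ≤ (NF N (pCoreOf 2 M)).subgroupOf M := by
    refine sup_le (fun x hx => ?_) (iSup_le fun C x hx => ?_)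
    · have := red_cent_map (f := M.subtype) hx
      rw [map_omegaOneCenter _ hf, map_subgroupOf_eq_of_le TM] at this
      exact key m h1 h (V := omZ 2 T) (omZ_ne_bot m.syl.isPGroup fun e => hU (le_bot_iff.1 (e ▸ UT)))
        (omZ_le T) (le_normalizer_omZ h2) x.2 (centralizer_le_normalizer _ this)
    · obtain ⟨C, c1, c2, c3⟩ := C
      have c4 : C.map M.subtype ≤ baumannSubgroupOf 2 T := eB ▸ map_mono c1
      have c5 := red_char_map hf c3
      rw [eB] at c5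
      exact key m h1 h (V := C.map M.subtype) (fun e => c2 ((map_eq_bot_iff_of_injective _ hf).1 e))
        (c4.trans (bau_le T)) (nB.trans (norm_le_of_char c4 c5)) x.2 (red_norm_map hx)
  have ch : Local.CharP 2 (⊤ : Subgroup M) :=
    subgroupOf_self M ▸ (Local.charP_subgroupOf_iff le_rfl).2 m.chp
  have sy : IsSylowIn 2 (T.subgroupOf M) ⊤ := m.syl.subgroupOf_top
  obtain ⟨E, hE, -, hW⟩ := GCT.exists_rb ch sy cs fun c => hM fun x hx => c (mem_top (⟨x, hx⟩ : M))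
  obtain ⟨⟨q, r⟩, hE'⟩ := hE
  have r' := r.map hf
  rw [eB] at r'
  have eE : (E.map M.subtype).subgroupOf M = E := comap_map_eq_self_of_injective hf E
  have eB' : (baumannSubgroupOf 2 T).subgroupOf M = baumannSubgroupOf 2 (T.subgroupOf M) := by
    rw [← eB]; exact comap_map_eq_self_of_injective hf _
  have eW : WW (E.map M.subtype) = (WW E).map M.subtype :=
    (Local.map_pCoreOf_of_injective _ hf _).symm
  have eQ : QQ (baumannSubgroupOf 2 T) (E.map M.subtype) =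
      (QQ (baumannSubgroupOf 2 (T.subgroupOf M)) E).map M.subtype := by
    rw [QQ, QQ, Local.map_pCoreOf_of_injective _ hf, Subgroup.map_sup, eB]
  have hE'' : ¬ E.map M.subtype ≤ NF N (pCoreOf 2 M) := fun c => hE' (map_le_iff_le_comap.1 c)
  obtain ⟨y, hy, hy'⟩ : ∃ y ∈ Y, ¬ cj y (WW (E.map M.subtype)) ≤ Cs (WW (E.map M.subtype)) := by
    by_contra c
    push Not at c
    obtain ⟨K, _, _, θ, ψ, -, r'⟩ := r'
    have l1 : Gold.ncl (WW (E.map M.subtype)) Y ≤ baumannSubgroupOf 2 T := ncl_le_of_le_Ns r'.W_le_B nB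
    have l2 : Gold.ncl (WW (E.map M.subtype)) Y ≤ QQ (baumannSubgroupOf 2 T) (E.map M.subtype) :=
      fun x hx => (r'.mem_Q (l1 hx)).2 (ncl_le_iff.2 c hx)
    exact hE'' fun e he => key m h1 h (V := Gold.ncl (WW (E.map M.subtype)) Y)
      (fun k => r'.not_cent (le_ncl'.trans (k.le.trans bot_le))) (l1.trans (bau_le T)) le_Ns_ncl
      (map_subtype_le E he) (r'.norm_of le_ncl' l2 he)
  refine ⟨q, E.map M.subtype, y, map_subtype_le E, hE'', by rwa [eE, eB'], r', fun s hs => ?_, hy,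
    hy', fun hn g hg => ?_⟩
  · have := map_mono (f := M.subtype) (hW ⟨s, TM hs⟩ hs)
    rw [map_cj, ← eW] at this
    refine this.trans ?_
    rintro _ ⟨x, hx, rfl⟩
    rw [eW]
    exact red_cent_map hx
  · have nt : Ns (QQ (baumannSubgroupOf 2 (T.subgroupOf M)) E) = ⊤ := by
      refine top_le_iff.1 fun x _ => mem_normalizer_of_cj_le fun w hw => ?_
      have := mem_map_of_mem M.subtype hw
      rw [map_cj, ← eQ, coe_subtype, cj_eq_of_mem_normalizer (hn x.2), eQ] at this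
      exact (mem_map_iff_mem hf).1 this
    have o : GCT.Ov (baumannSubgroupOf 2 (T.subgroupOf M)) ((NF N (pCoreOf 2 M)).subgroupOf M)
        (Ns (QQ (baumannSubgroupOf 2 (T.subgroupOf M)) E)) := nt ▸ ⟨ch, _, sy, rfl, cs⟩
    exact red_norm_map (f := M.subtype) (x := ⟨g, hg⟩) (o.norm_le₀ ⟨⟨q, r⟩, hE'⟩ (nt ▸ mem_top _))

end Cfsg.Lib.HM
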