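import Cfsg.Agent.HM.CB
import Cfsg.Agent.S1026
import Cfsg.Agent.S2326

/-! `B₂(q)`: root subgroups and the Sylow subgroup. -/

set_option autoImplicit false

open scoped commutatorElement MatrixGroups

namespace Cfsg.Lib.HM

open Cfsg Subgroup
open Cfsg.Lib.Trans (cj IsSylowIn)
open Cfsg.Lib.Gold (Ns Cs C1)
open Cfsg.Lib.Gomi (AB PosC)
open Cfsg.Lie Cfsg.Lib.Chev Cfsg.Lib.Chev.Core
open CBAux

namespace C1Aux

variable {K : Type} [Field K]

theorem posRoots : chevB2.posRoots = [4, 5, 6, 7] := by decide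

theorem inj4 {a b c d : K} (h : cX K 4 b * cX K 5 a * cX K 6 c * cX K 7 d = 1) :
    a = 0 ∧ b = 0 ∧ c = 0 ∧ d = 0 := by
  obtain ⟨t, -, ht⟩ := (Cfsg.Agent.S1026.result (F := K) chevB2 mem).1 1 (one_mem _)
  have key : ∀ a b c d : K, cX K 4 b * cX K 5 a * cX K 6 c * cX K 7 d = 1 →
      (fun r : ℕ => if r = 4 then b else if r = 5 then a else if r = 6 then c else
        if r = 7 then d else 0) = t := by
    intro a b c d h
    refine ht _ ⟨fun r hr => ?_, ?_⟩
    · rw [pos_iff] at hr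
      push Not at hr
      simp [hr.1, hr.2.1, hr.2.2.1, hr.2.2.2]
    · have := congrArg (fun g : chevB2.group K =>
        ((g : GL chevB2.Idx K) : Matrix chevB2.Idx chevB2.Idx K)) h
      simp only [coe_mul, Units.val_mul, coe_cX, coe_one] at this
      rw [← this, posRoots]
      simp [ChevalleyDatum.wordMat, mul_assoc]
  have z : ∀ r < 8, cX K r 0 = 1 := fun r hr => rel.zero hr
  have e := (key a b c d h).trans (key 0 0 0 0 (by
    rw [z 4 (by decide), z 5 (by decide), z 6 (by decide), z 7 (by decide)]; simp)).symm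
  exact ⟨by simpa using congrFun e 5, by simpa using congrFun e 4, by simpa using congrFun e 6,
    by simpa using congrFun e 7⟩

theorem cN_eq (h2 : (2 : K) = 0) : cN K = nel chevB2 (cX K) (chevB2.simple 1) 1 := by
  have : CharP K 2 := CharTwo.of_one_ne_zero_of_two_eq_zero one_ne_zero h2
  rw [nel, inv_one, CharTwo.neg_eq]
  rfl

theorem cN_conj (h2 : (2 : K) = 0) (s : ℕ) (hs : s < 8) (a : K) :
    cN K * cX K s a * (cN K)⁻¹ = cX K (chevB2.reflectRoot 1 s) a := by
  have : CharP K 2 := CharTwo.of_one_ne_zero_of_two_eq_zero one_ne_zero h2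
  obtain ⟨η, h1, -, h3⟩ := (rel (K := K)).nconj
  rw [cN_eq h2, h3 1 s (by decide) hs 1 a one_ne_zero, one_zpow, mul_one]
  rcases (h1 1 s (by decide) hs).1 with e | e <;> rw [e] <;> simp [CharTwo.neg_eq]

end C1Aux

open C1Aux in
theorem st_C1 : St_C1 := by
  intro K _ _ h2 _
  have : CharP K 2 := CharTwo.of_one_ne_zero_of_two_eq_zero one_ne_zero h2
  have p := posP (K := K)
  have z : ∀ r < 8, cX K r 0 = 1 := fun r hr => rel.zero hr
  refine ⟨⟨p, fun a b c d h => ?_, .inr ⟨rfl, fun d h => ?_⟩⟩, ?_, fun a => cN_conj h2 5 (by decide) a,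
    fun a => cN_conj h2 6 (by decide) a, fun a => cN_conj h2 7 (by decide) a⟩
  · rw [p.comm₁, mul_assoc, mul_assoc, mul_assoc, mul_assoc, ← mul_assoc (cX K 7 _), ← p.zv,
      mul_assoc, p.addV, ← mul_assoc (cX K 6 _), p.addZ, ← mul_assoc, ← mul_assoc] at h
    obtain ⟨rfl, rfl, h3, h4⟩ := inj4 h
    refine ⟨rfl, rfl, by simpa using h3, ?_⟩
    rw [show d = 0 by simpa using h4, z 7 (by decide)]
  · refine (inj4 (a := 0) (b := 0) (c := 0) ?_).2.2.2
    rw [z 4 (by decide), z 5 (by decide), z 6 (by decide), h]; simp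
  · obtain ⟨P, hP⟩ := Cfsg.Agent.S2326.result (F := K) 2 chevB2 mem
    rw [U_eq, cl_eq, gl_pos, ← hP]
    exact Trans.isSylowIn_top P

end Cfsg.Lib.HM
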