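import Cfsg.Agent.HM.CB
import Cfsg.Agent.S1036
import Cfsg.Agent.S1049

/-! `B₂(q)`: the Borel subgroup. -/

set_option autoImplicit false

open scoped commutatorElement MatrixGroups

namespace Cfsg.Lib.HM

open Cfsg Subgroup
open Cfsg.Lib.Trans (cj IsSylowIn)
open Cfsg.Lib.Gold (Ns Cs C1)
open Cfsg.Lib.Gomi (AB PosC)
open Cfsg.Lie Cfsg.Lib.Chev Cfsg.Lib.Chev.Core
open CBAux

namespace C2Aux

variable {K : Type} [Field K]

theorem coe_hel (r : ℕ) (t : K) :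
    ((hel chevB2 (xGL chevB2 K) r t : GL chevB2.Idx K) : Matrix chevB2.Idx chevB2.Idx K) =
      chevB2.hMat K r t := by
  rw [← word_hWord, Core.certB2.coe_word rootB2]
  rfl

/-- elements of `H` lie in the group and act monomially -/
theorem diag {h : GL chevB2.Idx K} (hh : h ∈ chevB2.diagonalSubgroup K) :
    h ∈ chevB2.group K ∧ ∀ s < 8, ∃ c : K, c ≠ 0 ∧
      ∀ t, h * xGL chevB2 K s t * h⁻¹ = xGL chevB2 K s (c * t) := by
  induction hh using closure_induction with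
  | mem g hg =>
    obtain ⟨r, t, hr, ht, e⟩ := hg
    obtain rfl : g = hel chevB2 (xGL chevB2 K) r t := Units.ext (e.trans (coe_hel r t).symm)
    refine ⟨?_, fun s hs => ?_⟩
    · rw [← word_hWord]
      exact word_mem _ fun p _ => xGL_mem_group _ _
    · exact ⟨_, zpow_ne_zero _ ht, Core.certB2.hel_conj_xGL rootB2 hr hs ht⟩
  | one => exact ⟨one_mem _, fun s _ => ⟨1, one_ne_zero, fun t => by simp⟩⟩
  | mul a b _ _ ha hb =>
    refine ⟨mul_mem ha.1 hb.1, fun s hs => ?_⟩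
    obtain ⟨c, c0, e⟩ := ha.2 s hs
    obtain ⟨d, d0, f⟩ := hb.2 s hs
    refine ⟨c * d, mul_ne_zero c0 d0, fun t => ?_⟩
    rw [mul_assoc c, ← e, ← f]
    group
  | inv a _ ha =>
    refine ⟨inv_mem ha.1, fun s hs => ?_⟩
    obtain ⟨c, c0, e⟩ := ha.2 s hs
    refine ⟨c⁻¹, inv_ne_zero c0, fun t => ?_⟩
    have := e (c⁻¹ * t)
    rw [mul_inv_cancel_left₀ c0] at this
    rw [← this]
    group

theorem rad_eq (J : Set ℕ) : chevB2.unipotentRadical K J =
    gl K fun r => chevB2.IsPosRoot r ∧ ¬ chevB2.InRootSub J r := by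
  simp only [ChevalleyDatum.unipotentRadical, gl, and_assoc]

/-- `N(U_J) = P_J` inside the group -/
theorem mem_par {J : Set ℕ} (hJ : ∀ j ∈ J, j < 2) {P : ℕ → Prop}
    (hP : ∀ r, P r ↔ chevB2.IsPosRoot r ∧ ¬ chevB2.InRootSub J r) {l : chevB2.group K}
    (hl : l ∈ Ns (cl K P)) : (l : GL chevB2.Idx K) ∈ chevB2.parabolicSubgroup K J := by
  rw [cl_congr hP, mem_Ns_cl, ← rad_eq] at hl
  rw [← Cfsg.Agent.S1049.result chevB2 mem J hJ]
  exact ⟨hl, l.2⟩

theorem mem_borel {l : chevB2.group K} (hl : l ∈ Ns (cl K chevB2.IsPosRoot)) :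
    (l : GL chevB2.Idx K) ∈ chevB2.borelSubgroup K := by
  have := mem_par (J := ∅) (by simp) (fun r => ⟨fun h => ⟨h, fun h' => ?_⟩, fun h => h.1⟩) hl
  · simpa [ChevalleyDatum.parabolicSubgroup] using this
  · have h0 := h'.2 0 (by decide) (by simp)
    have h1 := h'.2 1 (by decide) (by simp)
    rcases (pos_iff r).1 h with rfl | rfl | rfl | rfl
    · exact absurd h1 (by decide)
    · exact absurd h0 (by decide)
    · exact absurd h0 (by decide)
    · exact absurd h0 (by decide)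

end C2Aux

open C2Aux in
theorem st_C2 : St_C2 := by
  intro K _ _ h2 _ l hl
  have : CharP K 2 := CharTwo.of_one_ne_zero_of_two_eq_zero one_ne_zero h2
  rw [U_eq] at hl ⊢
  have hb : (l : GL chevB2.Idx K) ∈ ((chevB2.posUnipotent K ⊔ chevB2.diagonalSubgroup K :
      Subgroup (GL chevB2.Idx K)) : Set (GL chevB2.Idx K)) := mem_borel hl
  rw [coe_mul_of_right_le_normalizer_left _ _ (Cfsg.Agent.S1036.result chevB2 mem).1] at hb
  obtain ⟨w, hw, h, hh, e⟩ := hb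
  obtain ⟨hG, hd⟩ := diag hh
  have hd' : ∀ s < 8, ∃ c : K, c ≠ 0 ∧ ∀ t, (⟨h, hG⟩ : chevB2.group K) * cX K s t *
      (⟨h, hG⟩ : chevB2.group K)⁻¹ = cX K s (c * t) := fun s hs => by
    obtain ⟨c, c0, f⟩ := hd s hs
    exact ⟨c, c0, fun t => Subtype.ext (f t)⟩
  refine ⟨⟨w, gl_le chevB2.IsPosRoot hw⟩, mem_cl_iff.2 hw, ⟨h, hG⟩, ?_, Subtype.ext e.symm, ?_⟩
  · rw [cU_eq]
    refine mem_Ns_of fun r t hr => ?_
    obtain ⟨c, -, f⟩ := hd' r hr.1
    rw [f]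
    exact mem_cl hr _
  · obtain ⟨α, α0, fα⟩ := hd' 5 (by decide)
    obtain ⟨β, β0, fβ⟩ := hd' 4 (by decide)
    obtain ⟨γ, rfl⟩ : ∃ γ : K, γ ^ 2 = β := surjective_frobenius K 2 β
    have γ0 : γ ≠ 0 := fun h => β0 (by simp [h])
    refine ⟨α * γ ^ 2, α * γ, mul_ne_zero α0 β0, mul_ne_zero α0 γ0, fun a => ?_, fun a => ?_⟩
    · rw [show (α * γ ^ 2)⁻¹ * (α * γ) ^ 2 = α by field_simp]
      exact fα a
    · rw [show (α * γ ^ 2) ^ 2 * (α * γ)⁻¹ ^ 2 = γ ^ 2 by field_simp]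
      exact fβ a

end Cfsg.Lib.HM
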