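import Cfsg.Agent.HM.C1
import Cfsg.Agent.HM.C2

/-! `B₂(q)`: the parabolic subgroup. -/

set_option autoImplicit false

open scoped commutatorElement MatrixGroups

namespace Cfsg.Lib.HM

open Cfsg Subgroup
open Cfsg.Lib.Trans (cj IsSylowIn)
open Cfsg.Lib.Gold (Ns Cs C1)
open Cfsg.Lib.Gomi (AB PosC)
open Cfsg.Lie Cfsg.Lib.Chev Cfsg.Lib.Chev.Core
open CBAux

open C2Aux in
theorem st_C3 : St_C3 := by
  intro K _ _ h2 _ l hl
  rw [rA_eq] at hl
  rw [U_eq]
  have hp := mem_par (J := {1}) (by simp) (fun r => ⟨?_, fun h => ?_⟩) hl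
  · have hle : chevB2.parabolicSubgroup K {1} ≤
        (zpowers (cN K) ⊔ Ns (cl K chevB2.IsPosRoot)).map (chevB2.group K).subtype := by
      refine sup_le (sup_le (fun g hg => ?_) fun g hg => ?_) ((closure_le _).2 ?_)
      · exact ⟨⟨g, gl_le chevB2.IsPosRoot hg⟩, mem_sup_right (le_normalizer (mem_cl_iff.2 hg)), rfl⟩
      · exact ⟨⟨g, (diag hg).1⟩, mem_sup_right (mem_Ns_cl.2
          ((Cfsg.Agent.S1036.result chevB2 mem).1 hg)), rfl⟩
      · rintro g ⟨j, rfl, -, e⟩
        refine ⟨cN K, mem_sup_left (mem_zpowers _), Units.ext ?_⟩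
        rw [e, C1Aux.cN_eq h2]
        simp [nel, ChevalleyDatum.nMat, ChevalleyDatum.nWord, ChevalleyDatum.wordMat, coe_cX,
          mul_assoc]
    obtain ⟨g, hg, e⟩ := hle hp
    exact (Subtype.ext e : g = l) ▸ hg
  · rintro (rfl | rfl | rfl) <;>
      exact ⟨by decide, fun h => absurd (h.2 0 (by decide) (by simp)) (by decide)⟩
  · rcases (pos_iff r).1 h.1 with rfl | h'
    · refine absurd ⟨by decide, fun i hi h1 => ?_⟩ h.2
      have hi' : i < 2 := hi
      interval_cases i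
      · rfl
      · exact absurd rfl h1
    · exact h'

end Cfsg.Lib.HM
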