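import Cfsg.Agent.HM.CB
import Cfsg.Agent.S1037
import Cfsg.Agent.S1045
import Cfsg.Agent.S2326

/-! `B₂(q)`: the opposite unipotent subgroup. -/

set_option autoImplicit false

open scoped commutatorElement MatrixGroups

namespace Cfsg.Lib.HM

open Cfsg Subgroup
open Cfsg.Lib.Trans (cj IsSylowIn)
open Cfsg.Lib.Gold (Ns Cs C1)
open Cfsg.Lib.Gomi (AB PosC)
open Cfsg.Lie Cfsg.Lib.Chev Cfsg.Lib.Chev.Core
open CBAux

namespace C4Aux

variable {K : Type} [Field K]

theorem neg_mem (i : ℕ) (hi : i < 2) {P : ℕ → Prop}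
    (hP : ∀ r, P r ↔ chevB2.IsPosRoot r ∧ r ≠ chevB2.simple i) (a : K) :
    cX K (chevB2.neg (chevB2.simple i)) a ∈ Ns (cl K P) := by
  rw [cl_congr hP, mem_Ns_cl]
  have := (Cfsg.Agent.S1045.result (F := K) chevB2 mem i hi).1
    (mem_sup_right (subset_closure ⟨a, coe_cX _ a⟩))
  simpa only [gl, and_assoc] using this

theorem map_negAut : (cl K chevB2.IsPosRoot).map
    ((negAut rootB2).aut K Core.certB2 rootB2).toMonoidHom = cl K chevB2.IsNegRoot := by
  have e : ∀ s < 8, ∀ t : K, (negAut rootB2).aut K Core.certB2 rootB2 (cX K s t) =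
      cX K (chevB2.neg s) (-t) := fun s hs t => negAut_xG Core.certB2 rootB2 hs t
  refine le_antisymm (map_le_iff_le_comap.2 (cl_le fun r t hr => ?_)) (cl_le fun r t hr => ?_)
  · change (negAut rootB2).aut K Core.certB2 rootB2 (cX K r t) ∈ cl K chevB2.IsNegRoot
    rw [e r hr.1]
    rcases (pos_iff r).1 hr with rfl | rfl | rfl | rfl <;> exact mem_cl (by decide) _
  · refine ⟨cX K (chevB2.neg r) (-t), ?_, ?_⟩
    · rcases (neg_iff r).1 hr with rfl | rfl | rfl | rfl <;> exact mem_cl (by decide) _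
    · change (negAut rootB2).aut K Core.certB2 rootB2 _ = _
      rcases (neg_iff r).1 hr with rfl | rfl | rfl | rfl <;>
        rw [e _ (by decide), neg_neg] <;> rfl

end C4Aux

open C4Aux in
theorem st_C4 : St_C4 := by
  intro K _ _ h2 hq
  have : CharP K 2 := CharTwo.of_one_ne_zero_of_two_eq_zero one_ne_zero h2
  refine ⟨?_, ?_, fun a => ⟨?_, ?_⟩, fun a => ⟨?_, ?_⟩, ?_⟩
  · obtain ⟨P, hP⟩ := Cfsg.Agent.S2326.result (F := K) 2 chevB2 mem
    rw [cU_eq, ← map_negAut, cl_eq, gl_pos, ← hP]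
    exact P.isPGroup'.map _
  · rw [U_eq, cU_eq, eq_bot_iff]
    intro g hg
    have : (g : GL chevB2.Idx K) ∈ chevB2.borelSubgroup K ⊓ chevB2.negUnipotent K :=
      ⟨mem_sup_left (mem_cl_iff.1 hg.1), mem_cl_iff.1 hg.2⟩
    rw [(Cfsg.Agent.S1037.result chevB2 mem).1] at this
    exact Subtype.ext this
  · rw [cU_eq]; exact mem_cl (by decide) a
  · rw [rA_eq]
    refine neg_mem 0 (by decide) (fun r => ?_) a
    rw [pos_iff, show chevB2.simple 0 = 5 from rfl]
    omega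
  · rw [cU_eq]; exact mem_cl (by decide) a
  · rw [rA_eq]
    refine neg_mem 1 (by decide) (fun r => ?_) a
    rw [pos_iff, show chevB2.simple 1 = 4 from rfl]
    omega
  · rw [eq_top_iff, ← Core.certB2.closure_xG_eq_top rootB2, closure_le]
    set H := closure (Set.range (cX K 5) ∪ Set.range (cX K 4) ∪ Set.range (cX K 2) ∪
      Set.range (cX K 3))
    have h5 : ∀ a, cX K 5 a ∈ H := fun a => subset_closure (.inl (.inl (.inl ⟨a, rfl⟩)))
    have h4 : ∀ a, cX K 4 a ∈ H := fun a => subset_closure (.inl (.inl (.inr ⟨a, rfl⟩)))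
    have h2' : ∀ a, cX K 2 a ∈ H := fun a => subset_closure (.inl (.inr ⟨a, rfl⟩))
    have h3 : ∀ a, cX K 3 a ∈ H := fun a => subset_closure (.inr ⟨a, rfl⟩)
    obtain ⟨h6, h7⟩ := gen posP h2 hq h5 h4
    obtain ⟨h1, h0⟩ := gen posN h2 hq h2' h3
    rintro _ ⟨r, t, hr, rfl⟩
    change r < 8 at hr
    interval_cases r
    exacts [h0 t, h1 t, h2' t, h3 t, h4 t, h5 t, h6 t, h7 t]

end Cfsg.Lib.HM
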