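import Cfsg.Agent.HM.CB
import Cfsg.Agent.S1098

/-! `B₂(q)`: automorphisms. -/

set_option autoImplicit false

open scoped commutatorElement MatrixGroups

namespace Cfsg.Lib.HM

open Cfsg Subgroup
open Cfsg.Lib.Trans (cj IsSylowIn)
open Cfsg.Lib.Gold (Ns Cs C1)
open Cfsg.Lib.Gomi (AB PosC)
open Cfsg.Lie Cfsg.Lib.Chev Cfsg.Lib.Chev.Core
open CBAux

theorem st_C5 : St_C5 := by
  intro K _ _ h2 hq
  have : CharP K 2 := CharTwo.of_one_ne_zero_of_two_eq_zero one_ne_zero h2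
  refine ⟨fun α β σ α0 β0 => ?_, ?_⟩
  · let c : Fin chevB2.rank → Kˣ := fun i => if i.1 = 0 then Units.mk0 α α0 else Units.mk0 β β0
    have hχ := isRootCharacter_latChar rootB2 c
    have e : ∀ r < 8, ∀ t : K, ((groupCongr chevB2 σ).trans (Core.certB2.diagAut rootB2 hχ))
        (cX K r t) = cX K r (latChar c (rootB2.rc r) * σ t) := fun r hr t => by
      rw [MulEquiv.trans_apply, cX, Core.certB2.groupCongr_xG rootB2,
        Core.certB2.diagAut_xG rootB2 hχ hr]
      rfl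
    have e0 : latChar c (rootB2.rc 5) = Units.mk0 α α0 := by
      rw [show rootB2.rc 5 = _ from rootB2.rc_simple ⟨0, by decide⟩, latChar_single]
      rfl
    have e1 : latChar c (rootB2.rc 4) = Units.mk0 β β0 := by
      rw [show rootB2.rc 4 = _ from rootB2.rc_simple ⟨1, by decide⟩, latChar_single]
      rfl
    refine ⟨(groupCongr chevB2 σ).trans (Core.certB2.diagAut rootB2 hχ), ?_, fun a => ?_,
      fun a => ?_⟩
    · rw [cU_eq]
      refine mem_Fx fun r t hr => ?_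
      rw [e r hr.1]
      exact mem_cl hr _
    · rw [e 5 (by decide), e0, Units.val_mk0]
    · rw [e 4 (by decide), e1, Units.val_mk0]
  · obtain ⟨τ, hτ⟩ := Cfsg.Agent.S1098.result (K := K) (surjective_frobenius K 2)
      (chevB2, [(1, 2), (0, 1)]) (by simp)
    have e5 : ∀ t, τ (cX K 5 t) = cX K 4 (t ^ 2) := fun t =>
      eq_iff.1 ((hτ (cX K 5 t) 0 t (by decide)).1 (coe_cX 5 t))
    have e4 : ∀ t, τ (cX K 4 t) = cX K 5 (t ^ 1) := fun t =>
      eq_iff.1 ((hτ (cX K 4 t) 1 t (by decide)).1 (coe_cX 4 t))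
    have e2 : ∀ t, τ (cX K 2 t) = cX K 3 (t ^ 2) := fun t =>
      eq_iff.1 ((hτ (cX K 2 t) 0 t (by decide)).2 (coe_cX 2 t))
    have e3 : ∀ t, τ (cX K 3 t) = cX K 2 (t ^ 1) := fun t =>
      eq_iff.1 ((hτ (cX K 3 t) 1 t (by decide)).2 (coe_cX 3 t))
    refine ⟨τ, ?_, fun a => ?_, fun a => ?_⟩
    · have hle : cU K ≤ (cl K chevB2.IsNegRoot).comap τ.toMonoidHom :=
        cU_le h2 hq (fun a => by
          change τ (cX K 2 a) ∈ cl K chevB2.IsNegRoot
          rw [e2]; exact mem_cl (by decide) _) fun a => by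
          change τ (cX K 3 a) ∈ cl K chevB2.IsNegRoot
          rw [e3]; exact mem_cl (by decide) _
      rw [cU_eq] at hle ⊢
      exact mem_Fx fun r t hr => hle (mem_cl hr t)
    · rw [e5, one_mul]; rfl
    · rw [e4, one_mul, pow_one]; rfl

end Cfsg.Lib.HM
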