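import Cfsg.Agent.HM.St

/-! Minimal 2-fusion systems in the pushing-up case: `A` is self-centralising in its model. -/

set_option autoImplicit false

open scoped commutatorElement

namespace Cfsg.Lib.HM

open Cfsg Subgroup Cfsg.Lib.Solv Cfsg.Lib.Trans Cfsg.Lib.Trans.TJ Cfsg.Lib.Trans.MP
  Cfsg.Lib.Trans.PU Cfsg.Lib.Trans.BB Cfsg.Lib.Local.MSS Cfsg.Lib.Gold
open Cfsg.Lib.Gomi (AB ZZ E2)
open Cfsg.Lib.GCT (RB RQ WW QQ VV DD K0)

universe u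

theorem st_CA (hCM : St_CM.{u}) : St_CA.{u} := by
  intro Γ _ _ S F q A A' M E y c
  refine hCM c.mdl fun x hx => ?_
  obtain ⟨K, _, _, θ, ψ, -, r⟩ := c.rq
  have e := (r.inf_eq (A' := A') (c.qA.symm ▸ c.ab) (by rw [c.qA])).1
  rw [c.qA] at e
  have := GCT.cent_le_bau (S := S ⊓ Ns A) (x := x) ⟨⟨hx.1, cent_le_norm _ hx.2⟩, by
    rw [c.bau, ← e]; exact TJ.centralizer_anti inf_le_left hx.2⟩
  exact c.ab.inf_Cs.le ⟨c.bau ▸ this, hx.2⟩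

end Cfsg.Lib.HM
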