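import Cfsg.Agent.HM.RtB

/-! Root elements of `B₂(q)` in characteristic two: common facts. -/

set_option autoImplicit false

open scoped commutatorElement MatrixGroups

namespace Cfsg.Lib.HM

open Cfsg Subgroup
open Cfsg.Lib.Gold (Ns Cs C1)
open Cfsg.Lib.Gomi (AB PosC)
open Cfsg.Lie Cfsg.Lib.Chev Cfsg.Lib.Chev.Core

namespace CBAux

variable {K : Type} [Field K]

theorem mem : chevB2 ∈ [chevG2, chevB2, chevD4, chevF4, chevE6, chevE7, chevE8] := by simp

theorem rel : StRelN chevB2 (cX K) := Core.certB2.stRelN_xG K rootB2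

theorem eq_iff {g : chevB2.group K} {r : ℕ} {t : K} :
    ((g : GL chevB2.Idx K) : Matrix chevB2.Idx chevB2.Idx K) = chevB2.x K r t ↔ g = cX K r t :=
  Core.certB2.eq_xG_iff rootB2

theorem coe_cX (r : ℕ) (t : K) :
    ((cX K r t : GL chevB2.Idx K) : Matrix chevB2.Idx chevB2.Idx K) = chevB2.x K r t :=
  eq_iff.2 rfl

variable (K) in
/-- the subgroup generated by the root elements with index in `P` -/
def cl (P : ℕ → Prop) : Subgroup (chevB2.group K) := closure {g | ∃ r t, P r ∧ g = cX K r t}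

variable (K) in
/-- the same subgroup in the general linear group -/
def gl (P : ℕ → Prop) : Subgroup (GL chevB2.Idx K) :=
  closure {g | ∃ r t, P r ∧ (g : Matrix chevB2.Idx chevB2.Idx K) = chevB2.x K r t}

theorem mem_cl {P : ℕ → Prop} {r : ℕ} (h : P r) (t : K) : cX K r t ∈ cl K P :=
  subset_closure ⟨r, t, h, rfl⟩

theorem map_cl (P : ℕ → Prop) : (cl K P).map (chevB2.group K).subtype = gl K P := by
  rw [cl, MonoidHom.map_closure, gl]
  congr 1
  ext g
  constructor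
  · rintro ⟨_, ⟨r, t, h, rfl⟩, rfl⟩
    exact ⟨r, t, h, coe_cX r t⟩
  · rintro ⟨r, t, h, e⟩
    exact ⟨_, ⟨r, t, h, rfl⟩, Units.ext ((coe_cX r t).trans e.symm)⟩

theorem gl_le (P : ℕ → Prop) : gl K P ≤ chevB2.group K := by
  rw [← map_cl]; exact map_subtype_le _

theorem cl_eq (P : ℕ → Prop) : cl K P = (gl K P).subgroupOf (chevB2.group K) := by
  rw [← map_cl, subgroupOf, comap_map_eq_self_of_injective (subtype_injective _)]

theorem mem_cl_iff {P : ℕ → Prop} {g : chevB2.group K} :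
    g ∈ cl K P ↔ (g : GL chevB2.Idx K) ∈ gl K P := by
  rw [cl_eq, mem_subgroupOf]

theorem mem_Ns_cl {P : ℕ → Prop} {g : chevB2.group K} :
    g ∈ Ns (cl K P) ↔ (g : GL chevB2.Idx K) ∈ normalizer (gl K P : Set (GL chevB2.Idx K)) := by
  rw [cl_eq]
  change g ∈ normalizer _ ↔ _
  rw [← subgroupOf_normalizer_eq (gl_le P), mem_subgroupOf]

theorem cl_congr {P Q : ℕ → Prop} (h : ∀ r, P r ↔ Q r) : cl K P = cl K Q := by
  rw [show P = Q from funext fun r => propext (h r)]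

theorem cl_le {P : ℕ → Prop} {H : Subgroup (chevB2.group K)} (h : ∀ r t, P r → cX K r t ∈ H) :
    cl K P ≤ H := by
  refine (closure_le _).2 ?_
  rintro _ ⟨r, t, hr, rfl⟩
  exact h r t hr

theorem rA_eq (a b c : ℕ) :
    rA (cX K a) (cX K b) (cX K c) = cl K fun r => r = a ∨ r = b ∨ r = c := by
  refine le_antisymm ((closure_le _).2 ?_) (cl_le ?_)
  · rintro _ ((⟨t, rfl⟩ | ⟨t, rfl⟩) | ⟨t, rfl⟩)
    exacts [mem_cl (.inl rfl) t, mem_cl (.inr (.inl rfl)) t, mem_cl (.inr (.inr rfl)) t]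
  · rintro r t (rfl | rfl | rfl)
    exacts [RtBAux.mx t, RtBAux.mz t, RtBAux.mv t]

theorem pos_iff (r : ℕ) : chevB2.IsPosRoot r ↔ r = 4 ∨ r = 5 ∨ r = 6 ∨ r = 7 := by
  refine ⟨fun h => ?_, ?_⟩
  · have h1 : r < 8 := h.1
    revert h
    interval_cases r <;> decide
  · rintro (rfl | rfl | rfl | rfl) <;> decide

theorem neg_iff (r : ℕ) : chevB2.IsNegRoot r ↔ r = 0 ∨ r = 1 ∨ r = 2 ∨ r = 3 := by
  refine ⟨fun h => ?_, ?_⟩
  · have h1 : r < 8 := h.1
    revert h
    interval_cases r <;> decide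
  · rintro (rfl | rfl | rfl | rfl) <;> decide

theorem U_eq : rA (cX K 5) (cX K 6) (cX K 7) ⊔ rA (cX K 4) (cX K 6) (cX K 7) =
    cl K chevB2.IsPosRoot := by
  rw [rA_eq, rA_eq]
  refine le_antisymm (sup_le (cl_le ?_) (cl_le ?_)) (cl_le fun r t h => ?_)
  · rintro r t (rfl | rfl | rfl) <;> exact mem_cl (by decide) t
  · rintro r t (rfl | rfl | rfl) <;> exact mem_cl (by decide) t
  · rcases (pos_iff r).1 h with rfl | rfl | rfl | rfl
    exacts [mem_sup_right (mem_cl (.inl rfl) t), mem_sup_left (mem_cl (.inl rfl) t),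
      mem_sup_left (mem_cl (.inr (.inl rfl)) t), mem_sup_left (mem_cl (.inr (.inr rfl)) t)]

theorem cU_eq : cU K = cl K chevB2.IsNegRoot := by
  refine le_antisymm ((closure_le _).2 ?_) (cl_le fun r t h => subset_closure ?_)
  · rintro _ (((⟨t, rfl⟩ | ⟨t, rfl⟩) | ⟨t, rfl⟩) | ⟨t, rfl⟩) <;> exact mem_cl (by decide) t
  · rcases (neg_iff r).1 h with rfl | rfl | rfl | rfl
    exacts [.inl (.inl (.inl ⟨t, rfl⟩)), .inl (.inl (.inr ⟨t, rfl⟩)), .inl (.inr ⟨t, rfl⟩),
      .inr ⟨t, rfl⟩]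

theorem gl_pos : gl K chevB2.IsPosRoot = chevB2.posUnipotent K := rfl

theorem gl_neg : gl K chevB2.IsNegRoot = chevB2.negUnipotent K := rfl

section Two

variable [CharP K 2]

theorem comm_of {r s : ℕ} (h : r < 8 ∧ s < 8 ∧ s ≠ r ∧ s ≠ chevB2.neg r ∧
    ∀ k ∈ chevB2.commTerms r s, k.1 < 8 ∧ k.2.1 % 2 = 0) (u t : K) :
    cX K s u * cX K r t = cX K r t * cX K s u := by
  obtain ⟨hr, hs, h1, h2, h4⟩ := h
  rw [rel.comm r s hr hs h1 h2, Gomi.commWord_two]
  have : word (cX K) (((chevB2.commTerms r s).map fun k => (k.1, k.2.1 % 2, k.2.2)).map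
      fun c : ℕ × ℤ × ℕ × ℕ => (c.1, (c.2.1 : K) * t ^ c.2.2.1 * u ^ c.2.2.2)) = 1 := by
    refine List.prod_eq_one fun g hg => ?_
    simp only [List.map_map, List.mem_map, Function.comp] at hg
    obtain ⟨k, hk, rfl⟩ := hg
    rw [(h4 k hk).2, Int.cast_zero, zero_mul, zero_mul]
    exact rel.zero (h4 k hk).1
  rw [this, mul_one]

theorem posC_of {a b c d : ℕ} (h : a < 8 ∧ b < 8 ∧ c < 8 ∧ d < 8 ∧ a ≠ b ∧ a ≠ chevB2.neg b)
    (e : (chevB2.commTerms b a).map (fun k => (k.1, k.2.1 % 2, k.2.2)) =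
      [(c, 1, 1, 1), (d, 1, 1, 2)])
    (xz : ∀ u t : K, cX K a u * cX K c t = cX K c t * cX K a u)
    (yz : ∀ u t : K, cX K b u * cX K c t = cX K c t * cX K b u)
    (xv : ∀ u t : K, cX K a u * cX K d t = cX K d t * cX K a u)
    (yv : ∀ u t : K, cX K b u * cX K d t = cX K d t * cX K b u)
    (zv : ∀ u t : K, cX K c u * cX K d t = cX K d t * cX K c u) :
    PosC (cX K a) (cX K b) (cX K c) (cX K d) := by
  obtain ⟨ha, hb, hc, hd, h1, h2⟩ := h
  refine ⟨rel.add a ha, rel.add b hb, rel.add c hc, rel.add d hd, fun u t => ?_, xz, yz, xv, yv, zv⟩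
  have h1' : Commute (cX K c (u * t) * cX K d (u ^ 2 * t)) (cX K b t * cX K a u) :=
    ((Commute.symm (yz _ _)).mul_right (Commute.symm (xz _ _))).mul_left
      ((Commute.symm (yv _ _)).mul_right (Commute.symm (xv _ _)))
  rw [mul_assoc (cX K c _ * _), h1'.eq, rel.comm b a hb ha h1 h2, Gomi.commWord_two, e]
  simp [word, mul_comm]

theorem posP : PosC (cX K 5) (cX K 4) (cX K 6) (cX K 7) :=
  posC_of (by decide) (by decide +kernel) (comm_of (by decide +kernel))
    (comm_of (by decide +kernel)) (comm_of (by decide +kernel)) (comm_of (by decide +kernel))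
    (comm_of (by decide +kernel))

theorem posN : PosC (cX K 2) (cX K 3) (cX K 1) (cX K 0) :=
  posC_of (by decide) (by decide +kernel) (comm_of (by decide +kernel))
    (comm_of (by decide +kernel)) (comm_of (by decide +kernel)) (comm_of (by decide +kernel))
    (comm_of (by decide +kernel))

end Two

/-- a subgroup that contains the simple root subgroups contains the other two -/
theorem gen {G : Type*} [Group G] [Fintype K] {x y z v : K → G} (p : PosC x y z v)
    (h2 : (2 : K) = 0) (hq : 2 < Fintype.card K) {H : Subgroup G} (hx : ∀ a, x a ∈ H)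
    (hy : ∀ a, y a ∈ H) : (∀ c, z c ∈ H) ∧ ∀ d, v d ∈ H := by
  have : CharP K 2 := CharTwo.of_one_ne_zero_of_two_eq_zero one_ne_zero h2
  have cm : ∀ a b, ⁅x a, y b⁆ = z (a * b) * v (a ^ 2 * b) := fun a b => by
    rw [commutatorElement_def, p.comm]; group
  obtain ⟨a, a0, a1⟩ := Gomi.exists_ne_zero_one hq
  have hH : ∀ a b, ⁅x a, y b⁆ ∈ H := fun a b =>
    mul_mem (mul_mem (mul_mem (hx a) (hy b)) (inv_mem (hx a))) (inv_mem (hy b))
  have hv : ∀ d, v d ∈ H := fun d => by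
    have n : a ^ 2 + a ≠ 0 := by
      rw [show a ^ 2 + a = a * (a - 1) by linear_combination a * h2]
      exact mul_ne_zero a0 (sub_ne_zero.2 a1)
    have := mul_mem (hH a (d / (a ^ 2 + a))) (hH 1 (a * (d / (a ^ 2 + a))))
    rwa [cm, cm, one_mul, mul_assoc, ← mul_assoc (v _), ← p.zv, mul_assoc, ← mul_assoc,
      Gomi.sq_of_add p.addZ, one_mul, p.addV,
      show a ^ 2 * (d / (a ^ 2 + a)) + 1 ^ 2 * (a * (d / (a ^ 2 + a))) = d by
        rw [one_pow, one_mul, ← add_mul, mul_div_cancel₀ _ n]] at this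
  refine ⟨fun c => ?_, hv⟩
  have := hH 1 c
  rwa [cm, one_mul, mul_mem_cancel_right (hv _)] at this

theorem cU_le [Fintype K] (h2 : (2 : K) = 0) (hq : 2 < Fintype.card K)
    {H : Subgroup (chevB2.group K)} (hx : ∀ a, cX K 2 a ∈ H) (hy : ∀ a, cX K 3 a ∈ H) :
    cU K ≤ H := by
  have : CharP K 2 := CharTwo.of_one_ne_zero_of_two_eq_zero one_ne_zero h2
  obtain ⟨h1, h0⟩ := gen posN h2 hq hx hy
  rw [cU_eq]
  refine cl_le fun r t h => ?_
  rcases (neg_iff r).1 h with rfl | rfl | rfl | rfl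
  exacts [h0 t, h1 t, hx t, hy t]

/-- an automorphism that maps the generators of `cl K P` inside preserves it -/
theorem mem_Fx [Finite K] {P : ℕ → Prop} {φ : MulAut (chevB2.group K)}
    (e : ∀ r t, P r → φ (cX K r t) ∈ cl K P) : φ ∈ Fx (cl K P) := by
  have h1 : (cl K P).map φ.toMonoidHom ≤ cl K P := map_le_iff_le_comap.2 (cl_le e)
  have h2 : (cl K P).map φ.toMonoidHom = cl K P :=
    eq_of_le_of_card_ge h1 (card_map_of_injective φ.injective).ge
  intro g
  refine ⟨fun h => ?_, fun h => h1 ⟨g, h, rfl⟩⟩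
  rw [← h2] at h
  obtain ⟨g', h', e'⟩ := h
  exact φ.injective e' ▸ h'

theorem mem_Ns_of [Finite K] {P : ℕ → Prop} {h : chevB2.group K}
    (e : ∀ r t, P r → h * cX K r t * h⁻¹ ∈ cl K P) : h ∈ Ns (cl K P) :=
  fun g => (mem_Fx (φ := MulAut.conj h) e g).symm

end CBAux

end Cfsg.Lib.HM
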