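import Cfsg.Agent.HM.St

/-! Minimal 2-fusion systems in the pushing-up case: self-centralising subgroups in their models. -/

set_option autoImplicit false

open scoped commutatorElement

namespace Cfsg.Lib.HM

open Cfsg Subgroup Cfsg.Lib.Solv Cfsg.Lib.Trans Cfsg.Lib.Trans.TJ Cfsg.Lib.Trans.MP
  Cfsg.Lib.Trans.PU Cfsg.Lib.Trans.BB Cfsg.Lib.Local.MSS Cfsg.Lib.Gold
open Cfsg.Lib.Gomi (AB ZZ E2)
open Cfsg.Lib.GCT (RB RQ WW QQ VV DD K0)

universe u

theorem st_CM : St_CM.{u} := by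
  intro Γ _ _ S F U M m h
  have : Fact (Nat.Prime 2) := ⟨Nat.prime_two⟩
  have OT := Local.pCoreOf_le_sylowIn m.syl
  have n : M ≤ Ns (Cs U) := fun g hg => mem_Ns_Cs (m.nU hg)
  have hp : IsPGroup 2 ↥(M ⊓ Cs U) := m.chp.isPGroup_of_commutator_le (U := U) inf_le_left
    (commutator_le.2 fun x hx c hc => h ⟨(OT (comm_mem_of_norm' (Local.le_normalizer_pCoreOf M hc.1)
      hx)).1, comm_mem_of_norm (n (pCoreOf_le M hx)) hc.2⟩) inf_le_right
  exact fun x hx => h ⟨(OT (Local.le_pCoreOf inf_le_left (norm_inf le_normalizer n) hp hx)).1, hx.2⟩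

end Cfsg.Lib.HM
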