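import Cfsg.Agent.HM.St
import Cfsg.Agent.Fus.PPrime

/-! Cancellation on centric subgroups. -/

set_option autoImplicit false

open scoped commutatorElement MatrixGroups

namespace Cfsg.Lib.HM

open Cfsg Subgroup
open Cfsg.Lib.Fus hiding cj IsSylowIn
open Cfsg.Lib.Trans (cj IsSylowIn QDFrame)
open Cfsg.Lib.Gold (Ns Cs C1)
open Cfsg.Lib.Gomi (AB PosC ZZ E2)
open Cfsg.Lib.GCT (RB RQ WW QQ VV DD K0 MC)
open Cfsg.Lib.Rank2 (SylEmb DFrame)
open Cfsg.Lib.Fus.Rk2 (FHas TwoCl Rigid autF pullE)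

universe u

theorem st_Cen : St_Cen.{u} := by
  intro Γ _ _ S F N P Q g s hN hle hc hPQ r r'
  exact mor_of_restrict_centric s.two s.sat hN hle r hc hPQ r'

end Cfsg.Lib.HM
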