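import Cfsg.Agent.HM.St
import Cfsg.Agent.Fus.EssBridge

/-! Stabilisers of chains in groups of characteristic two. -/

set_option autoImplicit false

open scoped commutatorElement MatrixGroups

namespace Cfsg.Lib.HM

open Cfsg Subgroup
open Cfsg.Lib.Fus hiding cj IsSylowIn
open Cfsg.Lib.Trans (cj IsSylowIn QDFrame)
open Cfsg.Lib.Gold (Ns Cs C1)
open Cfsg.Lib.Gomi (AB PosC ZZ E2)

universe u

namespace ChainAux

open Cfsg.Lib.Trans Cfsg.Lib.Gold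

variable {G : Type u} [Group G]

/-- elements of `M` whose commutators with `A` lie in `B` -/
def TS (M A B : Subgroup G) (h : M ≤ Ns B) : Subgroup G where
  carrier := {m | m ∈ M ∧ ∀ a ∈ A, ⁅m, a⁆ ∈ B}
  one_mem' := ⟨one_mem _, fun a _ => by simp⟩
  mul_mem' := by
    rintro m m' ⟨h1, h2⟩ ⟨k1, k2⟩
    refine ⟨mul_mem h1 k1, fun a ha => ?_⟩
    have e : ⁅m * m', a⁆ = m * ⁅m', a⁆ * m⁻¹ * ⁅m, a⁆ := by
      simp only [commutatorElement_def]; group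
    rw [e]
    exact mul_mem (mem_normalizer_conj (h h1) (k2 a ha)) (h2 a ha)
  inv_mem' := by
    rintro m ⟨h1, h2⟩
    refine ⟨inv_mem h1, fun a ha => ?_⟩
    have e : ⁅m⁻¹, a⁆ = m⁻¹ * ⁅m, a⁆⁻¹ * m := by
      simp only [commutatorElement_def]; group
    rw [e]
    exact mem_normalizer_conj' (h h1) (inv_mem (h2 a ha))

theorem TS_eq_1' : type_of% @TS.eq_1 := @TS.eq_1

theorem mem_TS {M A B : Subgroup G} {h : M ≤ Ns B} {m : G} :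
    m ∈ TS M A B h ↔ m ∈ M ∧ ∀ a ∈ A, ⁅m, a⁆ ∈ B := Iff.rfl

theorem le_Ns_TS [Finite G] {M A B : Subgroup G} (h : M ≤ Ns B) (hA : M ≤ Ns A) :
    M ≤ Ns (TS M A B h) := fun g hg => mem_normalizer_of_cj_le (cj_le_iff.2 fun m hm => by
  refine ⟨mul_mem (mul_mem hg hm.1) (inv_mem hg), fun a ha => ?_⟩
  have e : ⁅g * m * g⁻¹, a⁆ = g * ⁅m, g⁻¹ * a * g⁆ * g⁻¹ := by
    simp only [commutatorElement_def]; group
  rw [e]
  exact mem_normalizer_conj (h hg) (hm.2 _ (mem_normalizer_conj' (hA hg) ha)))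

end ChainAux

open ChainAux Cfsg.Lib.Trans Cfsg.Lib.Gold in
theorem st_Chain : St_Chain.{u} := by
  intro G _ _ M X Y j hM hX hY hj h1 h2 h3
  have hn := Local.le_normalizer_pCoreOf (p := 2) M
  have hp := Local.isPGroup_pCoreOf (p := 2) M
  have hle : ∀ K : Subgroup G, K ≤ M → M ≤ Ns K → IsPGroup 2 K → K ≤ pCoreOf 2 M :=
    fun K a b c => Local.le_pCoreOf a b c
  have hc : M ⊓ Cs (pCoreOf 2 M) ≤ pCoreOf 2 M := hM
  generalize pCoreOf 2 M = R at h1 h2 h3 hn hp hle hc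
  have hb : M ≤ Ns (⊥ : Subgroup G) := by rw [Ns, normalizer_eq_top]; exact le_top
  refine hle (TS M R X hX ⊓ TS M (R ⊓ X) Y hY ⊓ TS M (R ⊓ Y) ⊥ hb) (fun m hm => hm.1.1.1)
    (le_Ns_inf (le_Ns_inf (le_Ns_TS hX hn) (le_Ns_TS hY (le_Ns_inf hn hX)))
      (le_Ns_TS hb (le_Ns_inf hn hY))) ?_
    ⟨⟨⟨hj, h1⟩, hj, h2⟩, hj, fun r hr =>
      mem_bot.2 (commutatorElement_eq_one_iff_mul_comm.2 (h3 r hr))⟩
  rintro ⟨m, ⟨⟨hm, k1⟩, -, k2⟩, -, k3⟩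
  have hYX : (X ⊓ Y).subgroupOf R ≤ X.subgroupOf R := comap_mono inf_le_left
  have e' : ∀ x : G, x⁻¹ * (m * x * m⁻¹) = ⁅m, x⁻¹⁆⁻¹ := fun x => by
    simp only [commutatorElement_def]; group
  have hmem : conjAut R m (hn hm) ∈ Ess.chainSub hYX := by
    refine Ess.mem_chainSub.2 ⟨Ess.triv_conjAut_top_iff.2 fun x hx => ?_,
      Ess.triv_conjAut_iff.2 fun x hx hx' => ?_, Ess.triv_conjAut_bot_iff.2 fun x hx hx' => ?_⟩
    · rw [e']; exact inv_mem (k1 _ (inv_mem hx))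
    · rw [e']; exact inv_mem ⟨k1 _ (inv_mem hx), k2 _ (inv_mem ⟨hx, hx'⟩)⟩
    · rw [commutatorElement_eq_one_iff_mul_comm.1 (mem_bot.1 (k3 x ⟨hx, hx'.2⟩)),
        mul_inv_cancel_right]
  obtain ⟨k, hk⟩ := Ess.isPGroup_chainSub hp hYX ⟨_, hmem⟩
  have hk' : conjAut R m (hn hm) ^ 2 ^ k = 1 := congrArg Subtype.val hk
  rw [Ess.conjAut_pow, conjAut_eq_one_iff] at hk'
  obtain ⟨l, hl⟩ := hp ⟨_, hc ⟨pow_mem hm _, hk'⟩⟩
  refine ⟨k + l, Subtype.ext ?_⟩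
  have hl' : (m ^ 2 ^ k) ^ 2 ^ l = 1 := congrArg Subtype.val hl
  rw [← pow_mul, ← pow_add] at hl'
  exact hl'

end Cfsg.Lib.HM
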