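import Cfsg.Agent.HM.St

/-! Minimal 2-fusion systems in the pushing-up case: closed subgroups of `B`. -/

set_option autoImplicit false

open scoped commutatorElement

namespace Cfsg.Lib.HM

open Cfsg Subgroup Cfsg.Lib.Solv Cfsg.Lib.Trans Cfsg.Lib.Trans.TJ Cfsg.Lib.Trans.MP
  Cfsg.Lib.Trans.PU Cfsg.Lib.Trans.BB Cfsg.Lib.Local.MSS Cfsg.Lib.Gold
open Cfsg.Lib.Gomi (AB ZZ E2)
open Cfsg.Lib.GCT (RB RQ WW QQ VV DD K0)

universe u

theorem st_Clw : St_Clw.{u} := by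
  intro G _ _ q B E Y ⟨F, _, _, θ, ψ, _, r⟩ YB nB cl
  have : Fact (Nat.Prime 2) := ⟨Nat.prime_two⟩
  refine or_iff_not_imp_left.2 fun hY => ?_
  have n : ∀ {X : Subgroup G}, X ≤ B → E ⊔ B ≤ Ns X → E ⊔ B ≤ Ns (X ⊓ Y) := fun {X} h1 h2 =>
    sup_le (fun e he => mem_normalizer_of_cj_le (cj_le_iff.2 fun x hx =>
      have := mem_normalizer_conj (h2 (mem_sup_left he)) hx.1
      ⟨this, cl e he x hx.2 (h1 this)⟩)) (norm_inf (le_sup_right.trans h2) nB)
  have nQ := n r.Q_le r.nQ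
  have nW := n r.W_le_B r.nW
  have h1 : ¬ QQ B E ⊓ Y ≤ Cs E := by
    intro c
    obtain ⟨y, hy, hy'⟩ := SetLike.not_le_iff_exists.1 hY
    by_cases h : y ∈ QQ B E
    · exact hy' ⟨YB hy, c ⟨h, hy⟩⟩
    · exact r.not_cent fun v hv => r.reg (YB hy) h (r.W_le hv) (c
        ⟨comm_mem_of_norm (r.nQ (mem_sup_right (YB hy))) (r.W_le_Q hv),
          comm_mem_of_norm' (nB (r.W_le_B hv)) hy⟩)
  have h2 : ¬ WW E ⊓ Y ≤ VV B E ⊓ Cs (E ⊔ B) := by
    intro c
    refine h1 (cent_iff.2 (le_bot_iff.1 ?_))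
    refine (commutator_mono le_rfl r.blk.res.ge).trans ?_
    refine Local.commutator_resOf_le_of_le (N := WW E ⊓ Y) (r.pB.to_le (inf_le_right.trans YB))
      (le_sup_left.trans nQ) (fun x _ => cj_eq_self_iff.1 (cj_bot x))
      (commutator_le.2 fun x hx e he => ?_)
      (cent_iff.1 fun x hx => (mem_cent_sup.1 (c hx).2).1).le
    refine ⟨?_, (comm_mem_of_norm' (nQ (mem_sup_left he)) hx).2⟩
    rw [← commutatorElement_inv]
    exact Subgroup.inv_mem _ (r.comm_Q he hx.1)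
  have h3 := r.nat.irr (inf_le_left.trans r.W_le) nW h2
  refine le_trans ?_ (inf_le_right (a := WW E))
  nth_rewrite 1 [WW, ← r.blk.core]
  refine commutator_le.2 fun v hv e he => ?_
  obtain ⟨k, hk, c⟩ := h3 v (r.W_le hv)
  rw [← commutatorElement_inv, show v = k * (k⁻¹ * v) by group,
    comm_mul_cent (comm_eq_one_of_mem he (mem_cent_sup.1 c.2).1)]
  exact inv_mem (comm_mem_of_norm (nW (mem_sup_left he)) hk)

end Cfsg.Lib.HM
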