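import Cfsg.Agent.HM.Loc2
import Cfsg.Agent.S1056
import Cfsg.Agent.Class.PSLSimple

/-! Minimal 2-fusion systems in the pushing-up case: the composition of the steps. -/

set_option autoImplicit false

open scoped commutatorElement MatrixGroups

namespace Cfsg.Lib.HM

open Cfsg Subgroup
open Cfsg.Lib.Fus hiding cj IsSylowIn
open Cfsg.Lib.Trans (cj IsSylowIn)
open Cfsg.Lib.Gold (Ns Cs C1)
open Cfsg.Lib.GCT (DD MC)
open Cfsg.Lib.Rank2 (SylEmb)
open Cfsg.Lib.Fus.Rk2 (pullE)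

universe u

theorem tgt_A (hF : St_Faith) (h1 : St_A1) (h2 : St_A2) (h3 : St_A3) (h4 : St_A4) (h5 : St_A5)
    (K : Type) [Field K] [Fintype K] (two : (2 : K) = 0) (hq : 2 < Fintype.card K) :
    Tgt 1 (aE K 0 1) (aE K 1 2) (aE K 0 2) (a1 K) (aN K) (aU K) := by
  obtain ⟨a, b, c, d, e⟩ := h1 K two hq
  exact ⟨a, Class.PSL_isSimpleGroup (by simp), b, c, d, e, h2 K two hq, h3 K two hq,
    hF a two hq b (h4 K two hq), (h5 K two hq).1, (h5 K two hq).2⟩

theorem charP_two (K : Type) [Field K] (two : (2 : K) = 0) : CharP K 2 :=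
  (CharP.charP_iff_prime_eq_zero Nat.prime_two).2 (by exact_mod_cast two)

theorem finite_B2 (K : Type) [Field K] [Fintype K] : Finite (Lie.chevB2.group K) := inferInstance

theorem tgt_C (hF : St_Faith) (h1 : St_C1) (h2 : St_C2) (h3 : St_C3) (h4 : St_C4) (h5 : St_C5)
    (K : Type) [Field K] [Fintype K] (two : (2 : K) = 0) (hq : 2 < Fintype.card K) :
    Tgt 2 (cX K 5) (cX K 4) (cX K 6) (cX K 7) (cN K) (cU K) := by
  classical
  have := finite_B2 K
  obtain ⟨a, b, c, d, e⟩ := h1 K two hq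
  have hs : ∃ a : K, a ≠ 0 ∧ a ≠ 1 := by
    by_contra h
    push Not at h
    have : (Finset.univ : Finset K) ⊆ {0, 1} := fun x _ => by
      by_cases e : x = 0
      · simp [e]
      · simp [h x e]
    have := (Finset.card_le_card this).trans Finset.card_le_two
    rw [Finset.card_univ] at this
    omega
  exact ⟨a, (Agent.S1056.result hs).1, b, c, d, e, h2 K two hq, h3 K two hq,
    hF a two hq b (h4 K two hq), (h5 K two hq).1, (h5 K two hq).2⟩

section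

variable {Γ : Type u} [Group Γ] [Finite Γ] {S : Subgroup Γ} {F : FusionSystem S}

/-- The realised system of a frame. -/
theorem real (hM : St_Match.{u}) (hC : St_RealC.{u}) (hD : St_RealD.{u}) (hE : St_RealE.{u})
    {K : Type} [Field K] [Fintype K] {m : ℕ} {x y z v : K → Γ} {u s : Γ} {Λ : Subgroup Γ}
    (fr : Fr F m x y z v u s Λ) (hq : 2 < Fintype.card K)
    {L : Type} [Group L] [Finite L] {X Y Z V : K → L} {n : L} {Um : Subgroup L}
    (t : Tgt m X Y Z V n Um)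
    (hL : Nonempty (L ≃* PSL(3, K)) ∨
      (Nonempty (L ≃* PSp 2 K) ∧ ∃ e : ℕ, Odd e ∧ Fintype.card K = 2 ^ e)) :
    ∃ N : FusionSystem S, Concl N ∧ Rl F N (rA x z v) (rA y z v) := by
  obtain ⟨ι, rz⟩ := hM fr hq t
  obtain ⟨E, hj, ⟨e⟩, h1, h2, h3⟩ := hC fr hq t ι rz
  obtain ⟨d1, d2⟩ := hD fr hq t ι rz E hj
  refine ⟨pullE E, ⟨GG ι, inferInstance, inferInstance, E, Rk2.pullE_realized E,
    .inr (.inr (.inr (.inr (.inr ⟨K, inferInstance, inferInstance, ?_, h1, h2, h3⟩))))⟩,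
    Rk2.pullE_saturated fr.lam.js.two E, d1, d2, hE fr hq t ι rz E hj⟩
  exact hL.imp (fun ⟨f⟩ => ⟨e.trans f⟩) fun ⟨⟨f⟩, h⟩ => ⟨⟨e.trans f⟩, h⟩

/-- The case `q > 2`. -/
theorem big (hTJ : St_TJ.{u}) (hJs : St_Js.{u}) (hJsF : St_JsF.{u}) (hTor : St_Tor.{u})
    (hLam : St_Lam.{u}) (hWy : St_Wy.{u}) (hFr : St_Fr.{u}) (hRtG : St_RtG.{u}) (hF : St_Faith)
    (a1 : St_A1) (a2 : St_A2) (a3 : St_A3) (a4 : St_A4) (a5 : St_A5)
    (c1 : St_C1) (c2 : St_C2) (c3 : St_C3) (c4 : St_C4) (c5 : St_C5) (hOdd : St_Odd.{u})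
    (hM : St_Match.{u}) (hC : St_RealC.{u}) (hD : St_RealD.{u}) (hE : St_RealE.{u})
    (hA : St_BigA.{u}) (hB : St_BigB.{u}) (hOne : St_One.{u}) (hJM : St_JM.{u})
    (hJ3 : St_J3s.{u}) (hJU : St_JU.{u})
    {q : ℕ} {A A' M E : Subgroup Γ} {y : Γ} (mn : Min F) (c : Cf F q A A' M E y) (hq : 2 < q) :
    Concl F := by
  have js := hJs c mn.two (hTJ c mn.scl hq) fun h => by omega
  obtain ⟨-, -, -, fn, -⟩ := hJsF (F := F) js
  have hJ : A ⊔ A' ≠ ⊥ := fun h => js.ab.nle (le_sup_left.trans (h.le.trans bot_le))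
  obtain ⟨H, mH⟩ := mn.mdl _ hJ fn
  obtain ⟨s, Λ, lam⟩ := hLam js mH (hTor c hq)
  obtain ⟨K, _, _, u, x, z, p, hK, wy⟩ := hWy c hq lam
  rw [← hK] at hq
  obtain ⟨m, y', v, fr, rfl, rfl⟩ := hFr lam wy hq
  obtain ⟨-, g2, g3⟩ := hRtG fr.rt fr.two hq
  obtain ⟨N, cN, rl⟩ : ∃ N : FusionSystem S, Concl N ∧ Rl F N (rA x z v) (rA y' z v) := by
    rcases fr.rt.typ with ⟨rfl, -⟩ | ⟨rfl, -⟩
    · exact real hM hC hD hE fr hq (tgt_A hF a1 a2 a3 a4 a5 K fr.two hq) (.inl ⟨.refl _⟩)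
    · have := finite_B2 K
      have := charP_two K fr.two
      obtain ⟨f, g, σ, -, -, sw⟩ := fr.swp
      exact real hM hC hD hE fr hq (tgt_C hF c1 c2 c3 c4 c5 K fr.two hq)
        (.inr ⟨Gomi.nonempty_chevB2_equiv_PSp hq, hOdd fr.rt fr.two fr.lam.ss sw⟩)
  by_cases hN : N = F
  · exact hN ▸ cN
  have h4 : 4 < Nat.card (rA x z v) := by
    have : 1 < Nat.card ↥(rA x z v ⊓ rA y' z v) := by
      rw [Subgroup.one_lt_card_iff_ne_bot]
      intro h
      obtain ⟨a, ha, ha'⟩ := js.ab.exists_A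
      obtain ⟨b, hb, hb'⟩ := js.ab.exists_B
      have := js.ab.comm_mem ha hb
      rw [h, mem_bot, commutatorElement_eq_one_iff_mul_comm] at this
      exact (js.ab.mem_or_mem ha hb this).elim ha' hb'
    omega
  obtain ⟨U, bad, hU⟩ := hA mn js h4 rl hN
  obtain ⟨t, w, M', jc, md, hM'⟩ := hB mn js g3 g2 rl bad hU
  have wS : S ≤ C1 w := fun r hr => by
    have hc : ∀ j ∈ rA x z v ⊔ rA y' z v, j * w = w * j := fun j hj => (js.ab.comm_Z hj jc.zZ).symm
    refine mem_centralizer_singleton_iff.2 ?_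
    rcases jc.js.dec r hr with h | h
    · exact hc r h
    · have e : r = t * (t⁻¹ * r) := by group
      rw [e, mul_assoc, hc _ h, ← mul_assoc, jc.xz, mul_assoc]
  have nw : ∀ {g : Γ}, g ∈ C1 w → g ∈ Ns (zpowers w) := fun {g} hg =>
    Subgroup.centralizer_le_normalizer _ (by
      rw [mem_centralizer_iff]
      rintro _ ⟨k, rfl⟩
      exact ((Commute.symm (mem_centralizer_singleton_iff.1 hg)).zpow_left k).eq)
  have eS : S ⊓ Ns (zpowers w) = S := inf_eq_left.2 fun r hr => nw (wS hr)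
  have w2 : w * w = 1 := js.ab.sqA w jc.zZ.1
  have cM : M' ≤ C1 w := fun g hg => by
    have h1 : g * w * g⁻¹ ∈ zpowers w := Trans.mem_normalizer_conj (md.nU hg) (mem_zpowers w)
    rcases Trans.MP.mem_zpowers_two w2 h1 with h | h
    · exact absurd (by simpa using h) jc.z1
    · exact mem_centralizer_singleton_iff.2 (mul_inv_eq_iff_eq_mul.1 h)
  obtain ⟨ρ, jm⟩ := hJM jc (eS ▸ md.syl) md.chp cM hM'
  obtain ⟨N', cN', j3⟩ := hJ3 jm mn.toSat
  have jF : J3s F (rA x z v) M' w :=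
    ⟨mn.toSat, md, fun a ha h1 => hOne c jc.cA jc.cZ w jc.zZ.1 jc.z1 a ha h1⟩
  exact fus_le_antisymm (hJU jm j3 jF) (hJU jm jF j3) ▸ cN'

/-- The theorem in a large ambient group. -/
theorem inner (hMdl : St_Mdl.{u}) (hScl : St_Scl.{u}) (hHP : St_HP.{u}) (hEx : St_ExMx.{u})
    (hTop : St_Top.{u}) (hLoc : St_Loc.{u}) (hTJ2 : St_TJ2.{u}) (hJs : St_Js.{u})
    (hMC : St_MC.{u}) (hDih : St_Dih.{u}) (hQD : St_QD.{u}) (hH8a : St_H8a.{u}) (hH8 : St_H8.{u})
    (hbig : ∀ {q : ℕ} {A A' M E : Subgroup Γ} {y : Γ}, Min F → Cf F q A A' M E y → 2 < q → Concl F)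
    {N : FusionSystem S} (st : Sat F) (hm : HMin F) (hN : N.IsSaturated 2) (hle : N ≤ F)
    (hne : N ≠ F) (hp : HPar F N) : Concl F := by
  have : Fact (Nat.Prime 2) := ⟨Nat.prime_two⟩
  have mn : Min F := ⟨st, hScl st hm, fun U hU hn => hMdl st U hn
    (IsSolvable.isConstrained (st.two.to_le normalizerIn_le) (normSys_saturated st.two st.sat hn)
      (hm U hU hn _ (isNormalizerSystem_normSys F U hn.1)))⟩
  have hp' := hHP st hp
  obtain ⟨U, mx⟩ := hEx st hle hne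
  have as : AS F N := fun g r => by_contra fun h =>
    hp' S (NF_le F S) ⟨fun e => mx.bad.1 (le_bot_iff.1 (e ▸ mx.bad.2.1)), le_rfl, S, g, le_rfl,
      le_inf le_rfl le_normalizer, Trans.mem_normalizer_of_cj_le r.cj_le, r, h⟩
  obtain ⟨q, A, A', M, E, y, c, -⟩ := hLoc mn hN hle as mx (hTop mn hN hle hp' mx)
  rcases c.two_or with hq | hq
  · by_cases hD : DD (A ⊔ A') E = ⊥
    · obtain ⟨h1, h2, h3⟩ := hMC c st.two hq hD
      exact h1.elim (fun h => hDih st.two st.sat h h2 h3) fun h => hQD mn h h3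
    · obtain ⟨r, w, d, hf, g, rg, al⟩ := hH8a c (hJs c st.two (hTJ2 c hq) fun h => hD h.2) hq hD
      exact hH8 st.two st.sat hf al rg
  · exact hbig mn c hq

end

/-- The theorem. -/
theorem outer (hUniv : St_Univ.{u}) (hFwd : St_Fwd.{u}) (hBack : St_Back.{u})
    (hin : ∀ {Γ : Type u} [Group Γ] [Finite Γ] {S : Subgroup Γ} {F N : FusionSystem S}, Sat F →
      HMin F → N.IsSaturated 2 → N ≤ F → N ≠ F → HPar F N → Concl F)
    {Ω : Type u} [Group Ω] {S : Subgroup Ω} [Finite S] {F N : FusionSystem S} (hS : IsPGroup 2 S)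
    (hF : F.IsSaturated 2) (hm : HMin F) (hN : N.IsSaturated 2) (hle : N ≤ F) (hne : N ≠ F)
    (hp : HPar F N) : Goal F := by
  obtain ⟨Γ, _, _, i, hi, un⟩ := hUniv S
  obtain ⟨F', N', h1, h2, h3, h4, h5, h6, h7⟩ := hFwd i hi hS hF hm hN hle hne hp
  exact hBack i hi hS h7 (hin ⟨hS.of_surjective _ i.rangeRestrict_surjective, h1, un⟩ h2 h3 h4 h5 h6)

end Cfsg.Lib.HM
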