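import Cfsg.Agent.GCT.Pair
import Cfsg.Agent.GCT.Ex
import Cfsg.Agent.AB.StC
import Cfsg.Agent.Fus.Rk2Pull
import Cfsg.Agent.Fus.Solvable
import Cfsg.Agent.Fus.LocalModel
import Cfsg.Prelude.Def_FusionComponents
import Cfsg.Prelude.Def_CaseTheorems
import Cfsg.Prelude.Def_Local
import Cfsg.Prelude.Def_Transfer
import Cfsg.Prelude.Def_Classical
import Cfsg.Prelude.Def_Spor_J3

/-! Minimal 2-fusion systems in the pushing-up case: definitions. -/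

set_option autoImplicit false

open scoped commutatorElement MatrixGroups

namespace Cfsg.Lib.HM

open Cfsg Subgroup
open Cfsg.Lib.Fus hiding cj IsSylowIn
open Cfsg.Lib.Trans (cj IsSylowIn)
open Cfsg.Lib.Gold (Ns Cs C1)
open Cfsg.Lib.Gomi (AB PosC)
open Cfsg.Lib.GCT (RB RQ WW QQ VV DD K0 MC)
open Cfsg.Lib.Rank2 (SylEmb)

universe u

/-- The list of pairs (Sylow subgroup, group) of the theorem. -/
def Cls (X : Type*) [Group X] (G : Type*) [Group G] : Prop :=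
  ((∃ m : ℕ, 8 ≤ m ∧ Nonempty (X ≃* DihedralGroup m)) ∧
      ∃ (K : Type) (_ : Field K) (_ : Fintype K), Odd (Fintype.card K) ∧
        (Nonempty (G ≃* Matrix.ProjectiveSpecialLinearGroup (Fin 2) K) ∨
          Nonempty (G ≃* GL (Fin 2) K ⧸ Subgroup.center (GL (Fin 2) K)))) ∨
    (Cfsg.IsQuasiDihedral X ∧
      ∃ (K : Type) (_ : Field K) (_ : Fintype K) (r : ℕ), Odd r ∧ Fintype.card K = r ^ 2 ∧
        ∃ L : Subgroup G, L.Normal ∧ L.index = 2 ∧ Subgroup.centralizer (L : Set G) = ⊥ ∧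
          Nonempty (↥L ≃* Matrix.ProjectiveSpecialLinearGroup (Fin 2) K)) ∨
    (Cfsg.IsQuasiDihedral X ∧ Nat.card X = 16 ∧
      Nonempty (G ≃* Matrix.ProjectiveSpecialLinearGroup (Fin 3) (ZMod 3))) ∨
    (Nat.card X = 32 ∧ (Nonempty (G ≃* MulAut ↥(alternatingGroup (Fin 6))) ∨
      Nonempty (G ≃* MulAut (Matrix.ProjectiveSpecialLinearGroup (Fin 3) (ZMod 3))))) ∨
    (Nat.card X = 2 ^ 7 ∧ Cfsg.Spor.IsoJ3 G) ∨
    (∃ (K : Type) (_ : Field K) (_ : Fintype K),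
      (Nonempty (↥(Cfsg.generalizedFittingSubgroup G) ≃* Matrix.ProjectiveSpecialLinearGroup (Fin 3) K) ∨
        (Nonempty (↥(Cfsg.generalizedFittingSubgroup G) ≃* Cfsg.PSp 2 K) ∧
          ∃ e : ℕ, Odd e ∧ Fintype.card K = 2 ^ e)) ∧
      Cfsg.generalizedFittingSubgroup G ≤ Cfsg.pResidual 2 G ∧
      Odd ((Cfsg.generalizedFittingSubgroup G).subgroupOf (Cfsg.pResidual 2 G)).index ∧
      (Cfsg.pResidual 2 G).index = 2)

section Outer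

variable {Ω : Type u} [Group Ω] {S : Subgroup Ω}

/-- The conclusion of the theorem. -/
def Goal (F : FusionSystem S) : Prop :=
  ∃ (G : Type u) (_ : Group G) (_ : Finite G) (ι : ↥S →* G),
    F.IsRealizedBy ι ∧ (∃ T : Sylow 2 G, (T : Subgroup G) = ι.range) ∧ Cls ↥S G

/-- The conclusion with a group in `Type`. -/
def Concl (F : FusionSystem S) : Prop :=
  ∃ (G : Type) (_ : Group G) (_ : Finite G) (E : SylEmb S G), F.IsRealizedBy E.j ∧ Cls ↥S G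

/-- Normalizer systems are solvable. -/
def HMin (F : FusionSystem S) : Prop :=
  ∀ U : Subgroup Ω, U ≠ ⊥ → F.IsFullyNormalized U →
    ∀ E : FusionSystem (FusionSystem.normalizerIn S U), F.IsNormalizerSystem U E →
      E.IsSolvableSystem

/-- `N` contains the parabolics over `N_F(S)`. -/
def HPar (F N : FusionSystem S) : Prop :=
  ∀ R : Subgroup Ω, R ≠ ⊥ → R ≤ S → S ≤ Subgroup.normalizer (R : Set Ω) →
    (∀ P : Subgroup Ω, F.normalizerHom S P ⊆ F.normalizerHom R P) →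
    ∀ P : Subgroup Ω, F.normalizerHom R P ⊆ N.Hom P

end Outer

section Fusion

variable {Γ : Type u} [Group Γ] {S : Subgroup Γ}

/-- Conjugation by `g` on `P` is a map of `F`. -/
def R (F : FusionSystem S) (P : Subgroup Γ) (g : Γ) : Prop := Mor F P fun x => g * x * g⁻¹

namespace R

variable {F N : FusionSystem S} {P Q : Subgroup Γ} {g h : Γ}

theorem le (r : R F P g) : P ≤ S := Mor.le r

theorem maps (r : R F P g) {x : Γ} (hx : x ∈ P) : g * x * g⁻¹ ∈ S := Mor.maps r hx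

theorem cj_le (r : R F P g) : cj g P ≤ S := Trans.cj_le_iff.2 fun _ hx => r.maps hx

theorem mono (r : R F P g) (hQ : Q ≤ P) : R F Q g := Mor.restrict r hQ

theorem congr (r : R F P g) (e : ∀ x ∈ P, g * x * g⁻¹ = h * x * h⁻¹) : R F P h := Mor.congr r e

theorem of_mem (F : FusionSystem S) (hP : P ≤ S) (hg : g ∈ S) : R F P g := Mor.conj F hP hg

theorem of_cent (F : FusionSystem S) (hP : P ≤ S) (hg : g ∈ Cs P) : R F P g :=
  Mor.of_eqOn_id F hP fun x hx => by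
    have := mem_centralizer_iff.1 hg x hx
    change g * x * g⁻¹ = x
    rw [← this]; simp

/-- first `g` on `P`, then `h` on `Q ≥ P ^ g` -/
theorem comp (r : R F P g) (r' : R F Q h) (hle : cj g P ≤ Q) : R F P (h * g) :=
  Mor.congr (Mor.comp r r' fun x hx => Trans.cj_le_iff.1 hle x hx) fun x _ => by
    simp [mul_assoc]

theorem inv (r : R F P g) : R F (cj g P) g⁻¹ := by
  have := Mor.of_leftInv r (g := fun x => g⁻¹ * x * g⁻¹⁻¹) fun x _ => by simp [mul_assoc]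
  rwa [img_conj] at this

theorem inv' (r : R F P g) (hg : g ∈ Ns P) : R F P g⁻¹ := by
  have := r.inv
  rwa [Trans.cj_eq_of_mem_normalizer hg] at this

theorem of_le (r : R N P g) (h : N ≤ F) : R F P g := by
  obtain ⟨φ, h1, h2⟩ := r
  exact ⟨φ, h P h1, h2⟩

theorem isConjElt (r : R F P g) {x : Γ} (hx : x ∈ P) : F.IsConjElt x (g * x * g⁻¹) :=
  Mor.isConjElt r hx

/-- conjugating a map `g` on `P` by a map `y` on `T` -/
theorem conj {T : Subgroup Γ} {y : Γ} (r : R F P g) (ry : R F T y) (h1 : P ≤ T) (h2 : cj g P ≤ T) :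
    R F (cj y P) (y * g * y⁻¹) := by
  have a := (ry.mono h1).inv
  have b := a.comp r (by rw [Trans.cj_inv_cj])
  have c := b.comp ry (by rw [Trans.cj_mul, Trans.cj_inv_cj]; exact h2)
  rwa [← mul_assoc] at c

end R

/-- The elements that induce an `F`-automorphism of `P ≤ S`. -/
def NF (F : FusionSystem S) (P : Subgroup Γ) : Subgroup Γ where
  carrier := {g | g ∈ Ns P ∧ (P ≤ S → R F P g)}
  one_mem' := ⟨one_mem _, fun h => R.of_mem F h (one_mem _)⟩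
  mul_mem' := fun ha hb => ⟨mul_mem ha.1 hb.1, fun h => (hb.2 h).comp (ha.2 h)
    (Trans.cj_eq_of_mem_normalizer hb.1).le⟩
  inv_mem' := fun ha => ⟨inv_mem ha.1, fun h => (ha.2 h).inv' ha.1⟩

theorem mem_NF {F : FusionSystem S} {P : Subgroup Γ} (hP : P ≤ S) {g : Γ} :
    g ∈ NF F P ↔ g ∈ Ns P ∧ R F P g :=
  ⟨fun h => ⟨h.1, h.2 hP⟩, fun h => ⟨h.1, fun _ => h.2⟩⟩

theorem NF_le (F : FusionSystem S) (P : Subgroup Γ) : NF F P ≤ Ns P := fun _ h => h.1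

/-- The ambient group is large. -/
structure Univ (S : Subgroup Γ) : Prop where
  conj : ∀ P ≤ S, ∀ f : Γ → Γ, MulOn P f → Set.InjOn f P → (∀ x ∈ P, f x ∈ S) →
    ∃ g : Γ, ∀ x ∈ P, f x = g * x * g⁻¹
  emb : ∀ T ≤ S, ∀ (M : Type u) [Group M] [Finite M] (j : T →* M), Function.Injective j →
    Nat.card M ∣ Nat.card S * (Nat.card S).factorial →
      ∃ f : M →* Γ, Function.Injective f ∧ ∀ t : T, f (j t) = t

theorem Univ.exists_R (h : Univ S) {F : FusionSystem S} {P : Subgroup Γ} {f : Γ → Γ}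
    (hf : Mor F P f) : ∃ g, R F P g ∧ ∀ x ∈ P, f x = g * x * g⁻¹ := by
  obtain ⟨g, hg⟩ := h.conj P hf.le f hf.mulOn hf.injOn fun _ hx => hf.maps hx
  exact ⟨g, hf.congr hg, hg⟩

/-- `M ≤ Γ` is a model of `N_F(U)`. -/
structure Mdl (F : FusionSystem S) (U M : Subgroup Γ) : Prop where
  le : U ≤ S
  nU : M ≤ Ns U
  syl : IsSylowIn 2 (S ⊓ Ns U) M
  chp : Local.CharP 2 M
  mor : ∀ m ∈ M, ∀ P ≤ S ⊓ Ns U, cj m P ≤ S → R F P m
  ext : ∀ P g, U ≤ P → P ≤ S ⊓ Ns U → R F P g → g ∈ Ns U →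
    ∃ m ∈ M, ∀ x ∈ P, m * x * m⁻¹ = g * x * g⁻¹

/-- `X` is strongly closed in `N_F(P)`. -/
structure Cl (F : FusionSystem S) (P X : Subgroup Γ) : Prop where
  le : X ≤ S ⊓ Ns P
  cl : ∀ x ∈ X, ∀ g ∈ Ns P, R F (P ⊔ zpowers x) g → g * x * g⁻¹ ∈ X

/-- The form in which the solvability of the normalizer systems is used. -/
def SCL (F : FusionSystem S) : Prop :=
  ∀ P : Subgroup Γ, P ≠ ⊥ → P ≤ S → ∀ D : Subgroup Γ → Prop, D ⊥ → ¬ D (S ⊓ Ns P) →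
    ∃ X' X, Cl F P X' ∧ Cl F P X ∧ X' ≤ X ∧ ⁅X, X⁆ ≤ X' ∧ D X' ∧ ¬ D X

/-- A saturated system in a large ambient group. -/
structure Sat (F : FusionSystem S) : Prop where
  two : IsPGroup 2 S
  sat : F.IsSaturated 2
  univ : Univ S

/-- A minimal system. -/
structure Min (F : FusionSystem S) : Prop extends Sat F where
  scl : SCL F
  mdl : ∀ U, U ≠ ⊥ → F.IsFullyNormalized U → ∃ M, Mdl F U M

/-- `N_F(P)` is not contained in `N`. -/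
def Bad (F N : FusionSystem S) (P : Subgroup Γ) : Prop :=
  P ≠ ⊥ ∧ P ≤ S ∧ ∃ Q g, P ≤ Q ∧ Q ≤ S ⊓ Ns P ∧ g ∈ Ns P ∧ R F Q g ∧ ¬ R N Q g

/-- `N` contains `Aut_F(S)`. -/
def AS (F N : FusionSystem S) : Prop := ∀ g, R F S g → R N S g

/-- `N` contains `N_F(P)` whenever `Aut_F(S)` normalises `P`. -/
def HP (F N : FusionSystem S) : Prop := ∀ P, NF F S ≤ Ns P → ¬ Bad F N P

/-- A bad subgroup with largest normaliser. -/
structure Mx (F N : FusionSystem S) (U : Subgroup Γ) : Prop where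
  bad : Bad F N U
  max : ∀ P, Bad F N P → Nat.card ↥(S ⊓ Ns P) ≤ Nat.card ↥(S ⊓ Ns U)

/-- The fusion of `E` inside `B` lies in `F`. -/
def Lc (F : FusionSystem S) (B E : Subgroup Γ) : Prop := ∀ e ∈ E, ∀ P ≤ B, cj e P ≤ B → R F P e

/-- The outcome of the local analysis. -/
structure Cf (F : FusionSystem S) (q : ℕ) (A A' M E : Subgroup Γ) (y : Γ) : Prop where
  mdl : Mdl F A M
  fn : F.IsFullyNormalized A
  ab : AB A A'
  EM : E ≤ M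
  nE : M ≤ Ns E
  rq : RQ q (A ⊔ A') E
  rm : RQ q ((A ⊔ A').subgroupOf M) (E.subgroupOf M)
  qA : QQ (A ⊔ A') E = A
  bau : baumannSubgroupOf 2 (S ⊓ Ns A) = A ⊔ A'
  yS : y ∈ S
  yA : cj y A = A'
  yB : cj y A' = A
  yT : y ∈ Ns (S ⊓ Ns A)
  dd : DD (A ⊔ A') E ⊓ cj y (DD (A ⊔ A') E) = ⊥
  dc : Nat.card (DD (A ⊔ A') E) ≤ q

/-- Two `F`-automorphisms of `A A'` without common fixed points. -/
def Tor (F : FusionSystem S) (A A' : Subgroup Γ) : Prop :=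
  ∃ g₁ ∈ Ns A ⊓ NF F (A ⊔ A'), ∃ g₂ ∈ Ns A ⊓ NF F (A ⊔ A'),
    (∀ j ∈ A ⊔ A', ⁅g₁, j⁆ ∈ A ⊓ A' → j ∈ A ⊓ A') ∧
      ∀ z ∈ A ⊓ A', g₁ * z = z * g₁ → g₂ * z = z * g₂ → z = 1

/-- `N` and `F` have the same maps on the overgroups of `A A'` and the same automorphisms of `A`. -/
structure Rl (F N : FusionSystem S) (A A' : Subgroup Γ) : Prop where
  sat : N.IsSaturated 2
  sc : N.StronglyClosed (A ⊔ A')
  jj : ∀ P g, A ⊔ A' ≤ P → (R N P g ↔ R F P g)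
  aa : ∀ g ∈ Ns A, (R N A g ↔ R F A g)

end Fusion

section Grp

variable {G : Type*} [Group G]

/-- `S = A A' ⟨y⟩`, `y` swaps `A` and `A'`, the only largest elementary abelian subgroups. -/
structure Js (S A A' : Subgroup G) (y : G) : Prop where
  two : IsPGroup 2 S
  ab : AB A A'
  le : A ⊔ A' ≤ S
  yS : y ∈ S
  yA : cj y A = A'
  yB : cj y A' = A
  dec : ∀ s ∈ S, s ∈ A ⊔ A' ∨ y⁻¹ * s ∈ A ⊔ A'
  wk : ∀ E ≤ S, (∀ e ∈ E, e * e = 1) → Nat.card A ≤ Nat.card E → E = A ∨ E = A'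

/-- The Sylow subgroup of `J₃`. -/
structure Jc (S A A' R : Subgroup G) (x z : G) : Prop where
  js : Js S A A' x
  xx : x * x = 1
  cA : Nat.card A = 16
  cZ : Nat.card ↥(A ⊓ A') = 4
  zZ : z ∈ A ⊓ A'
  z1 : z ≠ 1
  xz : x * z = z * x
  fix : ∀ w ∈ A ⊓ A', x * w = w * x → w = 1 ∨ w = z
  nz : ∀ a ∈ A, a ∉ A' → ⁅a, x * a * x⁻¹⁆ = z
  com : A ⊓ A' ≤ ⁅A, A'⁆
  xR : x ∈ R
  ZR : A ⊓ A' ≤ R
  RS : R ≤ S
  nR : S ≤ Ns R
  RA : R ⊓ A ≤ A'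

/-- The centraliser of the central involution. -/
structure JM (S A A' M : Subgroup G) (x z ρ : G) : Prop where
  jc : Jc S A A' (pCoreOf 2 M) x z
  syl : IsSylowIn 2 S M
  chp : Local.CharP 2 M
  cz : M ≤ C1 z
  card : Nat.card M = 1920
  ρM : ρ ∈ M
  ρ3 : ρ ^ 3 = 1
  ρA : ρ ∈ Ns A ⊓ Ns A'
  ρZ : ρ ∈ Cs (A ⊓ A')
  fpf : ∀ j ∈ A ⊔ A', ⁅ρ, j⁆ ∈ A ⊓ A' → j ∈ A ⊓ A'
  nJ : M ⊓ Ns (A ⊔ A') ≤ S ⊔ zpowers ρ

/-- The relations of the holomorph of the cyclic group of order 8. -/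
structure HR (r w d : G) : Prop where
  r8 : r ^ 8 = 1
  r4 : r ^ 4 ≠ 1
  ww : w * w = 1
  dd : d * d = 1
  wr : w * r * w = r⁻¹
  dr : d * r * d = r ^ 5
  wd : w * d = d * w

/-- `G` is the holomorph of the cyclic group of order 8. -/
structure HF (r w d : G) : Prop extends HR r w d where
  top : closure {r, w, d} = ⊤
  card : Nat.card G = 32

/-- the elementary abelian subgroup of order 8 -/
def A8 (r w d : G) : Subgroup G := closure {w, r ^ 4, d}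

/-- the central product of `Q₈` and `Z₄` -/
def R8 (r w d : G) : Subgroup G := closure {r ^ 2, r * d * w, d}

/-- `g` permutes `z = r⁴, w, w z` cyclically and fixes `d`. -/
def Al (r w d g : G) : Prop :=
  g * r ^ 4 * g⁻¹ = w ∧ g * w * g⁻¹ = w * r ^ 4 ∧ g * d * g⁻¹ = d

variable {K : Type} [Field K]

/-- Positive root elements of type `A₂` (`m = 1`) or `C₂` (`m = 2`). -/
structure Rt (m : ℕ) (x y z v : K → G) : Prop where
  pos : PosC x y z v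
  inj : ∀ a b c d, x a * y b * z c * v d = 1 → a = 0 ∧ b = 0 ∧ c = 0 ∧ v d = 1
  typ : (m = 1 ∧ ∀ d, v d = 1) ∨ (m = 2 ∧ ∀ d, v d = 1 → d = 0)

/-- the subgroup generated by three root subgroups -/
def rA (x z v : K → G) : Subgroup G := closure (Set.range x ∪ Set.range z ∪ Set.range v)

/-- `φ` acts monomially. -/
def Mn (x y : K → G) (φ : G → G) (α β : K) (σ : RingAut K) : Prop :=
  (∀ a, φ (x a) = x (α * σ a)) ∧ ∀ b, φ (y b) = y (β * σ b)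

/-- `φ` swaps the two simple root subgroups. -/
def Sw (m : ℕ) (x y : K → G) (φ : G → G) (f g : K) (σ : RingAut K) : Prop :=
  (∀ a, φ (x a) = y (f * σ a ^ m)) ∧ ∀ b, φ (y b) = x (g * σ b)

/-- The automorphisms that normalise `U`. -/
def Fx (U : Subgroup G) : Subgroup (MulAut G) where
  carrier := {φ | ∀ g, φ g ∈ U ↔ g ∈ U}
  one_mem' := fun _ => Iff.rfl
  mul_mem' := fun {a b} ha hb g => (ha (b g)).trans (hb g)
  inv_mem' := fun {a} ha g => by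
    have := ha (a⁻¹ g)
    rw [MulAut.apply_inv_self] at this
    exact this.symm

/-- What is used of `L₃(q)` and `Sp₄(q)`. -/
structure Tgt (m : ℕ) (X Y Z V : K → G) (n : G) (Um : Subgroup G) : Prop where
  rt : Rt m X Y Z V
  simple : IsSimpleGroup G
  syl : IsSylowIn 2 (rA X Z V ⊔ rA Y Z V) ⊤
  nX : ∀ a, n * X a * n⁻¹ = Z a
  nZ : ∀ a, n * Z a * n⁻¹ = X a
  nV : ∀ a, n * V a * n⁻¹ = V a
  nU : ∀ l ∈ Ns (rA X Z V ⊔ rA Y Z V), ∃ w ∈ rA X Z V ⊔ rA Y Z V, ∃ h ∈ Ns Um, l = w * h ∧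
    ∃ t r : K, t ≠ 0 ∧ r ≠ 0 ∧ Mn X Y (fun g => h * g * h⁻¹) (t⁻¹ * r ^ 2) (t ^ 2 * r⁻¹ ^ m) 1
  nA : Ns (rA X Z V) ≤ zpowers n ⊔ Ns (rA X Z V ⊔ rA Y Z V)
  faith : ∀ φ ∈ Fx Um, (∀ a, φ (X a) = X a) → (∀ b, φ (Y b) = Y b) → φ = 1
  mon : ∀ (α β : K) (σ : RingAut K), α ≠ 0 → β ≠ 0 → ∃ φ ∈ Fx Um, Mn X Y φ α β σ
  swp : ∃ τ ∈ Fx Um, Sw m X Y τ 1 1 1

/-- Coordinates on `A` and `A' / (A ⊓ A')` and a Weyl element `u`. -/
structure Wg (A A' D Λ : Subgroup G) (u : G) (x z : K → G) (p : G → K) : Prop where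
  two : (2 : K) = 0
  addx : ∀ a b, x a * x b = x (a + b)
  addz : ∀ a b, z a * z b = z (a + b)
  xA : ∀ a, x a ∈ A
  zZ : ∀ a, z a ∈ A ⊓ A'
  Dle : D ≤ A ⊓ A'
  xinj : ∀ a, x a ∈ A' → a = 0
  zinj : ∀ a, z a ∈ D → a = 0
  decA : ∀ a ∈ A, ∃ t, (x t)⁻¹ * a ∈ A'
  decZ : ∀ w ∈ A ⊓ A', ∃ t, (z t)⁻¹ * w ∈ D
  padd : ∀ b ∈ A', ∀ b' ∈ A', p (b * b') = p b + p b'
  pker : ∀ b ∈ A', p b = 0 ↔ b ∈ A
  psur : ∀ t, ∃ b ∈ A', p b = t
  comm : ∀ a, ∀ b ∈ A', ⁅x a, b⁆ * z (a * p b) ∈ D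
  nx : ∀ l ∈ Λ, ∀ a, ∃ a', l * x a * l⁻¹ = x a'
  nz : ∀ l ∈ Λ, ∀ a, ∃ a', l * z a * l⁻¹ = z a'
  nD : Λ ≤ Ns D
  tor : ∀ t : K, t ≠ 0 → ∃ l ∈ Λ, (∀ a, l * x a * l⁻¹ = x (t⁻¹ * a)) ∧
    (∀ b ∈ A', p (l * b * l⁻¹) = t ^ 2 * p b) ∧ l ∈ Cs D
  ux : ∀ a, u * x a * u⁻¹ = z a
  uz : ∀ a, u * z a * u⁻¹ = x a
  uD : u ∈ Cs D

/-- The opposite unipotent subgroup. -/
structure Ng (X Y Z V : K → G) (Um : Subgroup G) (Xm Ym : K → G) : Prop where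
  two : IsPGroup 2 Um
  inf : (rA X Z V ⊔ rA Y Z V) ⊓ Um = ⊥
  xm : ∀ a, Xm a ∈ Um ⊓ Ns (rA Y Z V)
  ym : ∀ a, Ym a ∈ Um ⊓ Ns (rA X Z V)
  gen : closure (Set.range X ∪ Set.range Y ∪ Set.range Xm ∪ Set.range Ym) = ⊤

end Grp

section Frame

variable {Γ : Type u} [Group Γ] {S : Subgroup Γ}

/-- A complement `Λ ⟨s⟩` to `J = A A'` in a model of `N_F(J)`. -/
structure Lam (F : FusionSystem S) (A A' : Subgroup Γ) (s : Γ) (Λ : Subgroup Γ) : Prop where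
  js : Js S A A' s
  ss : s * s = 1
  odd : Odd (Nat.card Λ)
  sΛ : s ∈ Ns Λ
  nA : Λ ≤ Ns A
  nB : Λ ≤ Ns A'
  fai : (S ⊔ Λ) ⊓ Cs (A ⊔ A') ≤ A ⊔ A'
  cJ : ∀ j ∈ A ⊔ A', (∀ l ∈ Λ, l * j = j * l) → j = 1
  morJ : ∀ h ∈ S ⊔ Λ, ∀ P ≤ S, cj h P ≤ S → R F P h
  extJ : ∀ P g, A ⊔ A' ≤ P → R F P g → ∃ h ∈ S ⊔ Λ, ∀ p ∈ P, h * p * h⁻¹ = g * p * g⁻¹
  ext0 : ∀ g ∈ Ns A, R F (A ⊔ A') g →
    ∃ j ∈ A ⊔ A', ∃ l ∈ Λ, ∀ p ∈ A ⊔ A', j * l * p * (j * l)⁻¹ = g * p * g⁻¹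

variable {K : Type} [Field K]

/-- The coordinates `Wg` inside the fusion system. -/
structure Wy (F : FusionSystem S) (A A' D Λ : Subgroup Γ) (s u : Γ) (x z : K → Γ) (p : Γ → K) :
    Prop extends Wg A A' D Λ u x z p where
  sD : D = ⊥ ∨ ((∀ d ∈ D, ∃ a, s * d * s⁻¹ = z a) ∧ ∀ a, s * z a * s⁻¹ ∈ D)
  uF : R F A u
  extA : ∀ g ∈ Ns A, R F A g → ∃ h ∈ zpowers u ⊔ (A ⊔ A') ⊔ Λ, ∀ a ∈ A, h * a * h⁻¹ = g * a * g⁻¹

/-- The frame. -/
structure Fr (F : FusionSystem S) (m : ℕ) (x y z v : K → Γ) (u s : Γ) (Λ : Subgroup Γ) : Prop where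
  two : (2 : K) = 0
  rt : Rt m x y z v
  lam : Lam F (rA x z v) (rA y z v) s Λ
  mon : ∀ l ∈ Λ, ∃ α β σ, α ≠ 0 ∧ β ≠ 0 ∧ Mn x y (fun g => l * g * l⁻¹) α β σ
  tor : ∀ t : K, t ≠ 0 → ∃ l ∈ Λ, Mn x y (fun g => l * g * l⁻¹) t⁻¹ (t ^ 2) 1
  swp : ∃ f g σ, f ≠ 0 ∧ g ≠ 0 ∧ Sw m x y (fun g => s * g * s⁻¹) f g σ
  ux : ∀ a, u * x a * u⁻¹ = z a
  uz : ∀ a, u * z a * u⁻¹ = x a
  uv : ∀ a, u * v a * u⁻¹ = v a
  uF : R F (rA x z v) u
  extA : ∀ g ∈ Ns (rA x z v), R F (rA x z v) g →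
    ∃ h ∈ zpowers u ⊔ (rA x z v ⊔ rA y z v) ⊔ Λ, ∀ a ∈ rA x z v, h * a * h⁻¹ = g * a * g⁻¹

/-- The model of `N_F(J)` inside `Aut(L)`. -/
structure Rz {L : Type} [Group L] (H H₀ : Subgroup Γ) (x y z v : K → Γ) (X Y Z V : K → L)
    (ι : H →* MulAut L) : Prop where
  inj : Function.Injective ι
  ix : ∀ a, ∃ h : x a ∈ H, ι ⟨x a, h⟩ = MulAut.conj (X a)
  iy : ∀ a, ∃ h : y a ∈ H, ι ⟨y a, h⟩ = MulAut.conj (Y a)
  iz : ∀ a, ∃ h : z a ∈ H, ι ⟨z a, h⟩ = MulAut.conj (Z a)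
  iv : ∀ a, ∃ h : v a ∈ H, ι ⟨v a, h⟩ = MulAut.conj (V a)
  nU : ∀ l ∈ Ns (rA X Z V ⊔ rA Y Z V), ∃ h : H, (h : Γ) ∈ H₀ ∧ ι h = MulAut.conj l

/-- The group `Inn(L) ι(H)`. -/
abbrev GG {L : Type} [Group L] {H : Subgroup Γ} (ι : H →* MulAut L) : Subgroup (MulAut L) :=
  (MulAut.conj : L →* MulAut L).range ⊔ ι.range

/-- The exceptional case. -/
def Ex (F : FusionSystem S) (A A' : Subgroup Γ) : Prop :=
  ∃ x z M, Jc S A A' (pCoreOf 2 M) x z ∧ Mdl F (zpowers z) M ∧ ¬ M ≤ Ns (A ⊓ A')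

/-- A fusion system like that of `J₃`. -/
structure J3s (F : FusionSystem S) (A M : Subgroup Γ) (z : Γ) : Prop extends Sat F where
  mdl : Mdl F (zpowers z) M
  one : ∀ a ∈ A, a ≠ 1 → F.IsConjElt a z

end Frame

section Targets

variable (K : Type) [Field K]

/-- root elements of `L₃(K)` -/
def aE (i j : Fin 3) (t : K) : PSL(3, K) := QuotientGroup.mk (Chev.slE i j t)

/-- the trivial root subgroup -/
def a1 (_ : K) : PSL(3, K) := 1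

/-- a Weyl element of `L₃(K)` in characteristic two -/
def aN : PSL(3, K) := aE K 1 2 1 * aE K 2 1 1 * aE K 1 2 1

/-- lower unitriangular matrices -/
def aU : Subgroup PSL(3, K) :=
  closure (Set.range (aE K 1 0) ∪ Set.range (aE K 2 1) ∪ Set.range (aE K 2 0))

/-- root elements of `B₂(K)` -/
noncomputable def cX (r : ℕ) (t : K) : Lie.chevB2.group K := Chev.Core.xG Lie.chevB2 K r t

/-- a Weyl element of `B₂(K)` in characteristic two -/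
noncomputable def cN : Lie.chevB2.group K := cX K 4 1 * cX K 3 1 * cX K 4 1

/-- the negative unipotent subgroup -/
noncomputable def cU : Subgroup (Lie.chevB2.group K) :=
  closure (Set.range (cX K 0) ∪ Set.range (cX K 1) ∪ Set.range (cX K 2) ∪ Set.range (cX K 3))

end Targets

end Cfsg.Lib.HM
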