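import Cfsg.Agent.HM.St

/-! Groups of characteristic two over `S`. -/

set_option autoImplicit false

open scoped commutatorElement MatrixGroups

namespace Cfsg.Lib.HM

open Cfsg Subgroup
open Cfsg.Lib.Fus hiding cj IsSylowIn
open Cfsg.Lib.Trans (cj IsSylowIn QDFrame)
open Cfsg.Lib.Gold (Ns Cs C1)
open Cfsg.Lib.Gomi (AB PosC ZZ E2)

universe u

open Cfsg.Lib.Trans Cfsg.Lib.Gold in
theorem st_EN (hEN1 : St_EN1.{u}) (hEN2 : St_EN2.{u}) (hEN3 : St_EN3.{u}) : St_EN.{u} := by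
  intro G _ _ S A A' M y h hS hM hc hZ
  by_cases hR : pCoreOf 2 M ≤ A ⊔ A'
  · exact Or.inl ((hEN1 h hS hM).1 hR)
  obtain ⟨h1, h2⟩ := (hEN1 h hS hM).2 hR
  by_cases h3 : M ≤ Ns (A ⊓ A')
  · exact Or.inl (hEN2 h hS hM hc h1 h3)
  obtain ⟨x, z, hj, e⟩ := hEN3 h hS hM hc hZ h1 hR h2 h3
  refine Or.inr ⟨x, z, hj, fun m hm => mem_C1.2 ?_, h3⟩
  rw [e] at h2
  have hz : z * z = 1 := h.ab.sqA z hj.zZ.1
  obtain ⟨k, hk⟩ := mem_zpowers_iff.1 (mem_normalizer_conj (h2 hm) (mem_zpowers z))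
  have h4 : z ^ (2 : ℤ) = 1 := by rw [zpow_two, hz]
  rcases Int.even_or_odd' k with ⟨l, rfl | rfl⟩
  · rw [zpow_mul, h4, one_zpow, eq_comm, mul_inv_eq_one, mul_eq_left] at hk
    exact absurd hk hj.z1
  · rw [zpow_add, zpow_mul, h4, one_zpow, one_mul, zpow_one, eq_mul_inv_iff_mul_eq] at hk
    exact hk.symm

end Cfsg.Lib.HM
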