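import Cfsg.Agent.HM.JsK
import Cfsg.Agent.GCT.Cz1

/-! First facts on `O₂(M)`. -/

set_option autoImplicit false

open scoped commutatorElement MatrixGroups

namespace Cfsg.Lib.HM

open Cfsg Subgroup
open Cfsg.Lib.Fus hiding cj IsSylowIn
open Cfsg.Lib.Trans (cj IsSylowIn QDFrame)
open Cfsg.Lib.Gold (Ns Cs C1)
open Cfsg.Lib.Gomi (AB PosC ZZ E2)

universe u

open Cfsg.Lib.Trans Cfsg.Lib.Gold in
theorem st_EN1 (hChain : St_Chain.{u}) : St_EN1.{u} := by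
  intro G _ _ S A A' M y h hS hM
  have ab := h.ab
  have hn := Local.le_normalizer_pCoreOf (p := 2) M
  have hRS : pCoreOf 2 M ≤ S := Local.pCoreOf_le_sylowIn hS
  have hJ : A ⊔ A' ≤ M := h.le.trans hS.le
  refine ⟨fun hR => ?_, fun hR => ?_⟩
  · have hy := mem_Ns_iff.1 (hn (hS.le h.yS))
    rcases GCT.cz_core ab hM hJ hR with e | e | e
    · rw [e, h.yA] at hy; exact absurd hy.le ab.nge
    · rw [e, h.yB] at hy; exact absurd hy.le ab.nle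
    · exact e ▸ hn
  obtain ⟨t, ht, ht'⟩ := SetLike.not_le_iff_exists.1 hR
  have hc : M ⊓ Cs (pCoreOf 2 M) ≤ pCoreOf 2 M := hM
  have key : ∀ v ∈ pCoreOf 2 M, v * v = 1 → v ∈ Cs (pCoreOf 2 M) → v ∈ A ⊓ A' ⊓ C1 y := by
    intro v hv h2 hC
    have hvJ : v ∈ A ⊔ A' := by
      by_contra e
      obtain ⟨a, ha, ha'⟩ := ab.exists_A
      have haN := hn (hJ (mem_sup_left ha))
      have h1 : a * v * a⁻¹ ∈ pCoreOf 2 M := mem_normalizer_conj haN hv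
      have h3 : ⁅a, v⁆ = a * v * a⁻¹ * v := by rw [commutatorElement_def, inv_eq_of_sq h2]
      have h4 : ⁅a, v⁆ * ⁅a, v⁆ = 1 := by
        rw [h3]
        calc _ = a * v * a⁻¹ * (v * (a * v * a⁻¹)) * v := by group
          _ = a * (v * v) * a⁻¹ * (v * v) := by rw [← mem_Cs.1 hC _ h1]; group
          _ = 1 := by rw [h2]; group
      have h5 : ⁅a, v⁆ ∈ A ⊔ A' := by
        have := mul_mem (mem_sup_left ha : a ∈ A ⊔ A')
          (mem_normalizer_conj (h.nJ (hRS hv)) (inv_mem (mem_sup_left ha : a ∈ A ⊔ A')))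
        simpa [commutatorElement_def, mul_assoc] using this
      exact ha' (h.mem_of_comm_out (hRS hv) e ha (ab.inv _ h5 h4))
    have hvt := mem_Cs.1 hC t ht
    have h1 : ⁅v, t⁆ = 1 := commutatorElement_eq_one_iff_mul_comm.2 hvt.symm
    refine h.mem_Z0 (hRS ht) ht' ?_ hvt.symm
    rcases ab.inv v hvJ h2 with e | e
    · exact ⟨e, h.mem_of_comm_out (hRS ht) ht' e (Or.inl (h1 ▸ one_mem _))⟩
    · exact ⟨h.symm.mem_of_comm_out (hRS ht) (sup_comm A A' ▸ ht') e (Or.inl (h1 ▸ one_mem _)), e⟩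
  have hC : A ⊓ A' ⊓ C1 y ≤ Cs (pCoreOf 2 M) := fun w hw =>
    mem_Cs.2 fun r hr => (h.Z0_comm (hRS hr) hw).symm
  have hR0 : A ⊓ A' ⊓ C1 y ≤ pCoreOf 2 M := fun w hw => hc ⟨hJ (mem_sup_left hw.1.1), hC hw⟩
  have hV : M ≤ Ns (A ⊓ A' ⊓ C1 y) := fun g hg => mem_normalizer_of_cj_le (cj_le_iff.2 fun w hw =>
    key _ (mem_normalizer_conj (hn hg) (hR0 hw)) (AB.sq_cj ab.sqA g _ (conj_mem_cj.2 hw.1.1))
      (mem_normalizer_conj (mem_Ns_Cs (hn hg)) (hC hw)))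
  exact ⟨fun w hw => hChain hM hV hV (hJ (mem_sup_left hw.1)) (fun r hr => h.comm_Z0 (hRS hr) hw)
    (fun r hr => h.comm_Z0 (hRS hr.1) hw) fun r hr => ab.commA hw.1 hr.2.1.1, hV⟩

end Cfsg.Lib.HM
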