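import Cfsg.Agent.HM.JsK

/-! `Z` normal in `M`. -/

set_option autoImplicit false

open scoped commutatorElement MatrixGroups

namespace Cfsg.Lib.HM

open Cfsg Subgroup
open Cfsg.Lib.Fus hiding cj IsSylowIn
open Cfsg.Lib.Trans (cj IsSylowIn QDFrame)
open Cfsg.Lib.Gold (Ns Cs C1)
open Cfsg.Lib.Gomi (AB PosC ZZ E2)

universe u

open Cfsg.Lib.Trans Cfsg.Lib.Gold in
theorem st_EN2 (hChain : St_Chain.{u}) (hEN1 : St_EN1.{u}) (hEN2a : St_EN2a.{u})
    (hEN2b : St_EN2b.{u}) : St_EN2.{u} := by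
  intro G _ _ S A A' M y h hS hM hc hZ hN
  have _ := @hEN1
  have ab := h.ab
  have hn := Local.le_normalizer_pCoreOf (p := 2) M
  have hRS : pCoreOf 2 M ≤ S := Local.pCoreOf_le_sylowIn hS
  have hJ : A ⊔ A' ≤ M := h.le.trans hS.le
  by_cases h1 : ∃ m ∈ M, ∃ t ∈ cj m (pCoreOf 2 M ⊓ (A ⊔ A')), t ∉ A ⊔ A'
  · obtain ⟨m, hm, t, ht, ht'⟩ := h1
    exact absurd (hEN2a h hS hM hc hZ hN m hm t ht ht') (hEN2b h hS hM hc hZ hN m hm t ht ht')
  push Not at h1
  have h2 : M ≤ Ns (pCoreOf 2 M ⊓ (A ⊔ A')) := fun m hm => mem_normalizer_of_cj_le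
    (le_inf ((cj_mono m inf_le_left).trans (mem_Ns_iff.1 (hn hm)).le) (h1 m hm))
  have h3 : A ⊔ A' ≤ pCoreOf 2 M := fun j hj => by
    refine hChain hM h2 hN (hJ hj) (fun r hr => ⟨?_, ?_⟩) (fun r hr => ab.comm_mem' hj hr.2.2)
      fun r hr => (ab.comm_Z hj hr.2).symm
    · have := mul_mem (mem_normalizer_conj (hn (hJ hj)) hr) (inv_mem hr)
      simpa [commutatorElement_def, mul_assoc] using this
    · have := mul_mem hj (mem_normalizer_conj (h.nJ (hRS hr)) (inv_mem hj))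
      simpa [commutatorElement_def, mul_assoc] using this
  intro m hm
  have key : ∀ E ≤ A ⊔ A', (∀ e ∈ E, e * e = 1) → Nat.card E = Nat.card A → cj m E ≤ A ⊔ A' := by
    intro E hE h4 h5
    rcases h.wk (cj m E) (((cj_mono m (hE.trans h3)).trans (mem_Ns_iff.1 (hn hm)).le).trans hRS)
      (AB.sq_cj h4 m) (by rw [card_cj, h5]) with e | e <;> rw [e]
    exacts [le_sup_left, le_sup_right]
  refine mem_normalizer_of_cj_le ?_
  rw [cj_sup]
  exact sup_le (key A le_sup_left ab.sqA rfl) (key A' le_sup_right ab.sqB h.cardA)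

end Cfsg.Lib.HM
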