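import Cfsg.Agent.HM.JsK

/-! `O₂(M) / Z` not abelian. -/

set_option autoImplicit false

open scoped commutatorElement MatrixGroups

namespace Cfsg.Lib.HM

open Cfsg Subgroup
open Cfsg.Lib.Fus hiding cj IsSylowIn
open Cfsg.Lib.Trans (cj IsSylowIn QDFrame)
open Cfsg.Lib.Gold (Ns Cs C1)
open Cfsg.Lib.Gomi (AB PosC ZZ E2)

universe u

namespace EN2aAux

open Cfsg.Lib.Trans Cfsg.Lib.Gold

variable {G : Type u} [Group G]

/-- elements of `R` whose commutator with `t` lies in `Z` -/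
def CC (R Z : Subgroup G) (t : G) (h : R ≤ Ns Z) : Subgroup G where
  carrier := {r | r ∈ R ∧ ⁅t, r⁆ ∈ Z}
  one_mem' := ⟨one_mem _, by simp⟩
  mul_mem' := by
    rintro r r' ⟨h1, h2⟩ ⟨k1, k2⟩
    refine ⟨mul_mem h1 k1, ?_⟩
    have e : ⁅t, r * r'⁆ = ⁅t, r⁆ * (r * ⁅t, r'⁆ * r⁻¹) := by
      simp only [commutatorElement_def]; group
    rw [e]
    exact mul_mem h2 (mem_normalizer_conj (h h1) k2)
  inv_mem' := by
    rintro r ⟨h1, h2⟩
    refine ⟨inv_mem h1, ?_⟩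
    have e : ⁅t, r⁻¹⁆ = r⁻¹ * ⁅t, r⁆⁻¹ * r := by
      simp only [commutatorElement_def]; group
    rw [e]
    exact mem_normalizer_conj' (h h1) (inv_mem h2)

theorem CC_eq_1' : type_of% @CC.eq_1 := @CC.eq_1

theorem two_le [Finite G] {C R : Subgroup G} (h : C ≤ R) (h' : ¬ R ≤ C) :
    2 * Nat.card C ≤ Nat.card R := by
  rw [← card_mul_relIndex h, mul_comm]
  refine Nat.mul_le_mul_left _ ?_
  have h1 : C.relIndex R ≠ 1 := fun e => h' (relIndex_eq_one.1 e)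
  have h2 : C.relIndex R ≠ 0 := FiniteIndex.index_ne_zero
  omega

/-- no subgroup of index two over a Sylow 2-subgroup -/
theorem odd_idx [Finite G] {S M K : Subgroup G} (hS : IsSylowIn 2 S M) (hK : S ≤ K) {m : G}
    (hm : m ∈ M) (h : ∀ s ∈ M, s ∉ K → m⁻¹ * s ∈ K) : m ∈ K := by
  by_contra hm'
  have h1 := card_two_of hm hm' h
  have h2 := card_mul_relIndex (inf_le_left : M ⊓ K ≤ M)
  have h3 : 0 < Nat.card (M ⊓ K : Subgroup G) := Nat.card_pos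
  refine hS.not_dvd_relIndex_of_le (le_inf hS.le hK) ⟨1, ?_⟩
  rw [h1, mul_comm 2] at h2
  exact Nat.eq_of_mul_eq_mul_left h3 h2

end EN2aAux

open EN2aAux Cfsg.Lib.Trans Cfsg.Lib.Gold in
theorem st_EN2a : St_EN2a.{u} := by
  intro G _ _ S A A' M y h hS _ _ _ hN m hm t ht ht' r₀ hr₀
  by_contra hr₀'
  have ab := h.ab
  have hn := Local.le_normalizer_pCoreOf (p := 2) M
  have hRS : pCoreOf 2 M ≤ S := Local.pCoreOf_le_sylowIn hS
  generalize pCoreOf 2 M = R at hn hRS ht hr₀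
  have hle : ∀ g ∈ M, cj g (R ⊓ (A ⊔ A')) ≤ R := fun g hg =>
    (cj_mono g inf_le_left).trans (mem_Ns_iff.1 (hn hg)).le
  have htR := hle m hm ht
  have hRZ : R ⊓ (A ⊔ A') ≤ Ns (A ⊓ A') := inf_le_right.trans ab.S_le_Ns_Z
  have hC := two_le (C := CC _ _ t hRZ) (R := R ⊓ (A ⊔ A')) (fun r hr => hr.1)
    fun e => hr₀' (e hr₀).2
  have claim : ∀ g ∈ M, ∀ t' ∈ cj g (R ⊓ (A ⊔ A')), t' ∉ A ⊔ A' →
      cj g (R ⊓ (A ⊔ A')) ⊓ (A ⊔ A') = CC _ _ t hRZ ∧ t' * t' ∈ A ⊓ A' := by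
    intro g hg t' h1 h1'
    refine ⟨eq_of_le_of_card_ge (fun c hc => ⟨⟨hle g hg hc.1, hc.2⟩, ?_⟩) ?_, ?_⟩
    · have h2 := mem_normalizer_conj (hN hg) (ab.comm_mem' (mem_cj.1 h1).2 (mem_cj.1 hc.1).2)
      have h3 := mem_normalizer_conj (h.nZ (hRS htR))
        (ab.comm_mem' (h.quot (hRS htR) ht' (hRS (hle g hg h1)) h1') hc.2)
      have e : g * ⁅g⁻¹ * t' * g, g⁻¹ * c * g⁆ * g⁻¹ = t * ⁅t⁻¹ * t', c⁆ * t⁻¹ * ⁅t, c⁆ := by
        simp only [commutatorElement_def]; group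
      rw [e] at h2
      exact (mul_mem_cancel_left h3).1 h2
    · have h2 := h.card_two ((hle g hg).trans hRS) h1 h1'
      rw [card_cj] at h2
      omega
    · have h2 := mem_normalizer_conj (hN hg) (ab.sq_mem (mem_cj.1 h1).2)
      simpa [mul_assoc] using h2
  obtain ⟨e1, e2⟩ := claim m hm t ht ht'
  have hC1 : CC _ _ t hRZ ≤ cj m (R ⊓ (A ⊔ A')) := e1 ▸ inf_le_left
  have key : ∀ g ∈ M, g ∉ Ns (R ⊓ (A ⊔ A')) → cj g (R ⊓ (A ⊔ A')) = cj m (R ⊓ (A ⊔ A')) := by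
    intro g hg hg'
    obtain ⟨t', h1, h1'⟩ : ∃ t' ∈ cj g (R ⊓ (A ⊔ A')), t' ∉ A ⊔ A' := by
      by_contra! e
      exact hg' (mem_normalizer_of_cj_le (le_inf (hle g hg) e))
    refine eq_of_le_of_card_ge (fun s hs => ?_) (by rw [card_cj, card_cj])
    by_cases hs' : s ∈ A ⊔ A'
    · exact hC1 ((claim g hg t' h1 h1').1.le ⟨hs, hs'⟩)
    have h2 := (claim g hg s hs hs').2
    have h3 := h.quot (hRS htR) ht' (hRS (hle g hg hs)) hs'
    have h4 : t⁻¹ * s ∈ CC _ _ t hRZ := by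
      refine ⟨⟨R.mul_mem (R.inv_mem htR) (hle g hg hs), h3⟩, ?_⟩
      have e : s * s = ⁅t, t⁻¹ * s⁆ * ((t⁻¹ * s * (t * t) * (t⁻¹ * s)⁻¹) * (t⁻¹ * s * (t⁻¹ * s))) := by
        simp only [commutatorElement_def]; group
      rw [e] at h2
      exact (mul_mem_cancel_right (mul_mem (mem_normalizer_conj (ab.S_le_Ns_Z h3) e2)
        (ab.sq_mem h3))).1 h2
    simpa using mul_mem ht (hC1 h4)
  have hm' : m ∉ Ns (R ⊓ (A ⊔ A')) := fun e => ht' ((mem_Ns_iff.1 e).le ht).2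
  refine hm' (odd_idx hS (le_Ns_inf (hS.le.trans hn) h.nJ) hm fun s hs hs' => mem_Ns_iff.2 ?_)
  rw [cj_mul, key s hs hs', cj_inv_cj]

end Cfsg.Lib.HM
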