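import Cfsg.Agent.HM.JsK
import Cfsg.Agent.AB.Local

/-! `O₂(M) / Z` abelian. -/

set_option autoImplicit false

open scoped commutatorElement MatrixGroups

namespace Cfsg.Lib.HM

open Cfsg Subgroup
open Cfsg.Lib.Fus hiding cj IsSylowIn
open Cfsg.Lib.Trans (cj IsSylowIn QDFrame)
open Cfsg.Lib.Gold (Ns Cs C1)
open Cfsg.Lib.Gomi (AB PosC ZZ E2)

universe u

namespace EN2bAux

open Cfsg.Lib.Trans Cfsg.Lib.Gold

variable {G : Type u} [Group G] {Z : Subgroup G}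

theorem comp {x x' r w w' : G} (hx : x ∈ Ns Z) (h1 : ⁅x', r⁆ * w'⁻¹ ∈ Z)
    (h2 : ⁅x, w' * r⁆ * w⁻¹ ∈ Z) : ⁅x * x', r⁆ * (w * w')⁻¹ ∈ Z := by
  have e : ⁅x * x', r⁆ * (w * w')⁻¹ = x * (⁅x', r⁆ * w'⁻¹) * x⁻¹ * (⁅x, w' * r⁆ * w⁻¹) := by
    simp only [commutatorElement_def]; group
  rw [e]
  exact mul_mem (mem_normalizer_conj hx h1) h2

theorem chg {c w w' : G} (h1 : c * w⁻¹ ∈ Z) (h2 : w * w'⁻¹ ∈ Z) : c * w'⁻¹ ∈ Z := by
  simpa [mul_assoc] using mul_mem h1 h2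

theorem odd_part [Finite G] (x : G) : ∃ k, IsPGroup 2 (zpowers (x ^ (2 * k + 1))) := by
  obtain ⟨i, k, hk, e⟩ := Nat.exists_eq_two_pow_mul_odd (orderOf_pos x).ne'
  obtain ⟨k, rfl⟩ := hk
  refine ⟨k, ?_⟩
  rintro ⟨_, n, rfl⟩
  refine ⟨i, Subtype.ext ?_⟩
  change ((x ^ (2 * k + 1)) ^ n) ^ 2 ^ i = 1
  rw [← zpow_natCast, ← zpow_mul, mul_comm n, zpow_mul, zpow_natCast, ← pow_mul, mul_comm, ← e,
    pow_orderOf_eq_one, one_zpow]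

theorem pair [Finite G] {A A' : Subgroup G} (hc : 2 * Nat.card ↥(A ⊓ A') < Nat.card A) :
    ∃ a ∈ A, ∃ b ∈ A, a ∉ A' ∧ b ∉ A' ∧ a * b ∉ A' := by
  refine AB.exists_pair ?_
  rw [← card_mul_relIndex (inf_le_left : A ⊓ A' ≤ A), inf_relIndex_left, mul_comm] at hc
  exact Nat.lt_of_mul_lt_mul_left hc

end EN2bAux

open EN2bAux Cfsg.Lib.Trans Cfsg.Lib.Gold in
theorem st_EN2b : St_EN2b.{u} := by
  intro G _ _ S A A' M y h hS _ hc hZ hN m hm t ht ht' H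
  have ab := h.ab
  have hn := Local.le_normalizer_pCoreOf (p := 2) M
  have hRS : pCoreOf 2 M ≤ S := Local.pCoreOf_le_sylowIn hS
  generalize pCoreOf 2 M = R at hn hRS ht H hZ
  have hJ : A ⊔ A' ≤ M := h.le.trans hS.le
  have hA : A ≤ M := le_sup_left.trans hJ
  have hRM : R ≤ M := hRS.trans hS.le
  have htR : t ∈ R := (cj_mono m inf_le_left).trans (mem_Ns_iff.1 (hn hm)).le ht
  have htS := hRS htR
  have mem1 : ∀ r ∈ R, r ∈ cj m (R ⊓ (A ⊔ A')) ↔ m⁻¹ * r * m ∈ A ⊔ A' := fun r hr =>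
    mem_cj.trans ⟨fun e => e.2, fun e => ⟨mem_normalizer_conj' (hn hm) hr, e⟩⟩
  have hZ1 : A ⊓ A' ≤ cj m (R ⊓ (A ⊔ A')) := fun w hw =>
    (mem1 w (hZ hw)).2 (mem_sup_left (mem_normalizer_conj' (hN hm) hw).1)
  have cRR : ∀ s ∈ R, ∀ r ∈ R ⊓ (A ⊔ A'), ⁅s, r⁆ ∈ A ⊓ A' := fun s hs r hr => by
    by_cases e : s ∈ A ⊔ A'
    · exact ab.comm_mem' e hr.2
    have e1 : ⁅s, r⁆ = t * ⁅t⁻¹ * s, r⁆ * t⁻¹ * ⁅t, r⁆ := by
      simp only [commutatorElement_def]; group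
    rw [e1]
    exact mul_mem (mem_normalizer_conj (h.nZ htS) (ab.comm_mem' (h.quot htS ht' (hRS hs) e) hr.2))
      (H r hr)
  have dR : ∀ a ∈ A, ⁅a, t⁆ ∈ R ⊓ (A ⊔ A') := fun a ha => by
    constructor
    · have := mul_mem (mem_normalizer_conj (hn (hA ha)) htR) (inv_mem htR)
      simpa [commutatorElement_def, mul_assoc] using this
    · have := mul_mem (mem_sup_left ha : a ∈ A ⊔ A')
        (mem_normalizer_conj (h.nJ htS) (inv_mem (mem_sup_left ha : a ∈ A ⊔ A')))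
      simpa [commutatorElement_def, mul_assoc] using this
  have actA : ∀ a ∈ A, ∀ r ∈ R, r ∉ A ⊔ A' → ⁅a, r⁆ * ⁅a, t⁆⁻¹ ∈ A ⊓ A' := fun a ha r hr hr' => by
    have e1 : ⁅a, r⁆ * ⁅a, t⁆⁻¹ = ⁅a, t⁆ * (t * ⁅a, t⁻¹ * r⁆ * t⁻¹) * ⁅a, t⁆⁻¹ := by
      simp only [commutatorElement_def]; group
    rw [e1]
    exact mem_normalizer_conj (ab.S_le_Ns_Z (dR a ha).2) (mem_normalizer_conj (h.nZ htS)
      (ab.comm_mem' (mem_sup_left ha) (h.quot htS ht' (hRS hr) hr')))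
  -- the element `a`
  obtain ⟨a, ha, ha', hu⟩ : ∃ a ∈ A, a ∉ A' ∧ ⁅a, t⁆ ∈ cj m (R ⊓ (A ⊔ A')) := by
    obtain ⟨a, ha, b, hb, ha', hb', hab⟩ := pair hc
    by_contra! e
    have k1 := mt (mem1 _ (dR a ha).1).2 (e a ha ha')
    have k2 := mt (mem1 _ (dR b hb).1).2 (e b hb hb')
    have k3 := h.mul_out (hRS (mem_normalizer_conj' (hn hm) (dR b hb).1)) k2
      (hRS (mem_normalizer_conj' (hn hm) (dR a ha).1)) k1
    refine e _ (mul_mem ha hb) hab ?_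
    have e1 : ⁅a * b, t⁆ = ⁅a, ⁅b, t⁆⁆ * (⁅b, t⁆ * ⁅a, t⁆) := by
      simp only [commutatorElement_def]; group
    rw [e1]
    refine mul_mem (hZ1 (ab.comm_mem' (mem_sup_left ha) (dR b hb).2))
      ((mem1 _ (mul_mem (dR b hb).1 (dR a ha).1)).2 ?_)
    simpa [mul_assoc] using k3
  have huZ : ⁅a, t⁆ ∉ A ⊓ A' := fun e => ha' (h.mem_of_comm_out htS ht' ha (Or.inl e.1))
  have huR := dR a ha
  have act := actA a ha
  generalize ⁅a, t⁆ = u at hu huZ huR act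
  -- the element `a₁`
  obtain ⟨a₁, ha₁, act₁⟩ : ∃ a₁ ∈ M, ∀ r ∈ R, r ∉ cj m (R ⊓ (A ⊔ A')) → ⁅a₁, r⁆ * t⁻¹ ∈ A ⊓ A' := by
    have k1 := mem_cj.1 ht
    obtain ⟨a₀, ha₀, b, hb, e⟩ := ab.mem_sup.1 k1.2
    have k2 := H _ k1
    have k3 : t * a₀ * t⁻¹ ∈ A' := (h.ch htS ht').yA' ha₀
    have k4 : t * b * t⁻¹ ∈ A := (h.ch htS ht').yB' hb
    have k5 : t * a₀ * t⁻¹ * b⁻¹ ∈ A := by
      have e1 : ⁅t, a₀ * b⁆ * a₀ =
          t * a₀ * t⁻¹ * (t * b * t⁻¹) * (t * a₀ * t⁻¹)⁻¹ * (t * a₀ * t⁻¹ * b⁻¹) := by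
        simp only [commutatorElement_def]; group
      have k6 := mul_mem k2.1 ha₀
      rw [← e, e1] at k6
      exact (mul_mem_cancel_left (mem_normalizer_conj (ab.nA k3) k4)).1 k6
    have k6 : ⁅a₀, t⁆ * (m⁻¹ * t * m)⁻¹ ∈ A ⊓ A' := by
      have e1 : ⁅a₀, t⁆ * (a₀ * b)⁻¹ = a₀ * (t * a₀⁻¹ * t⁻¹ * b⁻¹) * a₀⁻¹ := by
        simp only [commutatorElement_def]; group
      rw [← e, e1]
      refine mem_normalizer_conj (hN (hA ha₀)) ?_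
      rw [inv_eq_of_sq (ab.sqA a₀ ha₀)]
      exact ⟨k5, A'.mul_mem k3 (A'.inv_mem hb)⟩
    refine ⟨m * a₀ * m⁻¹, mul_mem (mul_mem hm (hA ha₀)) (inv_mem hm), fun r hr hr' => ?_⟩
    have k7 := mem_normalizer_conj (hN hm) (chg (actA a₀ ha₀ _ (mem_normalizer_conj' (hn hm) hr)
      (mt (mem1 r hr).2 hr')) k6)
    have e1 : ⁅m * a₀ * m⁻¹, r⁆ * t⁻¹ = m * (⁅a₀, m⁻¹ * r * m⁆ * (m⁻¹ * t * m)⁻¹) * m⁻¹ := by
      simp only [commutatorElement_def]; group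
    rwa [e1]
  have htt : t * t ∈ A ⊓ A' := by
    simpa [mul_assoc] using mem_normalizer_conj (hN hm) (ab.sq_mem (mem_cj.1 ht).2)
  have hg : a * a₁ ∈ M := mul_mem (hA ha) ha₁
  have step : ∀ r ∈ R ⊓ (A ⊔ A'), r ∉ cj m (R ⊓ (A ⊔ A')) →
      ⁅a * a₁ * (a * a₁), r⁆ * u⁻¹ ∈ A ⊓ A' := fun r hr hr' => by
    have k1 := comp (hN (hA ha)) (act₁ r hr.1 hr')
      (act _ (mul_mem htR hr.1) fun e => ht' (((A ⊔ A').mul_mem_cancel_right hr.2).1 e))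
    have k2 : ⁅a, t * (u * t * r)⁆ * (1 : G)⁻¹ ∈ A ⊓ A' := by
      rw [inv_one, mul_one]
      refine ab.comm_mem' (mem_sup_left ha) ?_
      have := mul_mem (mul_mem (mem_normalizer_conj (h.nJ htS) huR.2)
        (mem_sup_left htt.1 : t * t ∈ A ⊔ A')) hr.2
      simpa [mul_assoc] using this
    have k3 := comp (hN (hA ha)) (act₁ _ (mul_mem (mul_mem huR.1 htR) hr.1)
      fun e => hr' ((mul_mem_cancel_left (mul_mem hu ht)).1 e)) k2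
    refine chg (comp (hN hg) k1 k3) ?_
    have e1 : 1 * t * (u * t) * u⁻¹ = ⁅t, u⁆ * (u * (t * t) * u⁻¹) := by
      simp only [commutatorElement_def]; group
    rw [e1]
    exact mul_mem (H u huR) (mem_normalizer_conj (ab.S_le_Ns_Z huR.2) htt)
  generalize a * a₁ = g at hg step
  have ind : ∀ k : ℕ, ∀ r ∈ R ⊓ (A ⊔ A'), r ∉ cj m (R ⊓ (A ⊔ A')) →
      ⁅(g * g) ^ k, r⁆ * (u ^ k)⁻¹ ∈ A ⊓ A' := fun k => by
    induction k with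
    | zero => intro r _ _; simp
    | succ k ih =>
      intro r hr hr'
      rw [pow_succ, pow_succ]
      exact comp (hN (pow_mem (mul_mem hg hg) k)) (step r hr hr')
        (ih _ (mul_mem huR hr) fun e => hr' ((mul_mem_cancel_left hu).1 e))
  obtain ⟨r, hr, hr'⟩ : ∃ r ∈ R ⊓ (A ⊔ A'), r ∉ cj m (R ⊓ (A ⊔ A')) := by
    by_contra! e
    exact ht' ((eq_of_le_of_card_ge e (card_cj _ _).le).ge ht).2
  obtain ⟨k, hk⟩ := odd_part g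
  obtain ⟨n, hn', e⟩ := hS.exists_cj_le hk (zpowers_le.2 (pow_mem hg _))
  have sq : ∀ s ∈ S, s * s ∈ R := fun s hs => by
    by_cases e : s ∈ A ⊔ A'
    · exact hZ (ab.sq_mem e)
    have k1 := h.quot htS ht' hs e
    have := mul_mem (mul_mem htR (mem_normalizer_conj (hn (hJ k1)) htR)) (hZ (ab.sq_mem k1))
    simpa [mul_assoc] using this
  have k1 : (g * g) ^ (2 * k + 1) ∈ R := by
    have := mem_normalizer_conj' (hn hn') (sq _ (e (conj_mem_cj.2 (mem_zpowers _))))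
    rw [(Commute.refl g).mul_pow]
    simpa [mul_assoc] using this
  have k2 := inv_mem_iff.1 ((mul_mem_cancel_left (cRR _ k1 r hr)).1 (ind _ r hr hr'))
  rw [pow_succ, pow_mul, pow_two] at k2
  exact huZ ((mul_mem_cancel_left (pow_mem (ab.sq_mem huR.2) k)).1 k2)

end Cfsg.Lib.HM
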