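import Cfsg.Agent.HM.EN2b

/-! `Z` not normal in `M`: the Sylow subgroup of `J₃`. -/

set_option autoImplicit false

open scoped commutatorElement MatrixGroups

namespace Cfsg.Lib.HM

open Cfsg Subgroup
open Cfsg.Lib.Fus hiding cj IsSylowIn
open Cfsg.Lib.Trans (cj IsSylowIn QDFrame)
open Cfsg.Lib.Gold (Ns Cs C1)
open Cfsg.Lib.Gomi (AB PosC ZZ E2)

universe u

namespace EN3Aux

open Cfsg.Lib.Trans Cfsg.Lib.Gold

variable {G : Type u} [Group G]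

/-- the four-group on `z`, `c` -/
def W4 (z c : G) (hz : z * z = 1) (hc : c * c = 1) (h : z * c = c * z) : Subgroup G where
  carrier := {w | w = 1 ∨ w = z ∨ w = c ∨ w = c * z}
  one_mem' := Or.inl rfl
  mul_mem' := by
    have e1 : ∀ g, z * (c * g) = c * (z * g) := fun g => by rw [← mul_assoc, h, mul_assoc]
    have e2 : ∀ g, c * (c * g) = g := fun g => by rw [← mul_assoc, hc, one_mul]
    rintro _ _ (rfl | rfl | rfl | rfl) (rfl | rfl | rfl | rfl) <;>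
      simp [mul_assoc, hz, hc, h, e1, e2]
  inv_mem' := by
    have e3 : c * z * (c * z) = 1 := by
      rw [mul_assoc, ← mul_assoc z, h, mul_assoc, hz, mul_one, hc]
    rintro _ (rfl | rfl | rfl | rfl)
    · simp
    · simp [inv_eq_of_sq hz]
    · simp [inv_eq_of_sq hc]
    · rw [inv_eq_of_sq e3]; simp

theorem W4_eq_1' : type_of% @W4.eq_1 := @W4.eq_1

theorem ext4 {A A' W : Subgroup G} {a b : G} (ha : a ∈ A) (hb : b ∈ A)
    (h4 : ∀ e ∈ A, e ∈ A' ∨ a * e ∈ A' ∨ b * e ∈ A' ∨ a * (b * e) ∈ A') (φ : G → G)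
    (hm : ∀ u ∈ A, ∀ v ∈ A, φ (u * v) = φ u * φ v) (h1 : ∀ w ∈ A ⊓ A', φ w = 1)
    (pa : φ a ∈ W) (pb : φ b ∈ W) : ∀ e ∈ A, φ e ∈ W := by
  intro e he
  rcases h4 e he with k | k | k | k
  · rw [h1 e ⟨he, k⟩]; exact one_mem _
  · exact (mul_mem_cancel_left pa).1 (by
      rw [← hm a ha e he, h1 _ ⟨mul_mem ha he, k⟩]; exact one_mem _)
  · exact (mul_mem_cancel_left pb).1 (by
      rw [← hm b hb e he, h1 _ ⟨mul_mem hb he, k⟩]; exact one_mem _)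
  · exact (mul_mem_cancel_left pb).1 ((mul_mem_cancel_left pa).1 (by
      rw [← hm b hb e he, ← hm a ha _ (mul_mem hb he), h1 _ ⟨mul_mem ha (mul_mem hb he), k⟩]
      exact one_mem _))

theorem card_le4 [Finite G] {A A' : Subgroup G} {a b : G} (h2 : ∀ e ∈ A, e * e = 1) (ha : a ∈ A)
    (hb : b ∈ A) (h4 : ∀ e ∈ A, e ∈ A' ∨ a * e ∈ A' ∨ b * e ∈ A' ∨ a * (b * e) ∈ A') :
    Nat.card A ≤ Nat.card ↥(A ⊓ A') * 4 := by
  have hv : ∀ i : Fin 4, ![1, a, b, a * b] i ∈ A := fun i => by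
    fin_cases i
    exacts [one_mem _, ha, hb, mul_mem ha hb]
  have := Nat.card_le_card_of_surjective
    (fun p : ↥(A ⊓ A') × Fin 4 => (⟨![1, a, b, a * b] p.2 * p.1, mul_mem (hv _) p.1.2.1⟩ : A)) (by
      rintro ⟨e, he⟩
      obtain ⟨i, hi⟩ : ∃ i : Fin 4, ![1, a, b, a * b] i * e ∈ A' := by
        rcases h4 e he with k | k | k | k
        exacts [⟨0, by simpa using k⟩, ⟨1, k⟩, ⟨2, k⟩, ⟨3, by simpa [mul_assoc] using k⟩]
      refine ⟨⟨⟨_, mul_mem (hv i) he, hi⟩, i⟩, Subtype.ext ?_⟩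
      change _ * (_ * e) = e
      rw [← mul_assoc, h2 _ (hv i), one_mul])
  simpa using this

end EN3Aux

open EN3Aux Cfsg.Lib.Trans Cfsg.Lib.Gold in
theorem st_EN3 : St_EN3.{u} := by
  intro G _ _ S A A' M y h hS _ hc hcom hZ hR hN0 hN
  have ab := h.ab
  have hn := Local.le_normalizer_pCoreOf (p := 2) M
  have hRS : pCoreOf 2 M ≤ S := Local.pCoreOf_le_sylowIn hS
  generalize pCoreOf 2 M = R at hn hRS hZ hR
  have hA : A ≤ M := le_sup_left.trans (h.le.trans hS.le)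
  obtain ⟨t, ht, ht'⟩ := SetLike.not_le_iff_exists.1 hR
  obtain ⟨m, hm, hm'⟩ := SetLike.not_le_iff_exists.1 hN
  have Z1R : cj m (A ⊓ A') ≤ R := (cj_mono m hZ).trans (mem_Ns_iff.1 (hn hm)).le
  have Z1sq : ∀ v ∈ cj m (A ⊓ A'), v * v = 1 := AB.sq_cj (A := A ⊓ A') (fun a ha => ab.sqA a ha.1) m
  have cZ1 : ∀ v ∈ cj m (A ⊓ A'), ∀ r ∈ R, ⁅v, r⁆ ∈ A ⊓ A' ⊓ C1 y := fun v hv r hr => by
    have := mem_normalizer_conj (hN0 hm)
      (h.comm_Z0 (hRS (mem_normalizer_conj' (hn hm) hr)) (mem_cj.1 hv))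
    have e : ⁅v, r⁆ = m * ⁅m⁻¹ * v * m, m⁻¹ * r * m⁆ * m⁻¹ := by
      simp only [commutatorElement_def]; group
    rwa [e]
  have Z1J : ∀ v ∈ cj m (A ⊓ A'), v ∈ A ⊔ A' → v ∈ A ⊓ A' := fun v hv hv' => by
    have k := (cZ1 v hv t ht).1
    rcases ab.inv v hv' (Z1sq v hv) with e | e
    · exact ⟨e, h.mem_of_comm_out (hRS ht) ht' e (Or.inl k.1)⟩
    · exact ⟨h.symm.mem_of_comm_out (hRS ht) (sup_comm A A' ▸ ht') e (Or.inl k.2), e⟩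
  obtain ⟨x, hx, hx'⟩ : ∃ x ∈ cj m (A ⊓ A'), x ∉ A ⊔ A' := by
    by_contra! e
    exact hm' (mem_normalizer_of_cj_le fun v hv => Z1J v hv (e v hv))
  have xR := Z1R hx
  have xS := hRS xR
  have xx := Z1sq x hx
  have hj := h.ch xS hx'
  have e0 : cj m (A ⊓ A') ⊓ (A ⊔ A') = A ⊓ A' ⊓ C1 y := le_antisymm
    (fun v hv => h.mem_Z0 xS hx' (Z1J v hv.1 hv.2) (comm_of_sq Z1sq v hv.1 x hx))
    (le_inf ((mem_Ns_iff.1 (hN0 hm)).ge.trans (cj_mono m inf_le_left))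
      (inf_le_left.trans (inf_le_left.trans le_sup_left)))
  have c0 := h.card_two (Z1R.trans hRS) hx hx'
  rw [e0, card_cj] at c0
  have idx : ∀ w ∈ A ⊓ A', ∀ w' ∈ A ⊓ A', w ∉ A ⊓ A' ⊓ C1 y → w' ∉ A ⊓ A' ⊓ C1 y →
      w * w' ∈ A ⊓ A' ⊓ C1 y := fun w hw w' hw' k k' => by
    have k1 := card_mul_relIndex (inf_le_left : A ⊓ A' ⊓ C1 y ≤ A ⊓ A')
    rw [c0, mul_comm 2] at k1
    exact (mul_mem_iff_of_index_two (Nat.eq_of_mul_eq_mul_left Nat.card_pos k1)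
      (a := ⟨w, hw⟩) (b := ⟨w', hw'⟩)).2 (iff_of_false k k')
  have ker : ∀ r, m⁻¹ * r * m ∈ A ⊔ A' → ⁅x, r⁆ = 1 := fun r hr => by
    have k := ab.comm_Z hr (mem_cj.1 hx)
    refine commutatorElement_eq_one_iff_mul_comm.2 ?_
    calc x * r = m * (m⁻¹ * x * m * (m⁻¹ * r * m)) * m⁻¹ := by group
      _ = _ := by rw [k]; group
  have one : ∀ r ∈ R, ∀ r' ∈ R, ⁅x, r⁆ ≠ 1 → ⁅x, r'⁆ ≠ 1 → ⁅x, r'⁆ = ⁅x, r⁆ := by
    intro r hr r' hr' k k'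
    have k1 := h.quot (hRS (mem_normalizer_conj' (hn hm) hr)) (mt (ker r) k)
      (hRS (mem_normalizer_conj' (hn hm) hr')) (mt (ker r') k')
    have k2 := ker (r⁻¹ * r') (by simpa [mul_assoc] using k1)
    calc ⁅x, r'⁆ = ⁅x, r⁆ * (r * ⁅x, r⁻¹ * r'⁆ * r⁻¹) := by simp only [commutatorElement_def]; group
      _ = _ := by rw [k2]; group
  have xi := inv_eq_of_sq xx
  have xx' : ∀ g, x * (x * g) = g := fun g => by rw [← mul_assoc, xx, one_mul]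
  have cZ : ∀ a ∈ A, ∀ b ∈ A, ⁅a, x * b * x⁻¹⁆ ∈ A ⊓ A' := fun a ha b hb =>
    ab.comm_mem ha (hj.yA' hb)
  have dR : ∀ a ∈ A, a * (x * a * x⁻¹) ∈ R := fun a ha => by
    have := mul_mem (mem_normalizer_conj (hn (hA ha)) xR) (inv_mem xR)
    rw [inv_eq_of_sq (ab.sqA a ha)] at this
    simpa [mul_assoc] using this
  have nx : ∀ a ∈ A, ⁅a, x * a * x⁻¹⁆ = ⁅x, a * (x * a * x⁻¹)⁆ := fun a ha => by
    rw [← inv_eq_of_sq (ab.sqA _ (cZ a ha a ha).1), commutatorElement_inv]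
    simp only [commutatorElement_def, mul_inv_rev, inv_inv, xi, mul_assoc, xx']
  have n1 : ∀ a ∈ A, a ∉ A' → ⁅a, x * a * x⁻¹⁆ ≠ 1 := fun a ha ha' e => by
    rcases ab.mem_or_mem ha (hj.yA' ha) (commutatorElement_eq_one_iff_mul_comm.1 e) with k | k
    · exact ha' k
    · exact ha' (by simpa [mul_assoc, xi, xx, xx'] using hj.yA' k)
  obtain ⟨a, ha, b, hb, ha', hb', hab⟩ := EN2bAux.pair hc
  obtain ⟨z, z0, z1, nz⟩ : ∃ z ∈ A ⊓ A' ⊓ C1 y, z ≠ 1 ∧ ∀ e ∈ A, e ∉ A' → ⁅e, x * e * x⁻¹⁆ = z :=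
    ⟨⁅a, x * a * x⁻¹⁆, nx a ha ▸ cZ1 x hx _ (dR a ha), n1 a ha ha', fun e he he' => by
      rw [nx e he, nx a ha]
      exact one _ (dR a ha) _ (dR e he) (nx a ha ▸ n1 a ha ha') (nx e he ▸ n1 e he he')⟩
  have zz := ab.sqA z z0.1.1
  have mr : ∀ e ∈ A, ∀ u ∈ A, ∀ v ∈ A,
      ⁅e, x * (u * v) * x⁻¹⁆ = ⁅e, x * u * x⁻¹⁆ * ⁅e, x * v * x⁻¹⁆ := fun e he u hu v hv => by
    have k := ab.comm_Z (mem_sup_right (hj.yA' hu)) (cZ e he v hv)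
    calc _ = ⁅e, x * u * x⁻¹⁆ * (x * u * x⁻¹ * ⁅e, x * v * x⁻¹⁆ * (x * u * x⁻¹)⁻¹) := by
          simp only [commutatorElement_def]; group
      _ = _ := by rw [← k, mul_inv_cancel_right]
  have ml : ∀ e ∈ A, ∀ u ∈ A, ∀ v ∈ A,
      ⁅u * v, x * e * x⁻¹⁆ = ⁅u, x * e * x⁻¹⁆ * ⁅v, x * e * x⁻¹⁆ := fun e he u hu v hv => by
    have k := ab.comm_Z (mem_sup_left hu) (cZ v hv e he)
    calc _ = u * ⁅v, x * e * x⁻¹⁆ * u⁻¹ * ⁅u, x * e * x⁻¹⁆ := by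
          simp only [commutatorElement_def]; group
      _ = _ := by rw [← k, mul_inv_cancel_right, ab.commA (cZ v hv e he).1 (cZ u hu e he).1]
  have sw : ∀ u ∈ A, ∀ v ∈ A, ⁅v, x * u * x⁻¹⁆ = x * ⁅u, x * v * x⁻¹⁆ * x⁻¹ := fun u hu v hv => by
    rw [← inv_eq_of_sq (ab.sqA _ (cZ v hv u hu).1), commutatorElement_inv]
    simp only [commutatorElement_def, mul_inv_rev, inv_inv, xi, mul_assoc, xx', xx, mul_one]
  have pr : ∀ u ∈ A, ∀ v ∈ A, u ∉ A' → v ∉ A' → u * v ∉ A' →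
      ⁅u, x * v * x⁻¹⁆ * ⁅v, x * u * x⁻¹⁆ = z := fun u hu v hv hu' hv' k => by
    have k1 := nz _ (mul_mem hu hv) k
    rw [ml _ (mul_mem hu hv) u hu v hv, mr u hu u hu v hv, mr v hv u hu v hv, nz u hu hu',
      nz v hv hv', mul_assoc, ← mul_assoc _ _ z,
      ab.commA (mul_mem (cZ u hu v hv).1 (cZ v hv u hu).1) z0.1.1, ← mul_assoc, zz, one_mul] at k1
    exact k1
  have out : ∀ u ∈ A, ∀ v ∈ A, u ∉ A' → v ∉ A' → u * v ∉ A' →
      ⁅u, x * v * x⁻¹⁆ ∉ A ⊓ A' ⊓ C1 y := fun u hu v hv hu' hv' k e => by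
    have k1 := pr u hu v hv hu' hv' k
    rw [sw u hu v hv, ← h.Z0_comm xS e, mul_inv_cancel_right, ab.sqA _ e.1.1] at k1
    exact z1 k1.symm
  have h4 : ∀ e ∈ A, e ∈ A' ∨ a * e ∈ A' ∨ b * e ∈ A' ∨ a * (b * e) ∈ A' := fun e he => by
    by_contra! k
    refine out a ha _ (mul_mem hb he) ha' k.2.2.1 k.2.2.2 ?_
    rw [mr a ha b hb e he]
    exact idx _ (cZ a ha b hb) _ (cZ a ha e he) (out a ha b hb ha' hb' hab)
      (out a ha e he ha' k.1 k.2.1)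
  have hc0 := out a ha b hb ha' hb' hab
  have hcZ := cZ a ha b hb
  have cc := ab.sqA _ hcZ.1
  have zc := ab.commA z0.1.1 hcZ.1
  have hW : A ⊓ A' ≤ W4 z _ zz cc zc := by
    have zW : z ∈ W4 z _ zz cc zc := Or.inr (Or.inl rfl)
    have cW : ⁅a, x * b * x⁻¹⁆ ∈ W4 z _ zz cc zc := Or.inr (Or.inr (Or.inl rfl))
    have r1 : ∀ e ∈ A, ∀ w ∈ A ⊓ A', ⁅e, x * w * x⁻¹⁆ = 1 := fun e he w hw =>
      commutatorElement_eq_one_iff_mul_comm.2 (ab.commA he (hj.yB' hw.2))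
    refine hcom.trans (commutator_le.2 fun e he f hf => ?_)
    have hf' := hj.yB' hf
    have e1 : f = x * (x * f * x⁻¹) * x⁻¹ := by simp only [xi, mul_assoc, xx', xx, mul_one]
    rw [e1]
    refine ext4 ha hb h4 (fun u => ⁅u, x * (x * f * x⁻¹) * x⁻¹⁆) (ml _ hf') (fun w hw =>
      commutatorElement_eq_one_iff_mul_comm.2 (ab.symm.commA hw.2 (hj.yA' hf'))) ?_ ?_ e he
    · exact ext4 ha hb h4 (fun u => ⁅a, x * u * x⁻¹⁆) (mr a ha) (r1 a ha) (nz a ha ha' ▸ zW) cW _ hf'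
    · refine ext4 ha hb h4 (fun u => ⁅b, x * u * x⁻¹⁆) (mr b hb) (r1 b hb) ?_ (nz b hb hb' ▸ zW) _ hf'
      exact (mul_mem_cancel_left cW).1 (pr a ha b hb ha' hb' hab ▸ zW)
  have fix : ∀ w ∈ A ⊓ A' ⊓ C1 y, w = 1 ∨ w = z := fun w hw => by
    rcases hW hw.1 with e | e | e | e
    exacts [Or.inl e, Or.inr e, absurd (e ▸ hw) hc0,
      absurd ((mul_mem_cancel_right z0).1 (e ▸ hw)) hc0]
  have ez : A ⊓ A' ⊓ C1 y = zpowers z := le_antisymm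
    (fun w hw => (fix w hw).elim (fun e => e ▸ one_mem _) fun e => e ▸ mem_zpowers _)
    (zpowers_le.2 z0)
  have c4 : Nat.card ↥(A ⊓ A') = 4 := by
    rw [c0, ez, Nat.card_zpowers, orderOf_eq_prime (p := 2) (by rw [pow_two, zz]) z1]
  have c16 : Nat.card A = 16 := by
    have k1 := card_le4 ab.sqA ha hb h4
    obtain ⟨k, hk⟩ := IsPGroup.iff_card.1 (ab.isPGroup.to_le le_sup_left)
    rw [c4, hk] at k1 hc
    have k2 : 3 < k := (Nat.pow_lt_pow_iff_right (a := 2) (by norm_num)).1 hc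
    have k3 : k ≤ 4 := (Nat.pow_le_pow_iff_right (a := 2) (by norm_num)).1 k1
    rw [hk, show k = 4 by omega]; rfl
  refine ⟨x, z, ⟨hj, xx, c16, c4, z0.1, z1, (h.Z0_comm xS z0).symm,
    fun w hw e => fix w (h.mem_Z0 xS hx' hw e.symm), nz, hcom, xR, hZ, hRS, hS.le.trans hn,
    fun e he => h.mem_of_comm_out xS hx' he.2 (Or.inl ?_)⟩, ez⟩
  rw [← commutatorElement_inv]
  exact inv_mem (cZ1 x hx e he.1).1.1

end Cfsg.Lib.HM
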