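import Cfsg.Agent.HM.St
import Cfsg.Agent.Fus.EssBridge

/-! Centric radical subgroups of `J`. -/

set_option autoImplicit false

open scoped commutatorElement MatrixGroups

namespace Cfsg.Lib.HM

open Cfsg Subgroup
open Cfsg.Lib.Fus hiding cj IsSylowIn
open Cfsg.Lib.Trans (cj IsSylowIn QDFrame)
open Cfsg.Lib.Gold (Ns Cs C1)
open Cfsg.Lib.Gomi (AB PosC ZZ E2)
open Cfsg.Lib.GCT (RB RQ WW QQ VV DD K0 MC)
open Cfsg.Lib.Rank2 (SylEmb DFrame)
open Cfsg.Lib.Fus.Rk2 (FHas TwoCl Rigid autF pullE)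

universe u

theorem Ess0Aux.core {Γ : Type u} [Group Γ] [Finite Γ] {S A A' P : Subgroup Γ} {F : FusionSystem S}
    (ab : AB A A') (hJ : A ⊔ A' ≤ S) (hS : IsPGroup 2 S) (hP : P ≤ A ⊔ A')
    (r : Ess.RadIn F 2 (A ⊔ A') P) : P = A ∨ P = A' ∨ P = A ⊔ A' := by
  by_cases h1 : P ≤ A
  · exact .inl (le_antisymm h1 fun a ha =>
      r.mem_of_commute (mem_sup_left ha) fun x hx => ab.commA (h1 hx) ha)
  by_cases h2 : P ≤ A'
  · exact .inr (.inl (le_antisymm h2 fun a ha =>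
      r.mem_of_commute (mem_sup_right ha) fun x hx => ab.symm.commA (h2 hx) ha))
  refine .inr (.inr (le_antisymm hP fun x hx => ?_))
  have hZ : A ⊓ A' ≤ P := fun z hz =>
    r.mem_of_commute (mem_sup_left hz.1) fun x hx => (ab.comm_Z (hP hx) hz).symm
  have PS := hP.trans hJ
  have inv : Ess.AInv (F.autGroup P) ((A ⊓ A').subgroupOf P) := by
    refine Ess.aInv_of_piso PS fun f i z hz hz' => ?_
    have c : ∀ p ∈ P, p * f z = f z * p := fun p hp => by
      rw [← perm_apply_inv f p, ← i.map_mul (i.inv_maps hp) hz, ← i.map_mul hz (i.inv_maps hp),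
        ab.comm_Z (hP (i.inv_maps hp)) hz']
    have s : f z * f z = 1 := by rw [← i.map_mul hz hz, ab.sqA z hz'.1, i.mor.map_one]
    rcases ab.inv _ (hP (i.maps hz)) s with k | k
    · exact ⟨k, by_contra fun n => h1 fun p hp => ab.mem_of_comm k n (hP hp) (c p hp)⟩
    · exact ⟨by_contra fun n => h2 fun p hp =>
        ab.symm.mem_of_comm k n (sup_comm A A' ▸ hP hp) (c p hp), k⟩
  have n : x ∈ Ns P := mem_normalizer_of_finite fun p hp => by
    have := mul_mem (hZ (ab.comm_mem' hx (hP hp))) hp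
    rwa [commutatorElement_def, inv_mul_cancel_right] at this
  have m := conjAut_mem_autGroup F PS (hJ hx) n
  refine r.mem_of_ptr PS hx n (Ess.PTr.trans (hS.to_le PS)
    (Ess.ptr_of_triv Ess.aInv_top inv m (Ess.triv_conjAut_top_iff.2 fun p hp => ?_))
    (Ess.ptr_of_triv inv Ess.aInv_bot m (Ess.triv_conjAut_bot_iff.2 fun p _ hp => ?_)) Ess.aInv_bot)
  · rw [Ess.inv_mul_conj_eq]
    exact ab.comm_mem' (inv_mem (hP hp)) hx
  · rw [← ab.comm_Z hx hp, mul_inv_cancel_right]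

theorem st_Ess0 : St_Ess0.{u} := fun h hP hc hr =>
  Ess0Aux.core h.ab h.le h.two hP ((Ess.radIn_of_radical (isCentric_self hc) hr).mono h.le)

end Cfsg.Lib.HM
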