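import Cfsg.Agent.HM.St

/-! Small API for `Js`. -/

set_option autoImplicit false

open scoped commutatorElement MatrixGroups

namespace Cfsg.Lib.HM

open Cfsg Subgroup
open Cfsg.Lib.Fus hiding cj IsSylowIn
open Cfsg.Lib.Trans (cj IsSylowIn QDFrame)
open Cfsg.Lib.Gold (Ns Cs C1)
open Cfsg.Lib.Gomi (AB PosC ZZ E2)

universe u

open Cfsg.Lib.Trans Cfsg.Lib.Gold

variable {G : Type u} [Group G]

theorem card_two_of {R K : Subgroup G} {t : G} (ht : t ∈ R) (ht' : t ∉ K)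
    (h : ∀ s ∈ R, s ∉ K → t⁻¹ * s ∈ K) : Nat.card R = 2 * Nat.card (R ⊓ K : Subgroup G) := by
  have h1 : K.relIndex R = 2 := by
    refine Subgroup.index_eq_two_iff'.2 ⟨⟨t, ht⟩⁻¹, fun b => ?_⟩
    by_cases hb : (b : G) ∈ K
    · exact Or.inr ⟨hb, fun e => ht' (inv_mem_iff.1 ((mul_mem_cancel_right hb).1 e))⟩
    · exact Or.inl ⟨h b b.2 hb, hb⟩
  rw [← card_mul_relIndex (inf_le_left : R ⊓ K ≤ R), inf_relIndex_left, h1, mul_comm]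

namespace Js

variable {S A A' : Subgroup G} {y : G} (h : Js S A A' y)
include h

theorem yA' {a : G} (ha : a ∈ A) : y * a * y⁻¹ ∈ A' := h.yA ▸ conj_mem_cj.2 ha

theorem yB' {a : G} (ha : a ∈ A') : y * a * y⁻¹ ∈ A := h.yB ▸ conj_mem_cj.2 ha

theorem yJ : y ∉ A ⊔ A' := fun e =>
  h.ab.nle ((mem_Ns_iff.1 (h.ab.S_le_Ns e)).symm.trans h.yA).le

theorem cardA : Nat.card A' = Nat.card A := by rw [← h.yA, card_cj]

theorem symm : Js S A' A y where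
  two := h.two
  ab := h.ab.symm
  le := sup_comm A A' ▸ h.le
  yS := h.yS
  yA := h.yB
  yB := h.yA
  dec := fun s hs => sup_comm A A' ▸ h.dec s hs
  wk := fun E hE h2 hc => (h.wk E hE h2 (h.cardA ▸ hc)).symm

theorem yNJ : y ∈ Ns (A ⊔ A') := mem_Ns_iff.2 (by rw [cj_sup, h.yA, h.yB, sup_comm])

theorem yNZ : y ∈ Ns (A ⊓ A') := mem_Ns_iff.2 (by rw [cj_inf, h.yA, h.yB, inf_comm])

theorem out {t : G} (ht : t ∈ S) (ht' : t ∉ A ⊔ A') : ∃ j ∈ A ⊔ A', t = y * j :=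
  ⟨y⁻¹ * t, (h.dec t ht).resolve_left ht', by group⟩

theorem nJ : S ≤ Ns (A ⊔ A') := fun t ht => by
  by_cases e : t ∈ A ⊔ A'
  · exact le_normalizer e
  · obtain ⟨j, hj, rfl⟩ := h.out ht e
    exact mul_mem h.yNJ (le_normalizer hj)

theorem nZ : S ≤ Ns (A ⊓ A') := fun t ht => by
  by_cases e : t ∈ A ⊔ A'
  · exact h.ab.S_le_Ns_Z e
  · obtain ⟨j, hj, rfl⟩ := h.out ht e
    exact mul_mem h.yNZ (h.ab.S_le_Ns_Z hj)

theorem cjA {t : G} (ht : t ∈ S) (ht' : t ∉ A ⊔ A') : cj t A = A' := by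
  obtain ⟨j, hj, rfl⟩ := h.out ht ht'
  rw [cj_mul, mem_Ns_iff.1 (h.ab.S_le_Ns hj), h.yA]

theorem cjB {t : G} (ht : t ∈ S) (ht' : t ∉ A ⊔ A') : cj t A' = A := by
  obtain ⟨j, hj, rfl⟩ := h.out ht ht'
  rw [cj_mul, mem_Ns_iff.1 (h.ab.S_le_Ns' hj), h.yB]

theorem quot {t s : G} (ht : t ∈ S) (ht' : t ∉ A ⊔ A') (hs : s ∈ S) (hs' : s ∉ A ⊔ A') :
    t⁻¹ * s ∈ A ⊔ A' := by
  obtain ⟨j, hj, rfl⟩ := h.out ht ht'
  obtain ⟨k, hk, rfl⟩ := h.out hs hs'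
  simpa [mul_assoc] using mul_mem (inv_mem hj) hk

theorem mul_out {t s : G} (ht : t ∈ S) (ht' : t ∉ A ⊔ A') (hs : s ∈ S) (hs' : s ∉ A ⊔ A') :
    t * s ∈ A ⊔ A' := by
  simpa using h.quot (inv_mem ht) (fun e => ht' (inv_mem_iff.1 e)) hs hs'

/-- any element outside `J` can replace `y` -/
theorem ch {t : G} (ht : t ∈ S) (ht' : t ∉ A ⊔ A') : Js S A A' t where
  two := h.two
  ab := h.ab
  le := h.le
  yS := ht
  yA := h.cjA ht ht'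
  yB := h.cjB ht ht'
  dec := fun s hs => (em (s ∈ A ⊔ A')).imp_right fun e => h.quot ht ht' hs e
  wk := h.wk

theorem yy : y * y ∈ A ⊔ A' := h.mul_out h.yS h.yJ h.yS h.yJ

theorem actZ {t w : G} (ht : t ∈ S) (ht' : t ∉ A ⊔ A') (hw : w ∈ A ⊓ A') :
    t * w * t⁻¹ = y * w * y⁻¹ := by
  obtain ⟨j, hj, rfl⟩ := h.out ht ht'
  rw [mul_assoc y j w, ← h.ab.comm_Z hj hw]; group

theorem Z0_comm {s w : G} (hs : s ∈ S) (hw : w ∈ A ⊓ A' ⊓ C1 y) : w * s = s * w := by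
  by_cases e : s ∈ A ⊔ A'
  · exact h.ab.comm_Z e hw.1
  · have h1 := h.actZ hs e hw.1
    rw [← mem_C1.1 hw.2, mul_inv_cancel_right] at h1
    rw [← h1, inv_mul_cancel_right, h1]

theorem mem_Z0 {t w : G} (ht : t ∈ S) (ht' : t ∉ A ⊔ A') (hw : w ∈ A ⊓ A') (e : w * t = t * w) :
    w ∈ A ⊓ A' ⊓ C1 y := by
  refine ⟨hw, mem_C1.2 ?_⟩
  have h1 := h.actZ ht ht' hw
  rw [← e, mul_inv_cancel_right] at h1
  rw [h1, inv_mul_cancel_right, ← h1]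

theorem comm_Z0 {s w : G} (hs : s ∈ S) (hw : w ∈ A ⊓ A') : ⁅w, s⁆ ∈ A ⊓ A' ⊓ C1 y := by
  by_cases e : s ∈ A ⊔ A'
  · rw [commutatorElement_eq_one_iff_mul_comm.2 (h.ab.comm_Z e hw)]; exact one_mem _
  have h1 : s * w * s⁻¹ ∈ A ⊓ A' := mem_normalizer_conj (h.nZ hs) hw
  have h2 : ⁅w, s⁆ = w * (s * w * s⁻¹) := by
    rw [commutatorElement_def, inv_eq_of_sq (h.ab.sqA w hw.1)]; group
  rw [h2]
  refine h.mem_Z0 hs e (mul_mem hw h1) ?_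
  have h3 := h.ab.comm_Z (h.mul_out hs e hs e) hw
  have h4 := h.ab.commA hw.1 h1.1
  calc w * (s * w * s⁻¹) * s = s * w * s⁻¹ * w * s := by rw [h4]
    _ = s * (w * (s⁻¹ * (w * (s * s)) * s⁻¹)) := by group
    _ = _ := by rw [h3]; group

/-- an element of `A` whose commutator with an outer element lies in `Z` lies in `Z` -/
theorem mem_of_comm_out {t a : G} (ht : t ∈ S) (ht' : t ∉ A ⊔ A') (ha : a ∈ A)
    (e : ⁅a, t⁆ ∈ A ∨ ⁅a, t⁆ ∈ A') : a ∈ A' := by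
  have h1 : t * a * t⁻¹ ∈ A' := (h.ch ht ht').yA' ha
  have h2 : ⁅a, t⁆ = a * (t * a * t⁻¹) := by
    rw [commutatorElement_def, inv_eq_of_sq (h.ab.sqA a ha)]; group
  rw [h2] at e
  rcases e with e | e
  · have h3 := (h.ch (inv_mem ht) fun e => ht' (inv_mem_iff.1 e)).yA' ((mul_mem_cancel_left ha).1 e)
    simpa [mul_assoc] using h3
  · exact (mul_mem_cancel_right h1).1 e

theorem card_two {R : Subgroup G} (hR : R ≤ S) {t : G} (ht : t ∈ R) (ht' : t ∉ A ⊔ A') :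
    Nat.card R = 2 * Nat.card (R ⊓ (A ⊔ A') : Subgroup G) :=
  card_two_of ht ht' fun _ hs hs' => h.quot (hR ht) ht' (hR hs) hs'

end Js

end Cfsg.Lib.HM
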