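import Cfsg.Agent.HM.Ess0
import Cfsg.Agent.HM.JsK

/-! Centric radical subgroups outside `J`. -/

set_option autoImplicit false

open scoped commutatorElement MatrixGroups

namespace Cfsg.Lib.HM

open Cfsg Subgroup
open Cfsg.Lib.Fus hiding cj IsSylowIn
open Cfsg.Lib.Trans (cj IsSylowIn QDFrame)
open Cfsg.Lib.Gold (Ns Cs C1)
open Cfsg.Lib.Gomi (AB PosC ZZ E2)
open Cfsg.Lib.GCT (RB RQ WW QQ VV DD K0 MC)
open Cfsg.Lib.Rank2 (SylEmb DFrame)
open Cfsg.Lib.Fus.Rk2 (FHas TwoCl Rigid autF pullE)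

universe u

theorem st_EssJ : St_EssJ.{u} := by
  intro Γ _ _ S F A A' P y h sc hP hc hr
  obtain ⟨t, ht, nt⟩ := SetLike.not_le_iff_exists.1 hP
  have tS := hc.1 ht
  have n := Gold.mem_Ns_iff.1 (Gold.mem_Ns_inf (le_normalizer ht) (h.nJ tS))
  rcases Ess0Aux.core h.ab h.le h.two inf_le_right
    (Ess.radIn_inf h.two (isCentric_self hc) hr sc) with e | e | e
  · exact absurd ((e ▸ n).symm.trans (h.cjA tS nt)).le h.ab.nle
  · exact absurd ((e ▸ n).symm.trans (h.cjB tS nt)).le h.ab.nge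
  · exact e.ge.trans inf_le_left

end Cfsg.Lib.HM
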