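import Cfsg.Agent.HM.St

/-! A bad subgroup exists. -/

set_option autoImplicit false

open scoped commutatorElement MatrixGroups

namespace Cfsg.Lib.HM

open Cfsg Subgroup
open Cfsg.Lib.Fus hiding cj IsSylowIn
open Cfsg.Lib.Trans (cj IsSylowIn QDFrame)
open Cfsg.Lib.Gold (Ns Cs C1)
open Cfsg.Lib.Gomi (AB PosC ZZ E2)
open Cfsg.Lib.GCT (RB RQ WW QQ VV DD K0 MC)
open Cfsg.Lib.Rank2 (SylEmb DFrame)
open Cfsg.Lib.Fus.Rk2 (FHas TwoCl Rigid autF pullE)

universe u

theorem st_ExMx : St_ExMx.{u} := by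
  intro Γ _ _ S F N s hle hne
  have ex : {P | Bad F N P}.Nonempty := by
    by_contra H
    refine hne (fus_le_antisymm hle (le_of_autGroup_le_essential s.two s.sat fun P hP α hα => ?_))
    have hPS : P ≤ S := hP.elim le_of_eq fun e => (lt_of_isEssential s.two s.sat e).le
    obtain ⟨g, r, e⟩ := s.univ.exists_R ((mem_autGroup hPS).1 hα)
    refine (mem_autGroup hPS).2 (Mor.congr (?_ : R N P g) fun x hx => (e x hx).symm)
    by_contra nr
    refine H ⟨P, fun h1 => nr (R.of_cent N hPS ?_), hPS, P, g, le_rfl, le_inf hPS le_normalizer,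
      mem_normalizer_of_finite fun x hx => e x hx ▸ autFun_mem α hx, r, nr⟩
    subst h1
    exact Gold.mem_Cs.2 fun x hx => by rw [mem_bot.1 hx, one_mul, mul_one]
  obtain ⟨U, hU, m⟩ := exists_max_of_bdd _ ex (fun P => Nat.card ↥(S ⊓ Ns P)) (Nat.card S)
    fun P _ => Subgroup.card_le_of_le inf_le_left
  exact ⟨U, hU, m⟩

end Cfsg.Lib.HM
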