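import Cfsg.Agent.HM.St

/-! Automorphisms that fix the Sylow subgroup and normalise its opposite. -/

set_option autoImplicit false

open scoped commutatorElement MatrixGroups

namespace Cfsg.Lib.HM

open Cfsg Subgroup
open Cfsg.Lib.Fus hiding cj IsSylowIn
open Cfsg.Lib.Trans (cj IsSylowIn QDFrame)
open Cfsg.Lib.Gold (Ns Cs C1)
open Cfsg.Lib.Gomi (AB PosC ZZ E2)
open Cfsg.Lib.GCT (RB RQ WW QQ VV DD K0 MC)
open Cfsg.Lib.Rank2 (SylEmb DFrame)
open Cfsg.Lib.Fus.Rk2 (FHas TwoCl Rigid autF pullE)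

universe u

theorem st_Faith (hRtB : St_RtB.{0}) (hRtG : St_RtG.{0}) : St_Faith := by
  intro L _ _ K _ _ m X Y Z V Xm Ym Um h h2 hq hS ng φ hφ fx fy
  have : Fact (Nat.Prime 2) := ⟨Nat.prime_two⟩
  obtain ⟨-, -, -, -, ab⟩ := hRtB h h2
  have fU : rA X Z V ⊔ rA Y Z V ≤ φ.toMonoidHom.eqLocus (MonoidHom.id L) := by
    rw [(hRtG h h2 hq).1]
    exact (closure_le _).2 (by rintro _ (⟨a, rfl⟩ | ⟨a, rfl⟩); exacts [fx a, fy a])
  have key : ∀ A B : Subgroup L, AB A B → IsSylowIn 2 (A ⊔ B) ⊤ → (∀ w ∈ A, φ w = w) →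
      A ⊓ Um ≤ ⊥ → ∀ g ∈ Um ⊓ Ns A, φ g = g := by
    intro A B ab hS fA hi g hg
    have cU : g⁻¹ * φ g ∈ Um := mul_mem (inv_mem hg.1) ((hφ g).2 hg.1)
    have cC : g⁻¹ * φ g ∈ Cs A := Gold.mem_Cs.2 fun w hw => by
      have e := fA _ (Trans.mem_normalizer_conj hg.2 hw)
      rw [map_mul, map_mul, map_inv, fA w hw] at e
      calc w * (g⁻¹ * φ g) = g⁻¹ * (g * w * g⁻¹) * φ g := by group
        _ = _ := by rw [← e]; group
    obtain ⟨k, -, hk⟩ := hS.exists_cj_le ((ab.isPGroup.to_le le_sup_left).to_sup_of_normal_left'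
      (ng.two.to_le (zpowers_le.2 cU)) (zpowers_le.2 (Gold.Cs_le_Ns cC))) le_top
    have kA : k ∈ Ns A := Gold.mem_Ns_iff.2
      (ab.cj_eq hS (mem_top k) ((Trans.cj_mono k le_sup_left).trans hk))
    have : k * (g⁻¹ * φ g) * k⁻¹ ∈ A := ab.inf_Cs.le
      ⟨Trans.cj_le_iff.1 hk _ (mem_sup_right (mem_zpowers _)),
        Trans.mem_normalizer_conj (Gold.mem_Ns_Cs kA) cC⟩
    have := Trans.mem_normalizer_conj' kA this
    rw [show k⁻¹ * (k * (g⁻¹ * φ g) * k⁻¹) * k = g⁻¹ * φ g by group] at this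
    exact (inv_mul_eq_one.1 (mem_bot.1 (hi ⟨this, cU⟩))).symm
  have : (⊤ : Subgroup L) ≤ φ.toMonoidHom.eqLocus (MonoidHom.id L) := by
    rw [← ng.gen]
    refine (closure_le _).2 ?_
    rintro _ (((⟨a, rfl⟩ | ⟨a, rfl⟩) | ⟨a, rfl⟩) | ⟨a, rfl⟩)
    · exact fx a
    · exact fy a
    · exact key _ _ ab.symm (Gomi.AB.symm_syl hS) (fun w hw => fU (mem_sup_right hw))
        ((inf_le_inf_right _ le_sup_right).trans ng.inf.le) _ (ng.xm a)
    · exact key _ _ ab hS (fun w hw => fU (mem_sup_left hw))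
        ((inf_le_inf_right _ le_sup_left).trans ng.inf.le) _ (ng.ym a)
  exact MulEquiv.ext fun g => this (mem_top g)

end Cfsg.Lib.HM
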