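import Cfsg.Agent.HM.St
import Cfsg.Agent.AB.Auto

/-! The frame. -/

set_option autoImplicit false

open scoped commutatorElement MatrixGroups

namespace Cfsg.Lib.HM

open Cfsg Subgroup
open Cfsg.Lib.Trans
open Cfsg.Lib.Gold
open Cfsg.Lib.Gomi

universe u

theorem st_Fr (hRt : St_Rt.{u}) : St_Fr.{u} := by
  intro Γ _ _ S F K _ _ A A' D Λ s u x z p lam w hq
  obtain ⟨m, y, v, rt, eA, eB, vD, py, ys, -, swp⟩ := hRt w.toWg lam.js.ab lam.nB lam.ss lam.js.yA
    lam.sΛ w.sD hq
  have P := rt.pos
  have h2 := w.two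
  have x0 := zero_of_add P.addX
  have y0 := zero_of_add P.addY
  have z0 := zero_of_add P.addZ
  have v0 := zero_of_add P.addV
  have ix : ∀ a b, x a = x b → a = b := fun a b e => by
    have := (rt.inj (a + b) 0 0 0 (by rw [← P.addX, e, P.addX, show b + b = 0 by
      linear_combination b * h2, x0, y0, z0, v0]; simp)).1
    linear_combination this - b * h2
  have iy : ∀ a b, y a = y b → a = b := fun a b e => by rw [← py a, e, py]
  have yB : ∀ b, y b ∈ A' := fun b => eB ▸ subset_closure (.inl (.inl ⟨b, rfl⟩))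
  have ny : ∀ l ∈ Λ, ∀ b, ∃ b', l * y b * l⁻¹ = y b' := fun l hl b => by
    obtain ⟨a, e⟩ := ys b
    obtain ⟨a', e'⟩ := w.nx _ (mem_normalizer_conj' lam.sΛ hl) a
    obtain ⟨f, g, σ, -, -, k, -⟩ := swp
    refine ⟨_, Eq.trans ?_ (k a')⟩
    rw [e, ← e']; group
  refine ⟨m, y, v,
    { two := h2
      rt := rt
      lam := by rw [eA, eB]; exact lam
      mon := fun l hl => ?_
      tor := fun t ht => ?_
      swp := swp
      ux := w.ux
      uz := w.uz
      uv := fun a => by rw [← mem_Cs.1 w.uD _ (vD a), mul_inv_cancel_right]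
      uF := by rw [eA]; exact w.uF
      extA := by rw [eA, eB]; exact w.extA }, eA, eB⟩
  · choose α ea using w.nx l hl
    choose β eb using ny l hl
    choose κ ec using w.nz l hl
    have cm : ∀ a b, l * a * l⁻¹ * (l * b * l⁻¹) = l * (a * b) * l⁻¹ := fun a b => by group
    have one : ∀ {a}, l * a * l⁻¹ = 1 → a = 1 := fun e => by simpa using e
    obtain ⟨σ, k1, k2, -⟩ := exists_ringAut_of_autotopy (f := α) (g := β) (k := κ)
      (fun a b => ix _ _ (by rw [← P.addX, ← ea, ← ea, ← ea, cm, P.addX]))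
      (fun a b => by
        have e1 := congrArg (fun g => l * g * l⁻¹) (P.comm a b)
        simp only [← cm, ea, eb, ec] at e1
        rw [P.comm, mul_left_inj, mul_left_inj] at e1
        have e2 : z (κ (a * b) + α a * β b) ∈ D := by
          have e3 : z (κ (a * b) + α a * β b) * v (α a ^ 2 * β b) = l * v (a ^ 2 * b) * l⁻¹ := by
            rw [← P.addZ, mul_assoc, e1, ← mul_assoc, P.addZ, show κ (a * b) + κ (a * b) = 0 by
              linear_combination κ (a * b) * h2, z0, one_mul]
          exact (mul_mem_cancel_right (vD _)).1 (e3 ▸ mem_normalizer_conj (w.nD hl) (vD _))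
        linear_combination w.zinj _ e2 - α a * β b * h2)
      (fun e => one_ne_zero (ix 1 0 ((one ((ea 1).trans (e ▸ x0))).trans x0.symm)))
      (fun e => one_ne_zero (iy 1 0 ((one ((eb 1).trans (e ▸ y0))).trans y0.symm)))
    exact ⟨α 1, β 1, σ, fun e => one_ne_zero (ix 1 0 ((one ((ea 1).trans (e ▸ x0))).trans x0.symm)),
      fun e => one_ne_zero (iy 1 0 ((one ((eb 1).trans (e ▸ y0))).trans y0.symm)),
      fun a => (ea a).trans (congrArg x (k1 a)), fun b => (eb b).trans (congrArg y (k2 b))⟩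
  · obtain ⟨l, hl, e1, e2, -⟩ := w.tor t ht
    refine ⟨l, hl, e1, fun b => ?_⟩
    obtain ⟨b', e⟩ := ny l hl b
    have := e2 _ (yB b)
    rw [e, py, py] at this
    exact e.trans (congrArg y this)

end Cfsg.Lib.HM
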