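import Cfsg.Agent.HM.St
import Cfsg.Agent.GCT.Kill

/-! Field automorphisms act freely. -/

set_option autoImplicit false

open scoped commutatorElement MatrixGroups

namespace Cfsg.Lib.HM

open Cfsg Subgroup
open Cfsg.Lib.Fus hiding cj IsSylowIn
open Cfsg.Lib.Trans (cj IsSylowIn QDFrame)
open Cfsg.Lib.Gold (Ns Cs C1)
open Cfsg.Lib.Gomi (AB PosC ZZ E2)
open Cfsg.Lib.GCT (RB RQ WW QQ VV DD K0 MC)
open Cfsg.Lib.Rank2 (SylEmb DFrame)
open Cfsg.Lib.Fus.Rk2 (FHas TwoCl Rigid autF pullE)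

universe u

theorem st_Free : St_Free.{u} := by
  intro G _ _ K _ _ θ ψ A B D' c x hx e hx' h2
  have P := c.par
  have ab := P.ab
  obtain ⟨σ, f, g, h, hσ, hs⟩ := c.exists_act_field hx e hx' h2
  refine ⟨fun a ha h3 => ?_, fun b hb h3 => ?_, fun Y hY hxY hd hsup w hw e1 => ?_⟩
  · obtain ⟨u, hu⟩ := GCT.exists_add_eq P.two hσ hs
      ((h.al a ha).symm.trans ((P.comm_mem_B hx.1 ha).1 h3))
    obtain ⟨v, hv, -, rfl⟩ := P.exists_psi 0 u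
    have h4 := Gomi.Par.comm_mem_N hx.1 hv
    refine ⟨v, hv, ?_⟩
    rw [P.memB _ (mul_mem h4 ha), P.add h4 ha, P.psi_comm_N hx.1 hv, h.al v hv, add_comm (f * _),
      hu, P.add_eq_zero]
  · obtain ⟨u, hu⟩ := GCT.exists_add_eq P.two hσ hs
      ((h.be b hb).symm.trans ((P.comm_mem_A hx.2 hb).1 h3))
    obtain ⟨v, hv, rfl⟩ := P.exists_B u
    have h4 := Gomi.Par.comm_mem_N hx.2 hv
    refine ⟨v, hv, ?_⟩
    rw [P.memA (mul_mem h4 hb), P.addB h4 hb, P.theta_comm_N hx.2 hv, h.be v hv, add_comm (g * _),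
      hu, P.add_eq_zero]
  · have hwZ := hY hw
    obtain ⟨u, hu⟩ := GCT.exists_add_eq P.two hσ hs (c := f * g) (a := ψ w 0) (by
      rw [← h.ga w hwZ, e1, mul_inv_cancel_right])
    obtain ⟨z, hz, rfl, -⟩ := P.exists_Z u
    obtain ⟨d, hd1, v, hv, rfl⟩ := Solv.exists_mul_of_mem_sup_of_le_normalizer
      (fun y (hy : y ∈ Y) => Gomi.Ns_le_Ns_ZZ (le_normalizer (hY hy).1))
      ((sup_comm Y (ZZ A B)).le (hsup hz))
    have hdZ := Gomi.ZZ_le ab hd1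
    have hvZ := hY hv
    rw [P.add hdZ.1 hvZ.1, (P.mem_ZZ' hdZ).1 hd1, zero_add] at hu
    have h4 := Gomi.Par.comm_mem_N hxY hv
    have h5 : ⁅x, v⁆ * w ∈ Y ⊓ ZZ A B := by
      refine ⟨mul_mem h4 hw, ?_⟩
      change _ ∈ ZZ A B
      rw [P.mem_ZZ' (hY (mul_mem h4 hw)), P.add (hY h4).1 hwZ.1, P.psi_comm_N hx.1 hvZ.1,
        h.ga v hvZ, add_comm (f * g * _), hu, P.add_eq_zero]
    rw [hd, mem_bot] at h5
    exact ⟨v, hv, by
      rw [eq_inv_of_mul_eq_one_left h5, inv_eq_of_mul_eq_one_left (ab.sqA w hwZ.1)]⟩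

end Cfsg.Lib.HM
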