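import Cfsg.Agent.HM.St

/-! Minimal 2-fusion systems in the pushing-up case: transport of the hypotheses. -/

set_option autoImplicit false

open scoped commutatorElement MatrixGroups

namespace Cfsg.Lib.HM

open Cfsg Subgroup
open Cfsg.Lib.Fus hiding cj IsSylowIn
open Cfsg.Lib.Trans (cj IsSylowIn QDFrame)
open Cfsg.Lib.Gold (Ns Cs C1)

universe u

namespace FwdAux

open Cfsg.FusionSystem

variable {Ω Γ : Type*} [Group Ω] [Group Γ] {S : Subgroup Ω} {S' : Subgroup Γ}
  {F : FusionSystem S} {F' : FusionSystem S'} {t : Ω → Γ} {t' : Γ → Ω}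

theorem img_norm_le (h : FImg F F' t) {P U : Subgroup Ω} (hU : U ≤ S)
    (hP : P ≤ normalizerIn S U) : img P t ≤ normalizerIn S' (img U t) :=
  img_le_iff.2 fun _ hx => mem_normalizerIn.2 ⟨h.maps (hP hx).1,
    h.mulOn.map_mem_normalizer hU (hP hx).1 (hP hx).2⟩

theorem kmor_img (h : FImg F F' t) {P U : Subgroup Ω} {f : Ω → Ω} {f' : Γ → Γ}
    (hf : KMor F U ⊤ P f) (e : ∀ x ∈ P, f' (t x) = t (f x)) :
    KMor F' (img U t) ⊤ (img P t) f' := by
  obtain ⟨hP, g, hg, e1, e2⟩ := kMor_top_iff.1 hf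
  have hU : U ≤ S := le_sup_right.trans hg.le
  have hPS : P ≤ S := le_sup_left.trans hg.le
  obtain ⟨g', hg', e3⟩ := h.mor _ _ hg
  rw [img_sup (h.mulOn.mono hg.le)] at hg'
  refine kMor_top_iff.2 ⟨img_norm_le h hU hP, g', hg', fun y hy => ?_, ?_⟩
  · obtain ⟨x, hx, rfl⟩ := (h.mulOn.mono hPS).mem_img.1 hy
    rw [e3 x (mem_sup_left hx), e1 x hx, e x hx]
  · rw [img_img_eq (h.mulOn.mono hU) (hg.mulOn.mono le_sup_right)
      fun x hx => e3 x (mem_sup_right hx), e2]

theorem img_img (h : FImg F F' t) (l : ∀ x ∈ S, t' (t x) = x) {P : Subgroup Ω} (hP : P ≤ S) :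
    img (img P t) t' = P := by
  rw [← img_comp (h.mulOn.mono hP)]
  exact img_eq_self_of_eqOn fun x hx => l x (hP hx)

theorem exists_kmor (h : FImg F F' t) {P U : Subgroup Ω} {f : Ω → Ω} (hf : KMor F U ⊤ P f) :
    ∃ f', KMor F' (img U t) ⊤ (img P t) f' ∧ ∀ x ∈ P, f' (t x) = t (f x) := by
  obtain ⟨f', -, e⟩ := h.mor _ _ hf.mor
  exact ⟨f', kmor_img h hf e, e⟩

theorem fImg_norm (h : FImg F F' t) (h' : FImg F' F t') (l : ∀ x ∈ S, t' (t x) = x)
    (r : ∀ y ∈ S', t (t' y) = y) {U : Subgroup Ω} (hU : U ≤ S) {U' : Subgroup Γ} (hU' : U' ≤ S')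
    (eU : img U t = U') : FImg (normSys F U hU) (normSys F' U' hU') t := by
  have eU' : img U' t' = U := by rw [← eU, img_img h l hU]
  have hm := h.mulOn.mono (normalizerIn_le (S := S) (P := U))
  have back : ∀ y ∈ normalizerIn S' U', t' y ∈ normalizerIn S U := fun y hy => by
    have := img_norm_le h' hU' le_rfl (mem_img_of_mem t' hy)
    rwa [eU'] at this
  refine ⟨hm, le_antisymm (eU ▸ img_norm_le h hU le_rfl) fun y hy => ?_, fun P f hf => ?_,
    fun P' f' hf' => ?_⟩
  · rw [← r y hy.1]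
    exact mem_img_of_mem t (back y hy)
  · obtain ⟨f', h1, h2⟩ := exists_kmor h (mor_normSys'.1 hf)
    exact ⟨f', mor_normSys'.2 (eU ▸ h1), h2⟩
  · obtain ⟨f, h1, h2⟩ := exists_kmor h' (mor_normSys'.1 hf')
    have hP' : P' ≤ normalizerIn S' U' := hf'.le
    have e : pre (normalizerIn S U) t P' = img P' t' := by
      refine le_antisymm (fun x hx => ?_) (img_le_iff.2 fun y hy => ?_)
      · obtain ⟨hx1, hx2⟩ := hm.mem_pre.1 hx
        rw [← l x hx1.1]
        exact mem_img_of_mem t' hx2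
      · exact mem_pre_of (back y (hP' hy)) (by rw [r y (hP' hy).1]; exact hy)
    rw [eU'] at h1
    refine ⟨f, e ▸ mor_normSys'.2 h1, fun x hx => ?_⟩
    obtain ⟨hx1, hx2⟩ := hm.mem_pre.1 hx
    have := h2 _ hx2
    rw [l x hx1.1] at this
    rw [this, r _ (hf'.maps hx2).1]

theorem img_ne_bot (h' : FImg F' F t') (r : ∀ y ∈ S', t (t' y) = y) (h1 : t 1 = 1)
    {U' : Subgroup Γ} (hU' : U' ≤ S') (hne : U' ≠ ⊥) : img U' t' ≠ ⊥ := fun e => hne <| by
  have := h'
  refine eq_bot_iff.2 fun y hy => ?_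
  have h2 : t' y ∈ img U' t' := mem_img_of_mem t' hy
  rw [e, mem_bot] at h2
  rw [mem_bot, ← r y (hU' hy), h2, h1]

theorem exists_img {T' : Subgroup Γ} [Finite S] (E : FusionSystem S) (ht : MulOn S t)
    (hi : Set.InjOn t S) (e : img S t = T') : ∃ E' : FusionSystem T', FImg E E' t := by
  subst e
  exact exists_fImg_of_injOn E ht hi

end FwdAux

open FwdAux in
theorem st_Fwd : St_Fwd.{u} := by
  intro Ω Γ _ _ S _ F N i hi hS hF hmin hN hle hne hpar
  have : Fact (Nat.Prime 2) := ⟨Nat.prime_two⟩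
  have hinj := injOn_extFun hi
  obtain ⟨F', h⟩ := exists_img F (mulOn_extFun i) hinj (img_extFun_top i)
  obtain ⟨N', hn⟩ := exists_img N (mulOn_extFun i) hinj (img_extFun_top i)
  obtain ⟨t', h', -, l, r⟩ := h.exists_inv hinj
  obtain ⟨t'', hn', -, l', r'⟩ := hn.exists_inv hinj
  have ett : ∀ y ∈ i.range, t'' y = t' y := fun y hy => by
    conv_lhs => rw [← r y hy]
    exact l' _ (h'.maps hy)
  replace hn' := hn'.congr ett
  refine ⟨F', N', h.saturated hS hF, ?_, hn.saturated hS hN, h.sub hn hle, ?_, ?_, h⟩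
  · intro U' hU0 hU' E' hE'
    have hUS : img U' t' ≤ S := h'.img_le hU'.1
    have eU : img (img U' t') (extFun i) = U' := img_img h' r hU'.1
    have hpre : pre S (extFun i) U' = img U' t' := by
      conv_lhs => rw [← eU]
      exact h.mulOn.pre_img_of_ker_le hUS (by rw [h.mulOn.pre_bot_of_injOn hinj]; exact bot_le)
    have hU : F.IsFullyNormalized (img U' t') := hpre ▸ (h.isFullyNormalized_iff hU'.1).1 hU'
    have hs := hmin _ (img_ne_bot h' r h.mulOn.map_one hU'.1 hU0) hU _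
      (isNormalizerSystem_normSys F _ hU.1)
    rw [eq_normSys hE' hU'.1]
    have : Finite (FusionSystem.normalizerIn S (img U' t')) :=
      Finite.of_injective _ (inclusion_injective normalizerIn_le)
    exact IsSolvable.img (hS.to_le normalizerIn_le) (normSys_saturated hS hF hU) hs
      (fImg_norm h h' l r hU.1 hU'.1 eU)
  · rintro rfl
    exact hne (hn'.unique h')
  · intro R' hR0 hRS hSR hsub P' φ' hφ'
    have hR : img R' t' ≤ S := h'.img_le hRS
    have hSR' : S ≤ normalizer (img R' t' : Set Ω) := fun x hx => by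
      rw [← l x hx]
      exact h'.mulOn.map_mem_normalizer hRS (h.maps hx) (hSR (h.maps hx))
    have key := hpar _ (img_ne_bot h' r h.mulOn.map_one hRS hR0) hR hSR' fun P φ hφ => by
      have e0 : ∀ x : P, φ x = extFun φ x := fun x => (extFun_coe φ x).symm
      have h1 := (mem_normalizerHom' e0).1 hφ
      obtain ⟨f', h2, h3⟩ := exists_kmor h h1
      rw [h.img_eq] at h2
      have h4 := hsub _ ((mem_normalizerHom' (φ := h2.mor.mulOn.toHom) fun _ => rfl).2 h2)
      have h5 := (mem_normalizerHom' (f := f') fun _ => rfl).1 h4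
      have hP : P ≤ S := h1.mor.le
      have h6 := kmor_img h' (f' := extFun φ) h5 fun y hy => by
        obtain ⟨x, hx, rfl⟩ := (h.mulOn.mono hP).mem_img.1 hy
        rw [l x (hP hx), h3 x hx, l _ (h1.mor.maps hx)]
      rw [img_img h l hP] at h6
      exact (mem_normalizerHom' e0).2 h6
    have e0 : ∀ x : P', φ' x = extFun φ' x := fun x => (extFun_coe φ' x).symm
    have h1 := (mem_normalizerHom' e0).1 hφ'
    obtain ⟨f, h2, h3⟩ := exists_kmor h' h1
    have h4 := key _ ((mem_normalizerHom' (φ := h2.mor.mulOn.toHom) fun _ => rfl).2 h2)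
    have h5 : Mor N (img P' t') f := (mem_hom_iff' fun _ => rfl).1 h4
    have hP : P' ≤ i.range := h1.mor.le
    have h6 := hn.mor_of (f' := extFun φ') h5 fun x hx => by
      obtain ⟨y, hy, rfl⟩ := (h'.mulOn.mono hP).mem_img.1 hx
      rw [r y (hP hy), h3 y hy, r _ (h1.mor.maps hy)]
    rw [img_img h' r hP] at h6
    exact mem_hom_iff.2 h6

end Cfsg.Lib.HM
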