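import Cfsg.Agent.HM.St
import Cfsg.Agent.A10S.LemA

/-! Subgroups of `GL₃(2)` of twice odd order. -/

set_option autoImplicit false

open scoped commutatorElement MatrixGroups

namespace Cfsg.Lib.HM

open Cfsg Subgroup
open Cfsg.Lib.Fus hiding cj IsSylowIn
open Cfsg.Lib.Trans (cj IsSylowIn QDFrame)
open Cfsg.Lib.Gold (Ns Cs C1)
open Cfsg.Lib.Gomi (AB PosC ZZ E2)
open Cfsg.Lib.GCT (RB RQ WW QQ VV DD K0 MC)
open Cfsg.Lib.Rank2 (SylEmb DFrame)
open Cfsg.Lib.Fus.Rk2 (FHas TwoCl Rigid autF pullE)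

universe u

theorem st_GL32 : St_GL32.{u} := by
  intro V _ hV h2 X n4 d2 α hα o β hβ ho
  have : Finite V := Nat.finite_of_card_ne_zero (by rw [hV]; norm_num)
  have : Fact (Nat.Prime 2) := ⟨Nat.prime_two⟩
  have iv : ∀ a : V, a⁻¹ = a := fun a => inv_eq_of_mul_eq_one_right (h2 a)
  have cm : ∀ a b : V, a * b = b * a := fun a b => by rw [← iv (a * b), mul_inv_rev, iv, iv]
  have : IsMulCommutative V := ⟨⟨cm⟩⟩
  have : Solv.ElemAb 2 V := ⟨cm, fun a => by rw [pow_two, h2]⟩
  have hA : Nat.card (MulAut V) = 168 := by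
    rw [Solv.Vec.card_mulAut (p := 2) (n := 3) hV]
    decide
  have : Finite (MulAut V) := Nat.finite_of_card_ne_zero (by rw [hA]; norm_num)
  have d : Nat.card X ∣ 168 := hA ▸ X.card_subgroup_dvd_card
  have d3 : 3 ∣ Nat.card X := o ▸ orderOf_dvd_natCard X hα
  have n := A10S.LemA.not_card h2 hV X
  have c6 : Nat.card X = 6 := by
    have := Nat.le_of_dvd (by norm_num) d
    generalize Nat.card X = m at *
    interval_cases m <;> omega
  refine Rk2.mem_of_relIndex_dvd_two (B := X) ?_ hβ ho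
  have := card_mul_index ((zpowers α).subgroupOf X)
  rw [Nat.card_congr (subgroupOfEquivOfLe (zpowers_le.2 hα)).toEquiv, Nat.card_zpowers, o, c6] at this
  exact (show ((zpowers α).subgroupOf X).index = 2 by omega).dvd

end Cfsg.Lib.HM
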