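import Cfsg.Agent.HM.St
import Cfsg.Agent.GW.L2Model
import Cfsg.Agent.Class.SmallFields
import Cfsg.Agent.D8.EndNum
import Cfsg.Agent.S0254

/-! The holomorph of the cyclic group of order eight inside `Aut(A₆)`. -/

set_option autoImplicit false

open scoped commutatorElement MatrixGroups

namespace Cfsg.Lib.HM

open Cfsg Subgroup
open Cfsg.Lib.Known Cfsg.Lib.Class Cfsg.Lib.Rank2 Matrix

namespace H8AAux

/-- Normal form of the elements of `PΓL₂(9)`. -/
def A (g : GL (Fin 2) GF9) (e : Bool) : PGamma GF9 :=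
  ⟨ProjGenLinGroup.mk g, cond e starRingAut 1⟩

theorem A_mul (g k : GL (Fin 2) GF9) (e f : Bool) :
    A g e * A k f = A (g * cond e (fieldGL _ _ starRingAut k) k) (e ^^ f) := by
  refine SemidirectProduct.ext ?_ ?_
  · cases e
    · simp [A]
    · simp [A, fieldPGL_mk]
  · cases e <;> cases f
    exacts [rfl, rfl, rfl, RingEquiv.ext star_star]

theorem A_one : 1 = A 1 false := rfl

theorem A_eq_iff {g k : GL (Fin 2) GF9} {e : Bool} :
    A g e = A k e ↔ ∃ c : GF9, c ≠ 0 ∧ g.val * Matrix.scalar _ c = k.val := by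
  rw [SemidirectProduct.ext_iff, A, A, ProjGenLinGroup.mk_eq_mk_iff]
  exact ⟨fun ⟨⟨c, h⟩, _⟩ => ⟨c, c.ne_zero, congrArg Units.val h⟩,
    fun ⟨c, n, h⟩ => ⟨⟨Units.mk0 c n, Units.ext h⟩, rfl⟩⟩

/-- An invertible matrix. -/
def U (a b : Matrix (Fin 2) (Fin 2) GF9) (h : a * b = 1 := by decide +kernel) :
    GL (Fin 2) GF9 := ⟨a, b, h, mul_eq_one_comm.1 h⟩

/-- of order eight -/
def r := A (U !![⟨1, 1⟩, 0; 0, 1] !![⟨-1, 1⟩, 0; 0, 1]) false
/-- inverts `r` -/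
def w := A (U !![0, 1; 1, 0] !![0, 1; 1, 0]) false
/-- a field automorphism -/
def d := A (U !![0, 1; -1, 0] !![0, -1; 1, 0]) true
/-- of order three -/
def g := A (U !![1, ⟨0, 1⟩; 1, ⟨0, -1⟩] !![-1, -1; ⟨0, 1⟩, ⟨0, -1⟩]) false

theorem rel : HR r w d ∧ Al r w d g := by
  refine ⟨⟨?_, ?_, ?_, ?_, eq_inv_of_mul_eq_one_left ?_, ?_, ?_⟩,
    ⟨mul_inv_eq_of_eq_mul ?_, mul_inv_eq_of_eq_mul ?_, mul_inv_eq_of_eq_mul ?_⟩⟩
  all_goals
    try simp only [pow_succ, pow_zero, one_mul]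
    simp only [r, w, d, g, A_one, A_mul, Bool.xor_self, Bool.xor_false, Bool.xor_true,
      Bool.not_false, A_eq_iff, Ne]
    decide +kernel

theorem out : (r * d * w).left ∉ psl2 GF9 := by
  simp only [r, w, d, A_mul]
  rw [A, mk_mem_psl2_iff, det_fin_two]
  decide +kernel

theorem tr {G H : Type*} [Group G] [Group H] (e : G ≃* H) {r w d g : G}
    (h : HR r w d ∧ Al r w d g) (χ : G →* ℤˣ) (n : χ (r * d * w) = -1) :
    ∃ r w d g : H, HR r w d ∧ Al r w d g ∧ ∃ K : Subgroup H, K.index = 2 ∧ r * d * w ∉ K := by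
  obtain ⟨⟨h1, h2, h3, h4, h5, h6, h7⟩, h8, h9, h10⟩ := h
  have k : χ.comp e.symm.toMonoidHom (e r * e d * e w) = -1 := by simpa using n
  refine ⟨e r, e w, e d, e g, ⟨?_, ?_, ?_, ?_, ?_, ?_, ?_⟩, ⟨?_, ?_, ?_⟩,
    (χ.comp e.symm.toMonoidHom).ker, ?_, fun a => absurd (k.symm.trans a) (by decide)⟩
  rotate_right
  · rw [index_ker, MonoidHom.range_eq_top.2 fun u => (Int.units_eq_one_or u).elim
      (fun a => ⟨1, by rw [a, map_one]⟩) fun a => ⟨_, a ▸ k⟩]
    simp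
  all_goals
    simp only [← map_mul, ← map_pow, ← map_inv, Ne, EmbeddingLike.map_eq_one_iff,
      EmbeddingLike.apply_eq_iff_eq]
    assumption

end H8AAux

open H8AAux in
theorem st_H8A : St_H8A := by
  have o : Odd (Nat.card GF9) := by rw [Nat.card_eq_fintype_card, card_GF9]; decide
  obtain ⟨e₀⟩ := Agent.S0254.result card_GF9
  exact ⟨by rw [← Nat.card_congr (MulAut.congr e₀).toEquiv, (D8.End.card_L9 card_GF9).2],
    tr ((MulEquiv.ofBijective _ (GW.L2.actP_bijective o)).trans (MulAut.congr e₀)) rel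
      (PGamma.sgn o) ((PGamma.sgn_eq_neg_one_iff o).2 out)⟩

end Cfsg.Lib.HM
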