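import Cfsg.Agent.HM.St
import Cfsg.Agent.Known.PSLAut

/-! The holomorph of the cyclic group of order eight inside `Aut(L₃(3))`. -/

set_option autoImplicit false

open scoped commutatorElement MatrixGroups

namespace Cfsg.Lib.HM

open Cfsg Subgroup
open Cfsg.Lib.Gold (Ns Cs C1)
open Cfsg.Lib.Known

namespace H8LAux

/-- Normal form of the automorphisms. -/
def A (g : GL (Fin 3) (ZMod 3)) (e : Bool) : MulAut PSL(3, ZMod 3) :=
  innD _ _ g * cond e (graphAut _ _) 1

theorem A_mul (g k : GL (Fin 3) (ZMod 3)) (e f : Bool) :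
    A g e * A k f = A (g * cond e (Class.invT _ _ k) k) (e ^^ f) := by
  cases e
  · simp [A, mul_assoc]
  · rw [A, A, A, cond_true, cond_true, mul_assoc, ← mul_assoc (graphAut _ _), graphAut_mul_innD,
      map_mul, mul_assoc, mul_assoc]
    cases f
    · simp
    · simp [graphAut_mul_self]

theorem A_one : 1 = A 1 false := by simp [A]

theorem A_eq_iff {g k : GL (Fin 3) (ZMod 3)} {e : Bool} :
    A g e = A k e ↔ k.val = g.val ∨ k.val = -g.val := by
  rw [A, A, mul_left_inj, innD_eq_iff]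
  have e : (g.val * Matrix.diagonal fun _ => -1) = -g.val := by ext; simp
  refine ⟨fun ⟨c, h⟩ => ?_, fun h => h.elim (fun h => ⟨1, Units.ext (by simp [h])⟩)
    fun h => ⟨-1, Units.ext (by simp [h, e])⟩⟩
  rcases (by decide : ∀ c : (ZMod 3)ˣ, c = 1 ∨ c = -1) c with rfl | rfl <;> simp [h, e]

/-- An invertible matrix. -/
def U (a b : Matrix (Fin 3) (Fin 3) (ZMod 3)) (h : a * b = 1 := by decide +kernel) :
    GL (Fin 3) (ZMod 3) := ⟨a, b, h, mul_eq_one_comm.1 h⟩

/-- of order eight -/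
def r := A (U !![1, 1, 0; -1, 1, 0; 0, 0, -1] !![-1, 1, 0; -1, -1, 0; 0, 0, -1]) true
/-- inverts `r` -/
def w := A (U !![1, 0, 0; 0, -1, 0; 0, 0, -1] !![1, 0, 0; 0, -1, 0; 0, 0, -1]) false
/-- the graph automorphism -/
def d := A 1 true
/-- a cyclic permutation -/
def g := A (U !![0, 0, 1; 1, 0, 0; 0, 1, 0] !![0, 1, 0; 0, 0, 1; 1, 0, 0]) false
/-- a transvection -/
def h := A (U !![1, 2, 0; 0, 1, 0; 0, 0, 1] !![1, 1, 0; 0, 1, 0; 0, 0, 1]) false

end H8LAux

open H8LAux in
theorem st_H8L : St_H8L := by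
  have h3 : h ^ 3 = 1 := by
    simp only [pow_succ, pow_zero, one_mul]
    simp only [h, A_one, A_mul, Bool.xor_self, A_eq_iff]
    decide +kernel
  refine ⟨r, w, d, g, h, ⟨?_, ?_, ?_, ?_, eq_inv_of_mul_eq_one_left ?_, ?_, ?_⟩,
    ⟨mul_inv_eq_of_eq_mul ?_, mul_inv_eq_of_eq_mul ?_, mul_inv_eq_of_eq_mul ?_⟩,
    Trans.mem_normalizer_of_cj_le (map_le_iff_le_comap.2 ((closure_le _).2 ?_)),
    (Nat.Coprime.coprime_dvd_left (orderOf_dvd_of_pow_eq_one h3) (by decide)),
    fun k => absurd (k (r ^ 2) (subset_closure (by simp))) ?_⟩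
  pick_goal 11
  · have a : r ^ 2 ∈ R8 r w d := subset_closure (by simp)
    have b : r * d * w ∈ R8 r w d := subset_closure (by simp)
    have c : d ∈ R8 r w d := subset_closure (by simp)
    have k : ∀ {x y}, y ∈ R8 r w d → h * x = y * h → x ∈ comap (MulAut.conj h).toMonoidHom (R8 r w d) :=
      fun m e => (congrArg (· ∈ R8 r w d) (mul_inv_eq_of_eq_mul e)).mpr m
    rintro - (rfl | rfl | rfl)
    on_goal 1 => refine k b ?_
    on_goal 2 => refine k (mul_mem a b) ?_
    on_goal 3 => refine k (mul_mem (mul_mem a b) c) ?_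
    all_goals
      simp only [pow_succ, pow_zero, one_mul]
      simp only [r, w, d, h, A_mul, Bool.xor_self, Bool.xor_false, Bool.xor_true, Bool.not_false,
        A_eq_iff]
      decide +kernel
  all_goals
    try simp only [pow_succ, pow_zero, one_mul]
    simp only [r, w, d, g, h, A_one, A_mul, Bool.xor_self, Bool.xor_false, Bool.xor_true,
      Bool.not_false, A_eq_iff, Ne]
    decide +kernel

end Cfsg.Lib.HM
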