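import Cfsg.Agent.HM.St
import Cfsg.Agent.S0813
import Cfsg.Agent.Known.PSLAutCent

/-! The order of `Aut(L₃(3))`. -/

set_option autoImplicit false

namespace Cfsg.Lib.HM

open Matrix

theorem st_H8Lc : St_H8Lc := by
  have h1 := Known.card_PGL_mul (ι := Fin 3) (F := ZMod 3)
  rw [card_GL_field, Nat.card_zmod, ZMod.card] at h1
  simp only [Fin.prod_univ_three] at h1
  rw [St_H8Lc, Agent.S0813.result 3 1 le_rfl (by simp) 3 (by omega) (by omega)]
  norm_num at h1 ⊢
  omega

end Cfsg.Lib.HM
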