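import Cfsg.Agent.HM.St
import Cfsg.Agent.GCT.Small
import Cfsg.Agent.GCT.FourS

/-! The Sylow subgroup of order 32 is the holomorph of the cyclic group of order 8. -/

set_option autoImplicit false

open scoped commutatorElement MatrixGroups

namespace Cfsg.Lib.HM

open Cfsg Subgroup
open Cfsg.Lib.Fus hiding cj IsSylowIn
open Cfsg.Lib.Trans (cj IsSylowIn QDFrame)
open Cfsg.Lib.Gold (Ns Cs C1)
open Cfsg.Lib.Gomi (AB PosC ZZ E2)
open Cfsg.Lib.GCT (RB RQ WW QQ VV DD K0 MC)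
open Cfsg.Lib.GCT.Sm (S8)

universe u

namespace H8aAux

variable {Γ : Type u} [Group Γ] [Finite Γ] {S A A' : Subgroup Γ} {w a d y : Γ}

theorem y_not (j : Js S A A' y) : y ∉ A ⊔ A' := fun h => by
  have := Trans.cj_eq_of_mem_normalizer (j.ab.S_le_Ns h)
  exact j.ab.nle (this.symm.trans j.yA).le

theorem card32 (j : Js S A A' y) (h : Nat.card ↥(A ⊔ A') = 16) : Nat.card S = 32 := by
  have i : ((A ⊔ A').subgroupOf S).index = 2 := by
    rw [index_eq_two_iff_exists_notMem_and']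
    exact ⟨⟨y⁻¹, inv_mem j.yS⟩, fun k => y_not j ((inv_mem_iff (x := y)).1 k),
      fun b => (j.dec b b.2).symm⟩
  have := ((A ⊔ A').subgroupOf S).card_mul_index
  rw [i, Nat.card_congr (subgroupOfEquivOfLe j.le).toEquiv, h] at this
  omega

theorem fixy (j : Js S A A' y) (s : S8 A A' w a) : y * ⁅w, a⁆ * y⁻¹ = ⁅w, a⁆ :=
  s.fix_z (by rw [Trans.cj_sup, j.yA, j.yB, sup_comm])

theorem invol (j : Js S A A' y) (s : S8 A A' w a) (hd : d ∈ A ⊓ A') (d1 : d ≠ 1) (dz : d ≠ ⁅w, a⁆)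
    (e : y * d * y⁻¹ = ⁅w, a⁆ * d) : ∃ b ∈ A, b * y * (b * y) = 1 := by
  have zy := fixy j s
  have z1 := s.z_ne
  have zm := s.z_mem
  set z := ⁅w, a⁆
  have zz : z * z = 1 := j.ab.sqA z zm.1
  obtain ⟨b, hb, h⟩ := GCT.FS.swap_sq j.ab j.yA j.yB ((j.dec _ (mul_mem j.yS j.yS)).resolve_right
    fun k => y_not j (by simpa using k))
  have f1 : b * y * d * (b * y)⁻¹ = z * d := by
    calc b * y * d * (b * y)⁻¹ = b * (y * d * y⁻¹) * b⁻¹ := by group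
      _ = z * d := by rw [e, j.ab.commA hb (mul_mem zm.1 hd.1)]; group
  have f2 : b * y * z * (b * y)⁻¹ = z := by
    calc b * y * z * (b * y)⁻¹ = b * (y * z * y⁻¹) * b⁻¹ := by group
      _ = z := by rw [zy, j.ab.commA hb zm.1]; group
  have f3 : b * y * (b * y * (b * y)) * (b * y)⁻¹ = b * y * (b * y) := by group
  rcases s.decZ hd d1 dz h with k | k | k | k
  · exact ⟨b, hb, k⟩
  · refine ⟨d * b, mul_mem hd.1 hb, ?_⟩
    calc d * b * y * (d * b * y) = d * (b * y * d * (b * y)⁻¹) * (b * y * (b * y)) := by group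
      _ = 1 := by
        rw [f1, k, ← j.ab.commA hd.1 zm.1, ← mul_assoc, j.ab.sqA d hd.1, one_mul, zz]
  · rw [k, f1] at f3
    exact absurd (mul_right_cancel (f3.trans (one_mul d).symm)) z1
  · rw [k] at f3
    have : b * y * (z * d) * (b * y)⁻¹ = b * y * z * (b * y)⁻¹ * (b * y * d * (b * y)⁻¹) := by group
    rw [this, f1, f2] at f3
    exact absurd (mul_right_cancel (f3.trans (one_mul _).symm)) z1

theorem hf (j : Js S A A' y) (s : S8 A A' w a) (h16 : Nat.card ↥(A ⊔ A') = 16) (hd : d ∈ A ⊓ A')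
    (d1 : d ≠ 1) (dz : d ≠ ⁅w, a⁆) (e : y * d * y⁻¹ = ⁅w, a⁆ * d) :
    ∃ r w' d' : S, HF r w' d' ∧ (r : Γ) ^ 4 = ⁅w, a⁆ ∧ (w' : Γ) = w ∧ (d' : Γ) = d := by
  obtain ⟨b, hb, yy⟩ := invol j s hd d1 dz e
  have zm := s.z_mem
  have AS : A ≤ S := le_sup_left.trans j.le
  have cA : cj (b * y) A = A' := by
    rw [Trans.cj_mul, j.yA, Trans.cj_eq_of_mem_normalizer (j.ab.nB hb)]
  have f1 : b * y * d * (b * y)⁻¹ = ⁅w, a⁆ * d := by
    calc b * y * d * (b * y)⁻¹ = b * (y * d * y⁻¹) * b⁻¹ := by group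
      _ = _ := by rw [e, j.ab.commA hb (mul_mem zm.1 hd.1)]; group
  have f2 : b * y * ⁅w, a⁆ * (b * y)⁻¹ = ⁅w, a⁆ := by
    calc b * y * ⁅w, a⁆ * (b * y)⁻¹ = b * (y * ⁅w, a⁆ * y⁻¹) * b⁻¹ := by group
      _ = _ := by rw [fixy j s, j.ab.commA hb zm.1]; group
  have tS : b * y ∈ S := mul_mem (AS hb) j.yS
  have ty : y = b⁻¹ * (b * y) := by group
  generalize b * y = t at yy cA f1 f2 tS ty
  have ti : t⁻¹ = t := inv_eq_of_mul_eq_one_right yy
  have ww : w * w = 1 := j.ab.sqA w s.hw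
  have dd : d * d = 1 := j.ab.sqA d hd.1
  have w1 : t * w * t⁻¹ ∈ A' := cA ▸ Trans.conj_mem_cj.2 s.hw
  have w2 : t * w * t⁻¹ ∉ A := fun k => s.hw' (by
    have : t * (t * w * t⁻¹) * t⁻¹ ∈ A' := cA ▸ Trans.conj_mem_cj.2 k
    rwa [show t * (t * w * t⁻¹) * t⁻¹ = (t * t) * w * (t * t)⁻¹ by group, yy, one_mul, inv_one,
      mul_one] at this)
  have s' : S8 A A' w (t * w * t⁻¹) := ⟨s.ab, s.hA, s.hB, s.hZ, s.hw, s.hw', w1, w2⟩
  have r4 : (w * t) ^ 4 = ⁅w, a⁆ := by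
    have k : (w * t) ^ 4 = w * (t * w * t⁻¹) * (w * (t * w * t⁻¹)) := by
      rw [ti]; simp only [pow_succ, pow_zero, one_mul, mul_assoc]
    rw [k]
    refine (s.sq_cases (mul_mem s.wJ s'.aJ)).resolve_left fun k' => s'.z_ne ?_
    rwa [j.ab.mul_sq s.hw w1] at k'
  have wS : w ∈ S := AS s.hw
  refine ⟨⟨w * t, mul_mem wS tS⟩, ⟨w, wS⟩, ⟨d, AS hd.1⟩, ⟨⟨Subtype.ext ?_, fun k => s.z_ne ?_,
    Subtype.ext ww, Subtype.ext dd, Subtype.ext ?_, Subtype.ext ?_,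
    Subtype.ext (j.ab.commA s.hw hd.1)⟩, ?_, card32 j h16⟩, r4, rfl, rfl⟩
  · show (w * t) ^ (4 * 2) = 1
    rw [pow_mul, r4, sq, j.ab.sqA _ zm.1]
  · rw [← r4]
    exact congrArg Subtype.val k
  · show w * (w * t) * w = (w * t)⁻¹
    rw [← mul_assoc, ww, one_mul, mul_inv_rev, ti, inv_eq_of_mul_eq_one_right ww]
  · show d * (w * t) * d = (w * t) ^ (4 + 1)
    rw [pow_succ', r4]
    calc d * (w * t) * d = d * w * (t * d * t⁻¹) * t := by group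
      _ = w * ((d * d) * ⁅w, a⁆) * t := by
        rw [f1, ← j.ab.commA s.hw hd.1, ← j.ab.commA hd.1 zm.1]; group
      _ = w * t * ⁅w, a⁆ := by
        rw [dd, one_mul]
        conv_lhs => rw [← f2, ti]
        rw [mul_assoc, mul_assoc _ t t, yy, mul_one, mul_assoc]
  · set K : Subgroup S := closure {⟨w * t, mul_mem wS tS⟩, ⟨w, wS⟩, ⟨d, AS hd.1⟩}
    have kr : w * t ∈ K.map S.subtype := ⟨_, subset_closure (Or.inl rfl), rfl⟩
    have kw : w ∈ K.map S.subtype := ⟨_, subset_closure (Or.inr (Or.inl rfl)), rfl⟩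
    have kd : d ∈ K.map S.subtype := ⟨_, subset_closure (Or.inr (Or.inr rfl)), rfl⟩
    have kt : t ∈ K.map S.subtype := (mul_mem_cancel_left kw).1 kr
    have kz : ⁅w, a⁆ ∈ K.map S.subtype := r4 ▸ pow_mem kr 4
    have kZ : A ⊓ A' ≤ K.map S.subtype := fun c hc => by
      rcases s.decZ hd d1 dz hc with rfl | rfl | rfl | rfl
      exacts [one_mem _, kz, kd, mul_mem kz kd]
    have kA : A ≤ K.map S.subtype := fun x hx => by
      obtain ⟨c, hc, rfl | rfl⟩ := s.decA hx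
      exacts [kZ hc, mul_mem kw (kZ hc)]
    have kB : A' ≤ K.map S.subtype := cA ▸ Trans.cj_le_iff.2 fun x hx =>
      mul_mem (mul_mem kt (kA hx)) (inv_mem kt)
    have ky : y ∈ K.map S.subtype := ty ▸ mul_mem (inv_mem (kA hb)) kt
    rw [eq_top_iff]
    intro x _
    have : (x : Γ) ∈ K.map S.subtype := by
      rcases j.dec x x.2 with k | k
      · exact sup_le kA kB k
      · exact (mul_mem_cancel_left (inv_mem ky)).1 (sup_le kA kB k)
    exact (mem_map_iff_mem S.subtype_injective).1 this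

end H8aAux

open H8aAux

theorem st_H8a : St_H8a.{u} := by
  intro Γ _ _ S F q A A' M E y c j hq hD
  obtain ⟨K, _, _, θ, ψ, hK, r⟩ := c.rq
  rw [hq] at hK
  have qA := c.qA
  obtain ⟨i1, -, i2, c1, c2, c3⟩ := r.inf_eq (A' := A') (qA.symm ▸ c.ab) (by rw [qA])
  have cD : Nat.card (DD (A ⊔ A') E) = 2 := by
    have := (one_lt_card_iff_ne_bot _).2 hD
    have := c.dc
    omega
  have iq := r.idxQ
  have WA := r.W_le_Q
  rw [qA] at i1 c2 iq WA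
  rw [cD, hK] at c1
  rw [c1, hK] at c2 c3
  have cZ : Nat.card ↥(A ⊓ A') = 4 := by rw [i1, c1]
  have h16 : Nat.card ↥(A ⊔ A') = 16 := by
    have := (A.subgroupOf (A ⊔ A')).card_mul_index
    rw [show (A.subgroupOf (A ⊔ A')).index = _ from iq, hK,
      Nat.card_congr (subgroupOfEquivOfLe le_sup_left).toEquiv, c2] at this
    omega
  obtain ⟨w, hw, w1⟩ := SetLike.not_le_iff_exists.1 r.not_cent
  have w2 : w ∉ A' := fun k => w1 (Gold.mem_Cs.2 fun u hu => (c.ab.comm_Z hu ⟨WA hw, k⟩).symm)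
  obtain ⟨a, ha, a1⟩ := c.ab.exists_B
  have s : S8 A A' w a := ⟨c.ab, c2, c3, cZ, WA hw, w2, ha, a1⟩
  have zW : ⁅w, a⁆ ∈ WW E := Trans.PU.comm_mem_of_norm' (r.nW (mem_sup_right s.aJ)) hw
  have h0 := r.cen hK
  obtain ⟨⟨d, hd⟩, d1⟩ := (ne_bot_iff_exists_ne_one).1 hD
  replace d1 : d ≠ 1 := fun e => d1 (Subtype.ext e)
  have dZ : d ∈ A ⊓ A' := i1.ge (i2 hd)
  have dz : d ≠ ⁅w, a⁆ := fun e => d1 (mem_bot.1 (h0.le ⟨e ▸ zW, hd.2⟩))
  have e : y * d * y⁻¹ = ⁅w, a⁆ * d := by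
    have m : y * d * y⁻¹ ∈ A ⊓ A' :=
      ⟨c.yB ▸ Trans.conj_mem_cj.2 dZ.2, c.yA ▸ Trans.conj_mem_cj.2 dZ.1⟩
    rcases s.decZ dZ d1 dz m with k | k | k | k
    · exact absurd (by simpa using k) d1
    · exact absurd (by simpa using k.trans (fixy j s).symm) dz
    · exact absurd (mem_bot.1 (c.dd.le ⟨hd, k ▸ Trans.conj_mem_cj.2 hd⟩)) d1
    · exact k
  obtain ⟨ρ, w', d', h, r4, rfl, rfl⟩ := hf j s h16 dZ d1 dz e
  have JT : A ⊔ A' ≤ S ⊓ Ns A := le_inf j.le c.ab.S_le_Ns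
  have JM : A ⊔ A' ≤ M := JT.trans c.mdl.syl.1
  have key : ∀ g ∈ M, R F (A8 (ρ : Γ) w' d') g := fun g hg =>
    (c.mdl.mor g hg A (le_sup_left.trans JT)
      ((Trans.cj_eq_of_mem_normalizer (c.mdl.nU hg)).le.trans c.mdl.le)).mono (by
        rw [A8, closure_le, r4]
        rintro _ (rfl | rfl | rfl)
        exacts [s.hw, s.z_mem.1, dZ.1])
  have wn : (w' : Γ) ≠ 1 := fun k => w2 (k ▸ one_mem _)
  obtain ⟨l, hl, k⟩ := r.isConj h0 zW s.z_ne hw wn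
  have lM : l ∈ M := sup_le c.EM JM hl
  have ld : l * d' * l⁻¹ = d' := by
    have : E ⊔ (A ⊔ A') ≤ C1 (d' : Γ) := sup_le (fun x hx => Gold.mem_C1.2 (Gold.mem_Cs.1 hd.2 x hx))
      fun x hx => Gold.mem_C1.2 (c.ab.comm_Z hx dZ).symm
    rw [Gold.mem_C1.1 (this hl)]; group
  have wz : (w' : Γ) ≠ ⁅(w' : Γ), a⁆ := fun k => w2 (k ▸ s.z_mem.2)
  have cm := c.ab.commA s.hw s.z_mem.1
  refine ⟨ρ, w', d', h, ?_⟩
  rcases Local.mem_four_cases (by rw [r.card_W h0, hK]; rfl) zW hw s.z_ne wn wz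
    (fun k => w2 ((A'.mul_mem_cancel_left s.z_mem.2).1 (k ▸ one_mem _)))
    ((mem_normalizer_iff.1 (r.nW hl) _).1 hw) with k' | k' | k' | k'
  · exact absurd (by simpa using k') wn
  · refine ⟨l * a, key _ (mul_mem lM (JM s.aJ)), ?_, ?_, ?_⟩
    · rw [r4]
      calc l * a * ⁅(w' : Γ), a⁆ * (l * a)⁻¹ = l * (a * ⁅(w' : Γ), a⁆) * a⁻¹ * l⁻¹ := by group
        _ = l * ⁅(w' : Γ), a⁆ * l⁻¹ := by rw [← c.ab.comm_Z s.aJ s.z_mem]; group
        _ = _ := k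
    · have ww : (w' : Γ)⁻¹ = w' := inv_eq_of_mul_eq_one_right (c.ab.sqA _ s.hw)
      have : a * w' * a⁻¹ = w' * ⁅(w' : Γ), a⁆ := by
        rw [commutatorElement_def, ww, ← mul_assoc, ← mul_assoc, ← mul_assoc, c.ab.sqA _ s.hw, one_mul]
      calc l * a * w' * (l * a)⁻¹ = l * (a * w' * a⁻¹) * l⁻¹ := by group
        _ = l * w' * l⁻¹ * (l * ⁅(w' : Γ), a⁆ * l⁻¹) := by rw [this]; group
        _ = _ := by rw [k, k', r4, cm]
    · calc l * a * d' * (l * a)⁻¹ = l * (a * d') * a⁻¹ * l⁻¹ := by group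
        _ = l * d' * l⁻¹ := by rw [← c.ab.comm_Z s.aJ dZ]; group
        _ = _ := ld
  · exact absurd (by simpa using k'.trans k.symm) wz
  · exact ⟨l, key _ lM, by rw [r4, k], by rw [k', r4, cm], ld⟩

end Cfsg.Lib.HM
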