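import Cfsg.Agent.HM.St

/-! The presentation of the holomorph of the cyclic group of order 8. -/

set_option autoImplicit false

open scoped commutatorElement MatrixGroups

namespace Cfsg.Lib.HM

open Cfsg Subgroup
open Cfsg.Lib.Fus hiding cj IsSylowIn
open Cfsg.Lib.Trans (cj IsSylowIn QDFrame)
open Cfsg.Lib.Gold (Ns Cs C1)
open Cfsg.Lib.Gomi (AB PosC ZZ E2)
open Cfsg.Lib.GCT (RB RQ WW QQ VV DD K0 MC)
open Cfsg.Lib.Rank2 (SylEmb DFrame)
open Cfsg.Lib.Fus.Rk2 (FHas TwoCl Rigid autF pullE)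

universe u

namespace H8homAux

variable {G : Type*} [Group G] {r w d : G}

/-- the normal form -/
def nf (r w d : G) (t : Fin 8 × Fin 2 × Fin 2) : G := r ^ t.1.1 * w ^ t.2.1.1 * d ^ t.2.2.1

/-- the multiplier of `w ^ j d ^ k` -/
def mu (j k : Fin 2) : Fin 8 := (if j = 0 then 1 else 7) * (if k = 0 then 1 else 5)

/-- the product of normal forms -/
def op (s t : Fin 8 × Fin 2 × Fin 2) : Fin 8 × Fin 2 × Fin 2 :=
  (s.1 + mu s.2.1 s.2.2 * t.1, s.2.1 + t.2.1, s.2.2 + t.2.2)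

theorem pw {x : G} {n : ℕ} (h : x ^ (n + 1) = 1) (a b : Fin (n + 1)) :
    x ^ (a + b).1 = x ^ a.1 * x ^ b.1 := by
  rw [Fin.val_add, ← pow_eq_pow_mod _ h, pow_add]

theorem act (h : HR r w d) (j k : Fin 2) (i : Fin 8) :
    w ^ j.1 * d ^ k.1 * r ^ i.1 = r ^ (mu j k * i).1 * (w ^ j.1 * d ^ k.1) := by
  have a : ∀ n : ℕ, w * r ^ n = r ^ (7 * n) * w := fun n => by
    have : w * r * w⁻¹ = r ^ 7 := by
      rw [inv_eq_of_mul_eq_one_right h.ww, h.wr]
      exact inv_eq_of_mul_eq_one_right ((pow_succ' r 7).symm.trans h.r8)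
    rw [pow_mul, ← this, conj_pow]; group
  have b : ∀ n : ℕ, d * r ^ n = r ^ (5 * n) * d := fun n => by
    have : d * r * d⁻¹ = r ^ 5 := by rw [inv_eq_of_mul_eq_one_right h.dd, h.dr]
    rw [pow_mul, ← this, conj_pow]; group
  rw [Fin.val_mul, ← pow_eq_pow_mod _ h.r8]
  fin_cases j <;> fin_cases k
  · simp [mu]
  · simpa [mu] using b i
  · simpa [mu] using a i
  · change w ^ 1 * d ^ 1 * r ^ i.1 = r ^ (3 * i.1) * (w ^ 1 * d ^ 1)
    rw [pow_one, pow_one, mul_assoc, b, ← mul_assoc, a, mul_assoc,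
      show 7 * (5 * i.1) = 8 * (4 * i.1) + 3 * i.1 by ring, pow_add, pow_mul, h.r8, one_pow, one_mul]

theorem nf_mul (h : HR r w d) (s t : Fin 8 × Fin 2 × Fin 2) :
    nf r w d s * nf r w d t = nf r w d (op s t) := by
  have c : Commute (d ^ s.2.2.1) (w ^ t.2.1.1) := (Commute.symm h.wd).pow_pow _ _
  simp only [nf, op]
  rw [pw h.r8, pw ((pow_two w).trans h.ww), pw ((pow_two d).trans h.dd)]
  calc _ = r ^ s.1.1 * (w ^ s.2.1.1 * d ^ s.2.2.1 * r ^ t.1.1) * w ^ t.2.1.1 * d ^ t.2.2.1 := by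
        simp only [mul_assoc]
    _ = _ := by
      rw [act h]
      simp only [mul_assoc]
      rw [← mul_assoc (d ^ _) (w ^ _), c.eq, mul_assoc]

theorem nf_zero : nf r w d 0 = 1 := by simp [nf]

theorem ord (h : HR r w d) : orderOf r = 8 := by
  have : Fact (Nat.Prime 2) := ⟨Nat.prime_two⟩
  exact orderOf_eq_prime_pow (p := 2) (n := 2) h.r4 h.r8

theorem nf_eq_one (h : HR r w d) {t : Fin 8 × Fin 2 × Fin 2} (e : nf r w d t = 1) : t = 0 := by
  have inj : ∀ a b : Fin 8, r ^ a.1 = r ^ b.1 → a = b := fun a b k =>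
    Fin.ext (pow_injOn_Iio_orderOf (x := r) (by rw [ord h]; exact a.2) (by rw [ord h]; exact b.2) k)
  obtain ⟨i, j, k⟩ := t
  have e1 : w ^ j.1 * d ^ k.1 = (r ^ i.1)⁻¹ := eq_inv_of_mul_eq_one_right (by
    rw [← mul_assoc]; exact e)
  have e2 := act h j k 1
  rw [e1, ((Commute.refl r).pow_pow _ _).inv_left.eq, mul_left_inj] at e2
  have e3 := inj _ _ e2
  obtain ⟨rfl, rfl⟩ : j = 0 ∧ k = 0 :=
    (by decide : ∀ j k : Fin 2, 1 = mu j k * 1 → j = 0 ∧ k = 0) j k e3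
  rw [inj i 0 (by simpa [nf] using e)]
  rfl

theorem nf_inj (h : HR r w d) : Function.Injective (nf r w d) := fun s t e => by
  obtain ⟨s', k1, k2⟩ :=
    (by decide +kernel : ∀ s, ∃ s', op s' s = 0 ∧ ∀ t, op s' t = 0 → s = t) s
  exact k2 t (nf_eq_one h (by rw [← nf_mul h, ← e, nf_mul h, k1, nf_zero]))

theorem nf_bij (h : HF r w d) : Function.Bijective (nf r w d) := by
  have : Finite G := Nat.finite_of_card_ne_zero (by rw [h.card]; norm_num)
  exact (nf_inj h.toHR).bijective_of_nat_card_le (by rw [h.card]; simp)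

end H8homAux

open H8homAux in
theorem st_H8hom : St_H8hom.{u} := by
  intro X _ G _ r w d r' w' d' h H
  let e := Equiv.ofBijective _ (nf_bij h)
  have k : ∀ t, e.symm (nf r w d t) = t := e.symm_apply_apply
  refine ⟨MonoidHom.mk' (fun x => nf r' w' d' (e.symm x)) fun x y => ?_,
    (nf_inj H).comp e.symm.injective, ?_, ?_, ?_⟩
  · obtain ⟨s, rfl⟩ := (nf_bij h).2 x
    obtain ⟨t, rfl⟩ := (nf_bij h).2 y
    rw [nf_mul h.toHR, k, k, k, nf_mul H]
  · simpa [nf] using congrArg (nf r' w' d') (k (1, 0, 0))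
  · simpa [nf] using congrArg (nf r' w' d') (k (0, 1, 0))
  · simpa [nf] using congrArg (nf r' w' d') (k (0, 0, 1))

end Cfsg.Lib.HM
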