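import Cfsg.Agent.HM.H8two

/-! The odd automorphisms of the elementary abelian subgroup of order 8. -/

set_option autoImplicit false
set_option synthInstance.maxSize 4000

namespace Cfsg.Lib.HM

open Cfsg Subgroup
open Cfsg.Lib.Fus hiding cj IsSylowIn
open Cfsg.Lib.Fus.Rk2

universe u

namespace H8oddAux

theorem exA {Γ : Type*} [Group Γ] [Finite Γ] {S : Subgroup Γ} {U : Subgroup S} {g : Γ}
    (h : ∀ x ∈ up U, g * x * g⁻¹ ∈ up U) :
    ∃ α : MulAut U, ∀ x : U, ((α x : S) : Γ) = g * (x : S) * g⁻¹ := by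
  have hg : g ∈ normalizer (up U : Set Γ) := mem_normalizer_fintype h
  refine ⟨(MulAut.congr (upEquiv U)).symm (conjAut _ g hg), fun x => ?_⟩
  have hx : ((x : S) : Γ) ∈ up U := coe_mem_up.2 x.2
  rw [← autFun_congr, MulEquiv.apply_symm_apply, ← pext_eq_autFun _ hx, pext_conjAut hg hx]

theorem cm {V : Type*} [Group V] (h : ∀ v : V, v * v = 1) (a b : V) : a * b = b * a :=
  Commute.of_orderOf_dvd_two (fun g => orderOf_dvd_of_pow_eq_one ((pow_two g).trans (h g))) a b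

end H8oddAux

open H8homAux H8twoAux H8oddAux in
theorem st_H8odd (hGL32 : St_GL32.{u}) : St_H8odd.{u} := by
  intro Γ _ _ S F N r w d g hS hF h ⟨a1, a2, a3⟩ rF rN
  have hr := h.toHR
  have up8 : up (A8 r w d) = A8 (r : Γ) w d := by
    simp [up, A8, MonoidHom.map_closure, Set.image_insert_eq]
  have co : ∀ v : A8 r w d, ∃ t, QA t ∧ nf r w d t = v := fun v => by
    obtain ⟨t, e⟩ := (nf_bij h).2 v
    exact ⟨t, (memA hr t).1 (e ▸ v.2), e⟩
  have sq : ∀ v : A8 r w d, v * v = 1 := fun v => by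
    obtain ⟨t, q, e⟩ := co v
    ext1
    rw [coe_mul, ← e, nf_mul hr, (by decide : ∀ t, QA t → op t t = 0) t q, nf_zero, coe_one]
  have c8 : Nat.card (A8 r w d) = 8 := by
    rw [← Nat.card_congr ((Equiv.ofBijective _ (nf_bij h)).subtypeEquiv
      fun t => (memA hr t).symm), Nat.card_eq_fintype_card]
    decide
  have cu : Nat.card (up (A8 r w d)) = 8 := (card_map_of_injective S.subtype_injective).trans c8
  have wA : w ∈ A8 r w d := subset_closure (.inl rfl)
  have zA : r ^ 4 ∈ A8 r w d := subset_closure (.inr (.inl rfl))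
  have dA : d ∈ A8 r w d := subset_closure (.inr (.inr rfl))
  have nw : nf r w d (0, 1, 0) = w := by simp [nf]
  have cr : ∀ (i j : Fin 8) t, i + j = 0 → r ^ i.1 * nf r w d t * (r ^ i.1)⁻¹ =
      nf r w d (op (op (i, 0, 0) t) (j, 0, 0)) := fun i j t e => by
    rw [← nf_mul hr, ← nf_mul hr, inv_eq_of_mul_eq_one_right
      ((pw hr.r8 i j).symm.trans (by rw [e]; exact pow_zero r))]
    simp [nf]
  obtain ⟨α, hα⟩ := exA (U := A8 r w d) (g := g) (by
    refine Trans.cj_le_iff.1 ?_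
    conv_lhs => rw [up8, Trans.cj, A8, MonoidHom.map_closure]
    rw [closure_le]
    rintro - ⟨x, rfl | rfl | rfl, rfl⟩ <;> change g * _ * g⁻¹ ∈ _
    · rw [a2]; exact coe_mem_up.2 (mul_mem wA zA)
    · rw [a1]; exact coe_mem_up.2 wA
    · rw [a3]; exact coe_mem_up.2 dA)
  have mem : ∀ {E : FusionSystem S}, R E (A8 (r : Γ) w d) g → α ∈ autF E (A8 r w d) := fun e =>
    mem_autF.2 ⟨_, up8 ▸ e, fun x => (hα x).symm⟩
  have wz : (w : Γ) * (w * r ^ 4) = r ^ 4 := by
    rw [← mul_assoc, ← coe_mul, hr.ww, coe_one, one_mul]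
  have a4 : g * (w * r ^ 4) * g⁻¹ = r ^ 4 := by
    rw [← conj_mul, a1, a2, mul_assoc, show (r : Γ) ^ 4 * w = w * r ^ 4 from
      congrArg (fun x : A8 r w d => ((x : S) : Γ))
        (cm sq ⟨_, zA⟩ ⟨_, wA⟩), wz]
  have o3 : orderOf α = 3 := by
    have := Fact.mk Nat.prime_three
    refine orderOf_eq_prime ?_ fun e => hr.r4 ?_
    · ext x
      have : A8 (r : Γ) w d ≤ (MulAut.conj g ^ 3).toMonoidHom.eqLocus (MonoidHom.id Γ) := by
        rw [A8, closure_le]
        rintro - (rfl | rfl | rfl) <;> change g * (g * (g * _ * g⁻¹) * g⁻¹) * g⁻¹ = _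
        · rw [a2, a4, a1]; rfl
        · rw [a1, a2, a4]; rfl
        · rw [a3, a3, a3]; rfl
      rw [pow_three', MulAut.mul_apply, MulAut.mul_apply, hα, hα, hα]
      exact this (up8 ▸ coe_mem_up.2 x.2)
    · have := hα ⟨w, wA⟩
      rw [e] at this
      exact Subtype.ext (left_eq_mul.1 (this.trans a2))
  have h2 : 2 ∣ Nat.card (autF F (A8 r w d)) := by
    have k : ∀ x : A8 r w d, r ^ 2 * x * (r ^ 2)⁻¹ ∈ A8 r w d := fun x => by
      obtain ⟨t, q, e⟩ := co x
      rw [← e]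
      exact (cr 2 6 t rfl).symm ▸ (memA hr _).2
        ((by decide : ∀ t, QA t → QA (op (op (2, 0, 0) t) (6, 0, 0))) t q)
    obtain ⟨β, hβ⟩ := exA (U := A8 r w d) (g := (r ^ 2 : S)) (by
      rintro - ⟨x, hx, rfl⟩
      exact ⟨_, k ⟨x, hx⟩, rfl⟩)
    have hβ' : ∀ x : A8 r w d, (β x : S) = r ^ 2 * x * (r ^ 2)⁻¹ := fun x => Subtype.ext (hβ x)
    have : orderOf β = 2 := by
      refine orderOf_eq_prime ?_ fun e => ?_
      · ext1 x
        obtain ⟨t, q, e⟩ := co x
        ext1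
        rw [pow_two, MulAut.mul_apply, hβ', hβ', MulAut.one_apply, ← e]
        exact ((congrArg (r ^ 2 * · * (r ^ 2)⁻¹) (cr 2 6 t rfl)).trans (cr 2 6 _ rfl)).trans
          (congrArg _ ((by decide : ∀ t, QA t →
            op (op (2, 0, 0) (op (op (2, 0, 0) t) (6, 0, 0))) (6, 0, 0) = t) t q))
      · have := hβ' ⟨w, wA⟩
        rw [e] at this
        exact absurd (nf_inj hr ((nw.trans this).trans (nw ▸ cr 2 6 (0, 1, 0) rfl))) (by decide)
    exact this ▸ Subgroup.orderOf_dvd_natCard _ (mem_autF_of_conj F hβ')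
  have h4 : ¬ 4 ∣ Nat.card (autF F (A8 r w d)) := fun h4 => by
    obtain ⟨Q, f, hf, hQ⟩ := exists_piso_fullyNormalized F (up_le (A8 r w d))
    have := finite_autGroup F hf.le_right
    rw [card_autF, ← hf.card_autGroup] at h4
    have h1 := (sat_sylIn hS hF hQ).card_eq
    have sQ : ∀ x : Q, x * x = 1 := fun x => by
      obtain ⟨x, rfl⟩ := ((upEquiv _).trans hf.equiv).surjective x
      rw [← map_mul, sq, map_one]
    have cQ := hf.card_eq.trans cu
    have h3 : 8 ∣ Nat.card (FusionSystem.centralizerIn S Q) :=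
      cQ ▸ card_dvd_of_le fun x hx => mem_centralizerIn.2 ⟨hf.le_right hx, fun y hy =>
        congrArg Subtype.val (cm sQ ⟨y, hy⟩ ⟨x, hx⟩)⟩
    have h5 : FusionSystem.normalizerIn S Q = S := eq_of_le_of_card_ge normalizerIn_le (by
      rw [h.card]
      refine Nat.le_of_dvd Nat.card_pos ?_
      rw [card_normalizerIn_eq, h1]
      exact Nat.mul_dvd_mul (a := 2 ^ 2) (pow_dvd_pow 2
        ((Nat.prime_two.pow_dvd_iff_le_factorization Nat.card_pos.ne').1 h4)) h3)
    have k : ∀ t, ((nf r w d t : S) : Γ) ∈ Q → QA t ∧ t ≠ (0, 1, 0) := fun t ht => by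
      have s : ∀ t, ((nf r w d t : S) : Γ) ∈ Q → op t t = 0 := fun t ht => nf_eq_one hr (by
        rw [← nf_mul hr]
        exact Subtype.ext (congrArg Subtype.val (sQ ⟨_, ht⟩) :))
      refine (by decide : ∀ t u, u = op (op (op (1, 0, 0) t) (7, 0, 0)) t → op t t = 0 →
        op u u = 0 → QA t ∧ t ≠ (0, 1, 0)) t _ rfl (s t ht) (s _ ?_)
      rw [← nf_mul hr, ← cr 1 7 t rfl]
      exact mul_mem (conj_mem_of_mem_normalizerIn (h5.ge (r ^ 1).2) ht) ht
    have : Q = up (A8 r w d) := eq_of_le_of_card_ge (fun x hx => by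
      obtain ⟨t, e⟩ := (nf_bij h).2 ⟨x, hf.le_right hx⟩
      exact ⟨_, (memA hr t).2 (k t (by rw [e]; exact hx)).1, congrArg Subtype.val e⟩) (cu.trans cQ.symm).le
    exact (k _ (by rw [nw, this]; exact coe_mem_up.2 wA)).2 rfl
  exact fun β hβ ho => zpowers_le.2 (mem rN) (hGL32 c8 sq _ h4 h2 α (mem rF) o3 β hβ ho)

end Cfsg.Lib.HM
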