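import Cfsg.Agent.HM.H8two

/-! An odd automorphism of the central product of `Q₈` and `Z₄` puts `Q₈` into `O²(G)`. -/

set_option autoImplicit false
set_option synthInstance.maxSize 4000

namespace Cfsg.Lib.HM

open Cfsg Subgroup
open Cfsg.Lib.Fus hiding cj IsSylowIn
open Cfsg.Lib.Rank2 (SylEmb)

universe u

namespace H8resAux

theorem rl {G : Type*} [Group G] {g y f : G} (ho : (orderOf g).Coprime 2) (f4 : f ^ 4 = 1)
    (hf : g * f * g⁻¹ = f) (e : g * (g * y * g⁻¹) * g⁻¹ = y * f) : g * y * g⁻¹ = y := by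
  have it : ∀ n : ℕ, g ^ (2 * n) * y * (g ^ (2 * n))⁻¹ = y * f ^ n := fun n => by
    induction n with
    | zero => simp
    | succ n ih =>
      rw [show g ^ (2 * (n + 1)) * y * (g ^ (2 * (n + 1)))⁻¹ =
        g * (g * (g ^ (2 * n) * y * (g ^ (2 * n))⁻¹) * g⁻¹) * g⁻¹ by group, ih,
        show g * (g * (y * f ^ n) * g⁻¹) * g⁻¹ =
          g * (g * y * g⁻¹) * g⁻¹ * (g * (g * f ^ n * g⁻¹) * g⁻¹) by group,
        e, ← conj_pow, hf, ← conj_pow, hf, pow_succ', mul_assoc]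
  have : g ^ (2 * 4) ∈ centralizer {y} := mem_centralizer_singleton_iff.2
    (mul_inv_eq_iff_eq_mul.1 ((it 4).trans (by rw [f4, mul_one])))
  exact mul_inv_eq_iff_eq_mul.2 (mem_centralizer_singleton_iff.1
    (zpowers_le.2 this (mem_zpowers_pow_iff.2 (ho.symm.pow_left 3))))

open H8homAux H8twoAux

/-- even powers of the rotation -/
def ev (i : Fin 4) : T := (⟨2 * i, by omega⟩, 0, 0)

theorem key : ∀ e : T, QR e → op e e ≠ op 0 0 → ∀ c : T, QR c →
    op c c = op e e → op e c = op c e → ∀ k : T, QR k → op k k = op e e → op e k = op k e →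
    op c k ≠ op k c → (e = (2, 0, 1) ∨ op e (2, 0, 1) = 0) ∧
      ((c = (2, 0, 0) ∨ op c (2, 0, 0) = 0) ∨ ∃ i : Fin 4, c = op (1, 1, 1) (ev i)) ∧
      (c = (2, 0, 0) → ∃ i : Fin 4, k = op (1, 1, 1) (ev i)) := by
  decide +kernel

end H8resAux

open H8homAux H8twoAux H8resAux in
theorem st_H8res : St_H8res.{u} := by
  rintro X _ r w d h G _ _ E ⟨g, hg, ho, hc⟩ H h2
  by_contra n
  have := normal_of_index_eq_two h2
  have hr := h.toHR
  let N : T → G := fun t => E.j (nf r w d t)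
  have mul : ∀ s t, N s * N t = N (op s t) := fun s t => by rw [← map_mul, nf_mul hr]
  have inj : ∀ {s t}, N s = N t → s = t := fun e => nf_inj hr (E.inj e)
  have N0 : N 0 = 1 := by simp only [N, nf_zero, map_one]
  have ex : ∀ t, QR t → ∃ t', QR t' ∧ N t' = g * N t * g⁻¹ := fun t q => by
    obtain ⟨y, hy, e⟩ := SylEmb.exists_conj_eq hg ((memR hr t).2 q)
    obtain ⟨t', rfl⟩ := (nf_bij h).2 y
    exact ⟨t', (memR hr t').1 hy, e⟩
  obtain ⟨e, qe, he⟩ := ex (2, 0, 1) (by decide)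
  obtain ⟨c, qc, hc'⟩ := ex (2, 0, 0) (by decide)
  obtain ⟨k, qk, hk⟩ := ex (1, 1, 1) (by decide)
  have tr : ∀ {s t s' t' a b a' b'}, N s' = g * N s * g⁻¹ → N t' = g * N t * g⁻¹ →
      N a' = g * N a * g⁻¹ → N b' = g * N b * g⁻¹ → (op s' t' = op a' b' ↔ op s t = op a b) :=
    fun h1 h2 h3 h4 => by
      rw [← (nf_inj hr).eq_iff, ← E.inj.eq_iff, ← (nf_inj hr).eq_iff, ← E.inj.eq_iff]
      change N _ = N _ ↔ N _ = N _
      rw [← mul, ← mul, ← mul, ← mul, h1, h2, h3, h4, conj_mul, conj_mul, mul_left_inj, mul_right_inj]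
  have z0 : N 0 = g * N 0 * g⁻¹ := by rw [N0]; group
  have pc : ∀ i : Fin 4, N (ev i) = N (2, 0, 0) ^ i.1 := fun i => by
    simp [N, nf, ev, pow_mul]
  have cH : N (2, 0, 0) ∈ H := by
    simpa [N, nf, sq] using mul_self_mem_of_index_two h2 (E.j r)
  have c4 : N (2, 0, 0) ^ 4 = 1 := by
    simpa [N, nf, ← map_pow, ← pow_mul] using congrArg E.j hr.r8
  obtain ⟨k1, k2, k3⟩ := key
    e qe (mt (tr he he z0 z0).1 (by decide)) c qc ((tr hc' hc' he he).2 (by decide))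
    ((tr he hc' hc' he).2 (by decide)) k qk ((tr hk hk he he).2 (by decide))
    ((tr he hk hk he).2 (by decide)) (mt (tr hc' hk hk hc').1 (by decide))
  have fx : ∀ {s t}, N s = g * N t * g⁻¹ → (s = t ∨ op s t = 0) → g * N t * g⁻¹ = N t :=
    fun {s t} a b => b.elim (fun b => by rw [← a, b]) fun b => rl ho (one_pow 4) (by group) (by
      rw [← a, eq_inv_of_mul_eq_one_left ((mul s t).trans (b ▸ N0)), ← conj_inv, ← a,
        eq_inv_of_mul_eq_one_left ((mul s t).trans (b ▸ N0)), inv_inv, mul_one])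
  have fe := fx he k1
  have fc := fx hc' (k2.resolve_right fun ⟨i, a⟩ => n (by
    have := this.conj_mem _ cH g
    rwa [← hc', a, ← mul, pc, mul_mem_cancel_right (pow_mem cH _), show N _ = _ from
      congrArg E.j (nf_k hr)] at this))
  obtain ⟨i, a⟩ := k3 (inj (hc'.trans fc))
  rw [a, ← mul, pc] at hk
  have fk : g * N (1, 1, 1) * g⁻¹ = N (1, 1, 1) := rl ho (f := N (2, 0, 0) ^ (i.1 + i.1))
    (by rw [← pow_mul, mul_comm, pow_mul, c4, one_pow]) (by rw [← conj_pow, fc])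
    (by rw [← hk, ← conj_mul, ← hk, ← conj_pow, fc, pow_add, mul_assoc])
  refine hc ?_
  rintro - ⟨x, hx, rfl⟩
  obtain ⟨t, rfl⟩ := (nf_bij h).2 x
  exact (mul_inv_eq_iff_eq_mul.1 (genR (P := fun t => g * N t * g⁻¹ = N t)
    (fun s t a b => by rw [← mul, ← conj_mul, a, b]) fc fe fk (by decide) (by decide) t
      ((memR hr t).1 hx))).symm

end Cfsg.Lib.HM
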