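import Cfsg.Agent.HM.H8two

/-! Automorphisms of the central product of `Q₈` and `Z₄`. -/

set_option autoImplicit false

open scoped commutatorElement MatrixGroups

namespace Cfsg.Lib.HM

open Cfsg Subgroup
open Cfsg.Lib.Fus hiding cj IsSylowIn
open Cfsg.Lib.Trans (cj IsSylowIn QDFrame)
open Cfsg.Lib.Gold (Ns Cs C1)
open Cfsg.Lib.Gomi (AB PosC ZZ E2)
open Cfsg.Lib.GCT (RB RQ WW QQ VV DD K0 MC)
open Cfsg.Lib.Rank2 (SylEmb DFrame)
open Cfsg.Lib.Fus.Rk2 (FHas TwoCl Rigid autF pullE)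

universe u

open H8homAux H8twoAux in
theorem st_H8rig : St_H8rig.{u} := by
  classical
  intro X _ r w d h A hI hA β _ ho
  have : Finite X := Nat.finite_of_card_ne_zero (by rw [h.card]; norm_num)
  have : Fact (Nat.Prime 2) := ⟨Nat.prime_two⟩
  have := Ess.finite_mulAut' (E := R8 r w d)
  have H := h.toHR
  obtain ⟨co, hco⟩ : ∃ co : R8 r w d → T, ∀ x, nf r w d (co x) = x :=
    ⟨fun x => ((nf_bij h).2 x).choose, fun x => ((nf_bij h).2 x).choose_spec⟩
  have qco : ∀ x, QR (co x) := fun x => (memR H _).1 (hco x ▸ x.2)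
  have com : ∀ x y, co (x * y) = op (co x) (co y) := fun x y =>
    nf_inj H (by rw [← nf_mul H, hco, hco, hco, coe_mul])
  have coi : ∀ x y, co x = co y → x = y := fun x y k => Subtype.ext (by rw [← hco, ← hco, k])
  have co1 : co 1 = 0 := nf_inj H (by rw [hco, nf_zero, coe_one])
  have el : ∀ t, QR t → ∃ x, co x = t := fun t q =>
    ⟨⟨_, (memR H t).2 q⟩, nf_inj H (hco _)⟩
  obtain ⟨e, he⟩ := el (2, 0, 1) (by decide)
  obtain ⟨c, hc⟩ := el (2, 0, 0) (by decide)
  obtain ⟨k, hk⟩ := el (1, 1, 1) (by decide)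
  have ce : ∀ x, x * e = e * x := fun x => coi _ _ (by
    rw [com, com, he]
    exact (by decide : ∀ s : T, QR s → op s (2, 0, 1) = op (2, 0, 1) s) _ (qco x))
  have nc : c * k ≠ k * c := fun l => by
    have := congrArg co l
    rw [com, com, hc, hk] at this
    exact absurd this (by decide)
  have fix : ∀ γ : MulAut (R8 r w d), (orderOf γ).Coprime 2 →
      γ ∈ MulAction.stabilizer (MulAut (R8 r w d)) e := fun γ o => by
    have c1 : ∀ x, γ e * x = x * γ e := fun x => by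
      obtain ⟨x, rfl⟩ := γ.surjective x
      rw [← map_mul, ← map_mul, ce]
    rcases (by decide : ∀ t : T, QR t → op t (2, 0, 0) = op (2, 0, 0) t →
      op t (1, 1, 1) = op (1, 1, 1) t → op t t ≠ 0 → t = (2, 0, 1) ∨ op t (2, 0, 1) = 0) _ (qco (γ e))
        (by rw [← hc, ← com, ← com, c1]) (by rw [← hk, ← com, ← com, c1]) (fun l => by
          rw [← com, ← co1, ← map_mul] at l
          have := congrArg co ((MulEquiv.map_eq_one_iff γ).1 (coi _ _ l))
          rw [com, he, co1] at this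
          exact absurd this (by decide)) with l | l
    · exact coi _ _ (l.trans he.symm)
    · have l' : γ e = e⁻¹ := eq_inv_of_mul_eq_one_left (coi _ _ (by rw [com, he, l, co1]))
      exact rule (fun x => Subtype.ext (by rw [coe_pow, ← h.card, pow_card_eq_one', coe_one])) o
        (map_one γ) (by rw [l', map_inv, l', inv_inv, mul_one])
  have sq : ∀ φ ∈ MulAction.stabilizer (MulAut (R8 r w d)) e, ∀ x, op (co x) (co x) = (4, 0, 0) →
      op (co (φ x)) (co (φ x)) = (4, 0, 0) := fun φ hφ x l => by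
    have : x * x = e * e := coi _ _ (by rw [com, com, l, he]; rfl)
    rw [← com, ← map_mul, this, map_mul, show φ e = e from hφ, com, he]
    rfl
  have c24 := Nat.card_le_card_of_injective
    (fun φ : MulAction.stabilizer (MulAut (R8 r w d)) e => (⟨(co (φ.1 c), co (φ.1 k)), qco _, qco _,
      sq _ φ.2 c (by rw [hc]; rfl), sq _ φ.2 k (by rw [hk]; rfl), fun l => nc (φ.1.injective (by
        rw [map_mul, map_mul]; exact coi _ _ (by rw [com, com]; exact l)))⟩ :
      {p : T × T // QR p.1 ∧ QR p.2 ∧ op p.1 p.1 = (4, 0, 0) ∧ op p.2 p.2 = (4, 0, 0) ∧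
        op p.1 p.2 ≠ op p.2 p.1})) fun φ ψ l => by
      have l1 := coi _ _ (congrArg (fun p => p.1.1) l)
      have l2 := coi _ _ (congrArg (fun p => p.1.2) l)
      refine Subtype.ext (MulEquiv.ext fun x => ?_)
      obtain ⟨y, l3, l4⟩ := genR (P := fun t => ∃ x, co x = t ∧ φ.1 x = ψ.1 x)
        (by
          rintro _ _ ⟨x, rfl, a⟩ ⟨y, rfl, b⟩
          exact ⟨x * y, com x y, by rw [map_mul, map_mul, a, b]⟩)
        ⟨c, hc, l1⟩ ⟨e, he, φ.2.trans ψ.2.symm⟩ ⟨k, hk, l2⟩ (by decide) (by decide) _ (qco x)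
      exact coi _ _ l3 ▸ l4
  rw [Nat.card_eq_fintype_card (α := {p : T × T // _}),
    show Fintype.card {p : T × T // QR p.1 ∧ QR p.2 ∧ op p.1 p.1 = (4, 0, 0) ∧
      op p.2 p.2 = (4, 0, 0) ∧ op p.1 p.2 ≠ op p.2 p.1} = 24 by decide +kernel] at c24
  refine Rk2.mem_of_relIndex_dvd_two ?_ (fix β ho) ho
  obtain ⟨a, ha, o, a1⟩ := hA
  have d1 := orderOf_dvd_natCard _ (mem_inf.2 ⟨ha, fix a o⟩)
  have d2 := card_dvd_of_le (le_inf hI (by
    rintro _ ⟨x, rfl⟩
    exact mul_inv_eq_iff_eq_mul.2 (ce x) : _ ≤ MulAction.stabilizer (MulAut (R8 r w d)) e))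
  obtain ⟨n, hn⟩ := IsPGroup.iff_card.1 (((IsPGroup.of_card (p := 2) (n := 5) h.card).to_subgroup
    (R8 r w d)).of_surjective _ (MulAut.conj (G := R8 r w d)).rangeRestrict_surjective)
  have n2 : 2 < Nat.card (MulAut.conj (G := R8 r w d)).range := by
    have := Fintype.ofFinite (MulAut.conj (G := R8 r w d)).range
    rw [Nat.card_eq_fintype_card, Fintype.two_lt_card_iff]
    have ap : ∀ x y z : R8 r w d, (⟨_, x, rfl⟩ : (MulAut.conj (G := R8 r w d)).range) = ⟨_, y, rfl⟩ →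
        x * z * x⁻¹ = y * z * y⁻¹ := fun x y z l => congrArg (fun φ => φ.1 z) l
    refine ⟨⟨_, 1, rfl⟩, ⟨_, c, rfl⟩, ⟨_, k, rfl⟩, fun l => nc ?_, fun l => nc ?_, fun l => nc ?_⟩
    · exact mul_inv_eq_iff_eq_mul.1 ((ap _ _ k l).symm.trans (by group))
    · exact (mul_inv_eq_iff_eq_mul.1 ((ap _ _ c l).symm.trans (by group))).symm
    · exact (mul_inv_eq_iff_eq_mul.1 ((ap _ _ c l).symm.trans (by group))).symm
  have d4 : 2 ^ 2 ∣ Nat.card (MulAut.conj (G := R8 r w d)).range := by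
    rw [hn] at n2 ⊢
    refine pow_dvd_pow 2 ?_
    by_contra l
    interval_cases n <;> omega
  have d5 := Nat.le_of_dvd Nat.card_pos
    ((o.pow_right 2).mul_dvd_of_dvd_of_dvd d1 (d4.trans d2))
  have o3 : 3 ≤ orderOf a := by
    have := orderOf_pos a
    have := mt orderOf_eq_one_iff.1 a1
    have : orderOf a ≠ 2 := fun l => by rw [l] at o; exact absurd o (by decide)
    omega
  have i1 := Trans.card_mul_relIndex
    (inf_le_right : A ⊓ MulAction.stabilizer (MulAut (R8 r w d)) e ≤ _)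
  rw [inf_relIndex_right] at i1
  have i0 : A.relIndex (MulAction.stabilizer (MulAut (R8 r w d)) e) ≠ 0 := index_ne_zero_of_finite
  have : A.relIndex (MulAction.stabilizer (MulAut (R8 r w d)) e) ≤ 2 := by nlinarith
  interval_cases A.relIndex (MulAction.stabilizer (MulAut (R8 r w d)) e) <;> simp_all

end Cfsg.Lib.HM
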