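import Cfsg.Agent.HM.H8hom

/-! Self-centralising subgroups of the holomorph of the cyclic group of order 8. -/

set_option autoImplicit false
set_option synthInstance.maxSize 4000
set_option synthInstance.maxHeartbeats 200000

open scoped commutatorElement MatrixGroups

namespace Cfsg.Lib.HM

open Cfsg Subgroup
open Cfsg.Lib.Fus hiding cj IsSylowIn
open Cfsg.Lib.Trans (cj IsSylowIn QDFrame)
open Cfsg.Lib.Gold (Ns Cs C1)
open Cfsg.Lib.Gomi (AB PosC ZZ E2)
open Cfsg.Lib.GCT (RB RQ WW QQ VV DD K0 MC)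
open Cfsg.Lib.Rank2 (SylEmb DFrame)
open Cfsg.Lib.Fus.Rk2 (FHas TwoCl Rigid autF pullE)

universe u

namespace H8twoAux

open H8homAux

theorem rule {U : Type*} [Group U] (h32 : ∀ x : U, x ^ 32 = 1) {α : MulAut U}
    (ho : (orderOf α).Coprime 2) {y f : U} (hf : α f = f) (e : α (α y) = y * f) : α y = y := by
  have it : ∀ n : ℕ, (α ^ (2 * n)) y = y * f ^ n := fun n => by
    induction n with
    | zero => simp
    | succ n ih =>
      rw [show 2 * (n + 1) = 2 * n + 1 + 1 by ring, pow_succ', pow_succ', MulAut.mul_apply,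
        MulAut.mul_apply, ih, map_mul, map_mul, e, map_pow, hf, map_pow, hf, pow_succ', mul_assoc]
  have : α ^ (2 * 32) ∈ MulAction.stabilizer (MulAut U) y := (it 32).trans (by rw [h32, mul_one])
  exact zpowers_le.2 this (mem_zpowers_pow_iff.2 (ho.symm.pow_left 6))

/-- coordinates -/
abbrev T := Fin 8 × Fin 2 × Fin 2

/-- the inverse -/
def iv (y : T) : T := op y (op (op y y) (op (op y y) (op y y)))

/-- the coordinates of `A8` -/
abbrev QA (t : T) : Prop := t.1 = 0 ∨ t.1 = 4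

/-- the coordinates of a conjugate of `A8` -/
abbrev QB (t : T) : Prop := QA (op (op (7, 0, 0) t) (1, 0, 0))

/-- the coordinates of `R8` -/
abbrev QR (t : T) : Prop := t.1.1 % 2 = t.2.1.1

/-- even exponent -/
abbrev Ev (t : T) : Prop := t.1.1 % 2 = 0

/-- different cosets of the centre -/
abbrev D (s t : T) : Prop := t ≠ s ∧ t ≠ op s (4, 0, 0)

/-- elements that produce `r²` -/
abbrev Bd (s : T) : Prop :=
  s = (2, 0, 0) ∨ op s (4, 0, 0) = (2, 0, 0) ∨ op s (2, 0, 1) = (2, 0, 0) ∨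
    op (op s (2, 0, 1)) (4, 0, 0) = (2, 0, 0)

theorem genR {P : T → Prop} (mul : ∀ s t, P s → P t → P (op s t)) (Pc : P (2, 0, 0))
    (Pe : P (2, 0, 1)) {t : T} (Pt : P t) (q : QR t) (o : ¬ Ev t) (s : T) (qs : QR s) : P s := by
  have Pz : P (4, 0, 0) := mul _ _ Pc Pc
  have P6 : P (6, 0, 0) := mul _ _ Pc Pz
  have P0 : P (0, 0, 0) := mul _ _ Pz Pz
  have g : ∀ u : T, Ev u → QR u → P u := fun u h1 h2 => by
    rcases (by decide : ∀ u : T, Ev u → QR u → ∃ x ∈ [((0, 0, 0) : T), (2, 0, 0), (4, 0, 0),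
      (6, 0, 0)], u = x ∨ u = op x (2, 0, 1)) u h1 h2 with ⟨x, hx, e⟩
    have : P x := by
      simp only [List.mem_cons, List.not_mem_nil, or_false] at hx
      rcases hx with rfl | rfl | rfl | rfl <;> assumption
    rcases e with rfl | rfl
    exacts [this, mul _ _ this Pe]
  by_cases e : Ev s
  · exact g s e qs
  · obtain ⟨h1, h2, h3⟩ := (by decide +kernel : ∀ s t : T, QR t → ¬ Ev t → QR s → ¬ Ev s →
      Ev (op (iv t) s) ∧ QR (op (iv t) s) ∧ s = op t (op (iv t) s)) s t q o qs e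
    exact h3 ▸ mul _ _ Pt (g _ h1 h2)

theorem core (P : T → Prop) (a : T → T) (mul : ∀ s t, P s → P t → P (op s t))
    (hc : ∀ t, (∀ s, P s → op s t = op t s) → P t) (Pa : ∀ t, P t → P (a t))
    (am : ∀ s t, P s → P t → a (op s t) = op (a s) (a t))
    (inj : ∀ s t, P s → P t → a s = a t → s = t)
    (R : ∀ y f, P y → P f → a f = f → a (a y) = op y f → a y = y) (ne : ∃ y, P y ∧ a y ≠ y) :
    (∀ t, P t ↔ QA t) ∨ (∀ t, P t ↔ QB t) ∨ (∀ t, P t ↔ QR t) := by
  have P0 : P 0 := hc _ fun s _ => (by decide : ∀ s : T, op s 0 = op 0 s) s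
  have Pz : P (4, 0, 0) := hc _ fun s _ => (by decide : ∀ s : T, op s (4, 0, 0) = op (4, 0, 0) s) s
  have a0 : a 0 = 0 := (by decide : ∀ x : T, x = op x x → x = 0) _ (am 0 0 P0 P0)
  have R1 : ∀ y f, P y → P f → a f = f → a y = op y f → a y = y := fun y f py pf hf e =>
    R y (op f f) py (mul _ _ pf pf) (by rw [am _ _ pf pf, hf]) (by
      rw [e, am _ _ py pf, e, hf]
      exact (by decide +kernel : ∀ y f : T, op (op y f) f = op y (op f f)) y f)
  have cancel : ∀ y x, P y → P x → a x = x → a (op y x) = op y x → a y = y :=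
    fun y x py px hx e => (by decide +kernel : ∀ x a b : T, op a x = op b x → a = b) x _ _
      (by rw [← e, am _ _ py px, hx])
  by_cases hs : ∀ y, P y → op y y = 0
  · have comm : ∀ s t, P s → P t → op s t = op t s := fun s t ps pt =>
      (by decide +kernel : ∀ s t : T, op s s = 0 → op t t = 0 → op (op s t) (op s t) = 0 →
        op s t = op t s) s t (hs s ps) (hs t pt) (hs _ (mul _ _ ps pt))
    have ev : ∀ t, P t → Ev t := fun t pt => by
      by_contra o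
      exact absurd (hs _ (hc (2, 0, 1) fun s ps => (by decide +kernel : ∀ s t : T, ¬ Ev t →
        op t t = 0 → op s s = 0 → op s t = op t s → op s (2, 0, 1) = op (2, 0, 1) s) s t o
          (hs t pt) (hs s ps) (comm s t ps pt))) (by decide)
    by_cases Pw : P (0, 1, 0)
    · have k : ∀ t, P t → QA t := fun t pt => (by decide : ∀ t : T, Ev t → op t t = 0 →
        op t (0, 1, 0) = op (0, 1, 0) t → QA t) t (ev t pt) (hs t pt) (comm _ _ pt Pw)
      exact .inl fun t => ⟨k t, fun q => hc t fun s ps =>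
        (by decide +kernel : ∀ s t : T, QA s → QA t → op s t = op t s) s t (k s ps) q⟩
    · obtain ⟨s, ps, ns⟩ : ∃ s, P s ∧ op s (0, 1, 0) ≠ op (0, 1, 0) s := by
        by_contra! k
        exact Pw (hc _ k)
      have k : ∀ t, P t → QB t := fun t pt => (by decide +kernel : ∀ s t : T, Ev s → op s s = 0 →
        op s (0, 1, 0) ≠ op (0, 1, 0) s → Ev t → op t t = 0 → op s t = op t s → QB t) s t (ev s ps)
          (hs s ps) ns (ev t pt) (hs t pt) (comm _ _ ps pt)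
      exact .inr (.inl fun t => ⟨k t, fun q => hc t fun s ps =>
        (by decide +kernel : ∀ s t : T, QB s → QB t → op s t = op t s) s t (k s ps) q⟩)
  push Not at hs
  obtain ⟨y0, py0, n0⟩ := hs
  have az : a (4, 0, 0) = (4, 0, 0) := by
    obtain ⟨s, ps, e⟩ : ∃ s, P s ∧ op s s = (4, 0, 0) :=
      ((by decide : ∀ y : T, op y y ≠ 0 → op y y = (4, 0, 0) ∨
        op (op y y) (op y y) = (4, 0, 0)) y0 n0).elim (fun e => ⟨_, py0, e⟩)
        fun e => ⟨_, mul _ _ py0 py0, e⟩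
    have e1 : a (4, 0, 0) = op (a s) (a s) := by rw [← e, am _ _ ps ps]
    have e2 : op (a (4, 0, 0)) (a (4, 0, 0)) = 0 := (am _ _ Pz Pz).symm.trans a0
    have e3 : a (4, 0, 0) ≠ 0 := fun k => absurd (inj _ _ Pz P0 (k.trans a0.symm)) (by decide)
    rw [e1] at e2 e3 ⊢
    exact (by decide : ∀ x : T, op (op x x) (op x x) = 0 → op x x ≠ 0 → op x x = (4, 0, 0)) _ e2 e3
  have three : ∀ y, P y → a y ≠ y → D y (a y) ∧ D y (a (a y)) ∧ D (a y) (a (a y)) :=
    fun y py n =>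
      have n' : a (a y) ≠ a y := fun e => n (inj _ _ (Pa y py) py e)
      ⟨⟨n, fun e => n (R1 y _ py Pz az e)⟩, ⟨fun e => n (R y 0 py P0 a0
        (e.trans ((by decide : ∀ y : T, y = op y 0) y))), fun e => n (R y _ py Pz az e)⟩,
        n', fun e => n' (R1 _ _ (Pa y py) Pz az e)⟩
  have sq : ∀ y, P y → a (op y y) = op y y := fun y py => by
    by_contra n
    have := three _ (mul _ _ py py) n
    rw [am _ _ py py, am _ _ (Pa y py) (Pa y py)] at this
    have s : ∀ y : T, Ev (op y y) ∧ (op y y).2 = 0 := by decide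
    exact (by decide +kernel : ∀ s0 : T, Ev s0 ∧ s0.2 = 0 → ∀ s1 : T, Ev s1 ∧ s1.2 = 0 →
      ∀ s2 : T, Ev s2 ∧ s2.2 = 0 → ¬ (D s0 s1 ∧ D s0 s2 ∧ D s1 s2)) _ (s _) _ (s _) _ (s _) this
  have s1 : ∀ y, P y → op (a y) (a y) = op y y := fun y py => (am _ _ py py).symm.trans (sq y py)
  have s2 : ∀ y, P y → op (a (a y)) (a (a y)) = op y y := fun y py =>
    (s1 _ (Pa y py)).trans (s1 y py)
  have fin : ∀ x, P x → (x = (2, 0, 0) ∨ x = (6, 0, 0)) → a x = x →
      (∀ y, P y → y.2.1 = 0 → a y = y) → False := fun x px hx ax k => by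
    obtain ⟨y, py, n⟩ := ne
    have j : y.2.1 ≠ 0 := fun j => n (k y py j)
    have yy := mul _ _ py py
    obtain ⟨h1, h2⟩ := (by decide +kernel : ∀ x : T, (x = (2, 0, 0) ∨ x = (6, 0, 0)) → ∀ y y' : T,
      y.2.1 ≠ 0 → (op y' x = op x y' → op y x = op x y) →
        (op (iv y) y').2.1 = 0 ∧ y' = op y (op (iv y) y')) x hx y (a y) j fun e =>
          inj _ _ (mul _ _ py px) (mul _ _ px py) (by rw [am _ _ py px, am _ _ px py, ax, e])
    have pf := mul _ _ (mul _ _ py (mul _ _ yy (mul _ _ yy yy))) (Pa y py)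
    exact n (R1 y _ py pf (k _ pf h1) h2)
  by_cases h8 : ∃ x, P x ∧ ¬ Ev x ∧ x.2.1 = 0
  · obtain ⟨x, px, hx⟩ := h8
    have o8 : ∀ y, P y → ¬ Ev y ∧ y.2.1 = 0 → a y = y := fun y py k => by
      by_contra n
      exact (by decide +kernel : ∀ y0 : T, ¬ Ev y0 ∧ y0.2.1 = 0 → ∀ y1 : T, op y1 y1 = op y0 y0 →
        ∀ y2 : T, op y2 y2 = op y0 y0 → ¬ (D y0 y1 ∧ D y0 y2 ∧ D y1 y2)) y k _ (s1 y py) _ (s2 y py)
          (three y py n)
    refine (fin _ (mul _ _ px px) ((by decide : ∀ x : T, ¬ Ev x ∧ x.2.1 = 0 →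
      op x x = (2, 0, 0) ∨ op x x = (6, 0, 0)) x hx) (sq x px) fun y py j => ?_).elim
    by_cases e : Ev y
    · exact cancel y x py px (o8 x px hx) (o8 _ (mul _ _ py px)
        ((by decide +kernel : ∀ x y : T, ¬ Ev x ∧ x.2.1 = 0 → Ev y → y.2.1 = 0 →
          ¬ Ev (op y x) ∧ (op y x).2.1 = 0) x y hx e j))
    · exact o8 y py ⟨e, j⟩
  have h8' : ∀ x, P x → ¬ (¬ Ev x ∧ x.2.1 = 0) := fun x px k => h8 ⟨x, px, k⟩
  by_cases h1 : ∃ t, P t ∧ ¬ Ev t
  · obtain ⟨t, pt, o⟩ := h1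
    have qr : ∀ s, P s → QR s := fun s ps => (by decide +kernel : ∀ s t : T, ¬ Ev t →
      ¬ (¬ Ev t ∧ t.2.1 = 0) → ¬ (¬ Ev s ∧ s.2.1 = 0) →
        ¬ (¬ Ev (op s t) ∧ (op s t).2.1 = 0) → QR s) s t o (h8' t pt) (h8' s ps)
          (h8' _ (mul _ _ ps pt))
    have Pe : P (2, 0, 1) := hc _ fun s ps =>
      (by decide : ∀ s : T, QR s → op s (2, 0, 1) = op (2, 0, 1) s) s (qr s ps)
    by_cases Pc : P (2, 0, 0)
    · exact .inr (.inr fun s => ⟨qr s, genR mul Pc Pe pt (qr t pt) o s⟩)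
    have nb : ∀ s, P s → ¬ Bd s := by
      rintro s ps (e | e | e | e) <;> refine Pc (e ▸ ?_)
      exacts [ps, mul _ _ ps Pz, mul _ _ ps Pe, mul _ _ (mul _ _ ps Pe) Pz]
    obtain ⟨y, py, n⟩ := ne
    have p1 := Pa y py
    have p2 := Pa _ p1
    exact ((by decide +kernel : ∀ y0 : T, QR y0 → ¬ Bd y0 → ∀ y1 : T, QR y1 → ¬ Bd y1 →
      ¬ Bd (op y0 y1) → op y1 y1 = op y0 y0 → ∀ y2 : T, QR y2 → ¬ Bd y2 → ¬ Bd (op y0 y2) →
        ¬ Bd (op y1 y2) → op y2 y2 = op y0 y0 → ¬ (D y0 y1 ∧ D y0 y2 ∧ D y1 y2)) y (qr y py) (nb y py)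
          _ (qr _ p1) (nb _ p1) (nb _ (mul _ _ py p1)) (s1 y py) _ (qr _ p2) (nb _ p2)
          (nb _ (mul _ _ py p2)) (nb _ (mul _ _ p1 p2)) (s2 y py) (three y py n)).elim
  have ev : ∀ t, P t → Ev t := fun t pt => by_contra fun o => h1 ⟨t, pt, o⟩
  have Pd : P (0, 0, 1) := hc _ fun s ps =>
    (by decide : ∀ s : T, Ev s → op s (0, 0, 1) = op (0, 0, 1) s) s (ev s ps)
  have o4 : ∀ y, P y → op y y = (4, 0, 0) → a y = y := fun y py k => by
    by_contra n
    exact (by decide +kernel : ∀ y0 : T, Ev y0 → op y0 y0 = (4, 0, 0) → ∀ y1 : T, Ev y1 →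
      op y1 y1 = op y0 y0 → ∀ y2 : T, Ev y2 → op y2 y2 = op y0 y0 →
        ¬ (D y0 y1 ∧ D y0 y2 ∧ D y1 y2)) y (ev y py) k _ (ev _ (Pa y py)) (s1 y py) _
          (ev _ (Pa _ (Pa y py))) (s2 y py) (three y py n)
  obtain ⟨x, px, hx⟩ : ∃ x, P x ∧ (x = (2, 0, 0) ∨ x = (6, 0, 0)) :=
    ((by decide : ∀ y : T, Ev y → op y y ≠ 0 → (y = (2, 0, 0) ∨ y = (6, 0, 0)) ∨
      (op y (0, 0, 1) = (2, 0, 0) ∨ op y (0, 0, 1) = (6, 0, 0))) y0 (ev _ py0) n0).elim
      (fun e => ⟨_, py0, e⟩) fun e => ⟨_, mul _ _ py0 Pd, e⟩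
  have ax := o4 x px (by rcases hx with rfl | rfl <;> rfl)
  refine (fin x px hx ax fun y py j => ?_).elim
  rcases (by decide +kernel : ∀ x : T, (x = (2, 0, 0) ∨ x = (6, 0, 0)) → ∀ y : T, Ev y → y.2.1 = 0 →
    op y y = (4, 0, 0) ∨ op (op y x) (op y x) = (4, 0, 0)) x hx y (ev y py) j with e | e
  exacts [o4 y py e, cancel y x py px ax (o4 _ (mul _ _ py px) e)]

variable {X : Type*} [Group X] {r w d : X}

theorem mem_cl (h : HR r w d) (Q : T → Prop) (q0 : Q 0) (qm : ∀ s t, Q s → Q t → Q (op s t))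
    {S : Set X} (hS : ∀ x ∈ S, ∃ t, Q t ∧ x = nf r w d t) {t : T} (ht : nf r w d t ∈ closure S) :
    Q t := by
  have : ∀ x ∈ closure S, ∃ t, Q t ∧ x = nf r w d t := fun x hx => by
    induction hx using closure_induction with
    | mem x hx => exact hS x hx
    | one => exact ⟨0, q0, nf_zero.symm⟩
    | mul x y _ _ h1 h2 =>
      obtain ⟨s, qs, rfl⟩ := h1
      obtain ⟨t, qt, rfl⟩ := h2
      exact ⟨_, qm _ _ qs qt, nf_mul h _ _⟩
    | inv x _ h1 =>
      obtain ⟨s, qs, rfl⟩ := h1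
      have ss := qm _ _ qs qs
      exact ⟨iv s, qm _ _ qs (qm _ _ ss (qm _ _ ss ss)), inv_eq_of_mul_eq_one_right (by
        rw [nf_mul h, (by decide : ∀ s : T, op s (iv s) = 0) s, nf_zero])⟩
  obtain ⟨s, qs, e⟩ := this _ ht
  exact nf_inj h e ▸ qs

theorem memA (h : HR r w d) (t : T) : nf r w d t ∈ A8 r w d ↔ QA t := by
  refine ⟨mem_cl h QA (by decide) (by decide +kernel) ?_, fun q => ?_⟩
  · rintro _ (rfl | rfl | rfl)
    exacts [⟨(0, 1, 0), by decide, by simp [nf]⟩, ⟨(4, 0, 0), by decide, by simp [nf]⟩,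
      ⟨(0, 0, 1), by decide, by simp [nf]⟩]
  · refine mul_mem (mul_mem ?_ (pow_mem (subset_closure (by simp)) _))
      (pow_mem (subset_closure (by simp)) _)
    rcases q with q | q <;> rw [q]
    exacts [(pow_zero r).symm ▸ one_mem _, subset_closure (.inr (.inl rfl))]

theorem nf_k (h : HR r w d) : nf r w d (1, 1, 1) = r * d * w := by
  simp [nf, mul_assoc, h.wd]

theorem memR (h : HR r w d) (t : T) : nf r w d t ∈ R8 r w d ↔ QR t := by
  refine ⟨mem_cl h QR (by decide) (by decide +kernel) ?_, fun q => ?_⟩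
  · rintro _ (rfl | rfl | rfl)
    exacts [⟨(2, 0, 0), by decide, by simp [nf]⟩, ⟨(1, 1, 1), by decide, (nf_k h).symm⟩,
      ⟨(0, 0, 1), by decide, by simp [nf]⟩]
  · have c : r ^ 2 ∈ R8 r w d := subset_closure (.inl rfl)
    exact genR (P := fun t => nf r w d t ∈ R8 r w d) (fun s t a b => nf_mul h s t ▸ mul_mem a b)
      (by simpa [nf] using c) (by simpa [nf] using mul_mem c (subset_closure (.inr (.inr rfl))))
      (t := (1, 1, 1)) (nf_k h ▸ subset_closure (.inr (.inl rfl))) (by decide) (by decide) t q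

end H8twoAux

open H8homAux H8twoAux in
theorem st_H8two : St_H8two.{u} := by
  classical
  intro X _ r w d h U hU hn
  have : Finite X := Nat.finite_of_card_ne_zero (by rw [h.card]; norm_num)
  have := Ess.finite_mulAut' (E := U)
  have H := h.toHR
  obtain ⟨α, -, ho, h1⟩ := Rk2.oHas_of_not_isPGroup (A := (⊤ : Subgroup (MulAut U)))
    fun k => hn (k.of_equiv topEquiv)
  let e := Equiv.ofBijective _ (nf_bij h)
  obtain ⟨a, ha⟩ : ∃ a : T → T, ∀ t (k : nf r w d t ∈ U), nf r w d (a t) = α ⟨_, k⟩ :=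
    ⟨fun t => if k : nf r w d t ∈ U then e.symm (α ⟨_, k⟩) else t, fun t k => by
      simp only [dif_pos k]; exact e.apply_symm_apply _⟩
  have Pa : ∀ t, nf r w d t ∈ U → nf r w d (a t) ∈ U := fun t k => ha t k ▸ (α _).2
  have ha' : ∀ t (k : nf r w d t ∈ U), α ⟨_, k⟩ = ⟨_, Pa t k⟩ := fun t k =>
    Subtype.ext (ha t k).symm
  have ext : ∀ V : Subgroup X, (∀ t, nf r w d t ∈ U ↔ nf r w d t ∈ V) → U = V := fun V k =>
    Subgroup.ext fun x => by obtain ⟨t, rfl⟩ := (nf_bij h).2 x; exact k t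
  rcases core (fun t => nf r w d t ∈ U) a (fun s t a b => nf_mul H s t ▸ mul_mem a b)
    (fun t k => hU fun x hx => by
      obtain ⟨s, rfl⟩ := (nf_bij h).2 x
      rw [nf_mul H, nf_mul H, k s hx]) Pa
    (fun s t a b => nf_inj H (by
      rw [← nf_mul H, ha s a, ha t b, ha _ (nf_mul H s t ▸ mul_mem a b), ← coe_mul, ← map_mul]
      congr 2
      exact Subtype.ext (nf_mul H s t).symm))
    (fun s t a b k => nf_inj H (congrArg Subtype.val (α.injective (a₁ := ⟨_, a⟩) (a₂ := ⟨_, b⟩)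
      (Subtype.ext (by rw [← ha, ← ha, k])))))
    (fun y f a b k l => nf_inj H ((ha y a).trans (congrArg Subtype.val (rule
      (fun x => Subtype.ext (by rw [coe_pow, ← h.card, pow_card_eq_one', coe_one])) ho
      (y := ⟨_, a⟩) (f := ⟨_, b⟩) (Subtype.ext (by rw [← ha, k]))
      (Subtype.ext (by rw [ha', ← ha, l, ← nf_mul H]; rfl))))))
    (by
      by_contra! k
      refine h1 (MulEquiv.ext fun x => ?_)
      obtain ⟨x, hx⟩ := x
      obtain ⟨t, rfl⟩ := (nf_bij h).2 x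
      exact Subtype.ext (by rw [← ha, k t hx]; rfl)) with k | k | k
  · exact ⟨1, .inl (ext _ fun t => by rw [Trans.cj_one, memA H, k])⟩
  · refine ⟨r, .inl (ext _ fun t => ?_)⟩
    have e1 : r⁻¹ = nf r w d (7, 0, 0) := by
      simpa [nf] using inv_eq_of_mul_eq_one_right ((pow_succ' r 7).symm.trans H.r8)
    have e2 : nf r w d (7, 0, 0) * nf r w d t * r =
        nf r w d (7, 0, 0) * nf r w d t * nf r w d (1, 0, 0) := by simp [nf]
    rw [Trans.mem_cj, e1, e2, nf_mul H, nf_mul H, memA H, k]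
  · exact ⟨1, .inr (ext _ fun t => by rw [Trans.cj_one, memR H, k])⟩

end Cfsg.Lib.HM
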