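import Cfsg.Agent.HM.Nm0

/-! The hypothesis on the parabolics. -/

set_option autoImplicit false

open scoped commutatorElement MatrixGroups

namespace Cfsg.Lib.HM

open Cfsg Subgroup
open Cfsg.Lib.Fus hiding cj IsSylowIn
open Cfsg.Lib.Trans (cj IsSylowIn QDFrame)
open Cfsg.Lib.Gold (Ns Cs C1)
open Cfsg.Lib.Gomi (AB PosC ZZ E2)
open Cfsg.Lib.GCT (RB RQ WW QQ VV DD K0 MC)
open Cfsg.Lib.Rank2 (SylEmb DFrame)
open Cfsg.Lib.Fus.Rk2 (FHas TwoCl Rigid autF pullE)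

universe u

theorem st_HP : St_HP.{u} := by
  rintro Γ _ _ S F N s hp P hn ⟨h1, hP, Q, g, hPQ, hQ, hg, r, nr⟩
  have hS : S ≤ Ns P := fun x hx =>
    hn ((mem_NF le_rfl).2 ⟨le_normalizer hx, R.of_mem F le_rfl hx⟩)
  obtain ⟨φ, hφ, e⟩ := id r
  refine nr ⟨φ, hp P h1 hP hS (fun P' ψ hψ => ?_) Q ((mem_normalizerHom e).2
    ⟨hQ, fun x hx => Trans.cj_le_iff.1 (r.cj_le_inf hQ hg) x hx, _,
      (sup_eq_left.2 hPQ).symm ▸ r, fun _ _ => rfl, img_conj_eq hg⟩), e⟩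
  obtain ⟨a, b, f, m, e1, -⟩ := (mem_normalizerHom (f := extFun ψ) fun x => (extFun_coe ψ x).symm).1 hψ
  have hP' : P' ≤ S := a.trans normalizerIn_le
  rw [sup_eq_right.2 hP'] at m
  obtain ⟨h, rh, eh⟩ := s.univ.exists_R m
  have hh := hn ((mem_NF le_rfl).2 ⟨Trans.mem_normalizer_of_cj_le rh.cj_le, rh⟩)
  exact (mem_normalizerHom (f := extFun ψ) fun x => (extFun_coe ψ x).symm).2
    ⟨fun x hx => ⟨hP' hx, hS (hP' hx)⟩, fun x hx => ⟨(b x hx).1, hS (b x hx).1⟩, f,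
      m.restrict (sup_le hP' hP), e1, (img_congr fun x hx => eh x (hP hx)).trans (img_conj_eq hh)⟩

end Cfsg.Lib.HM
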