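import Cfsg.Agent.HM.St

/-! Minimal 2-fusion systems in the pushing-up case: `D` and its conjugate are invariant. -/

set_option autoImplicit false

open scoped commutatorElement

namespace Cfsg.Lib.HM

open Cfsg Subgroup Cfsg.Lib.Solv Cfsg.Lib.Trans Cfsg.Lib.Trans.TJ Cfsg.Lib.Trans.MP
  Cfsg.Lib.Trans.PU Cfsg.Lib.Trans.BB Cfsg.Lib.Local.MSS Cfsg.Lib.Gold
open Cfsg.Lib.Gomi (AB ZZ E2)
open Cfsg.Lib.GCT (RB RQ WW QQ VV DD K0)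

universe u

theorem st_Inv : St_Inv.{u} := by
  intro Γ _ _ S F q A A' M E y c
  have JT : A ⊔ A' ≤ S ⊓ Ns A := c.bau ▸ bau_le _
  have JS := JT.trans inf_le_left
  have one : ∀ g ∈ Ns A ⊓ NF F (A ⊔ A'), g ∈ Ns (DD (A ⊔ A') E) := fun g hg => by
    obtain ⟨n, r⟩ := (mem_NF JS).1 hg.2
    obtain ⟨m, hm, e⟩ := c.mdl.ext _ g le_sup_left JT r hg.1
    refine mem_normalizer_of_cj_le (cj_le_iff.2 fun d hd => ⟨mem_normalizer_conj n hd.1, ?_⟩)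
    rw [← e d hd.1]
    exact mem_normalizer_conj (mem_Ns_Cs (c.nE hm)) hd.2
  have yJ : y ∈ NF F (A ⊔ A') := (mem_NF JS).2 ⟨cj_eq_self_iff.1 (by
    rw [cj_sup, c.yA, c.yB, sup_comm]), R.of_mem F JS c.yS⟩
  refine fun g hg => mem_inf.2 ⟨one g hg, ?_⟩
  have h1 : g ∈ Ns A' := c.ab.Ns_inf_le ⟨NF_le F _ hg.2, hg.1⟩
  rw [Ns, ← c.yA, ← cj_normalizer, mem_cj] at h1
  have := one _ <| mem_inf.2 ⟨h1, mul_mem (mul_mem (inv_mem yJ) hg.2) yJ⟩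
  rwa [Ns, ← cj_normalizer, mem_cj]

end Cfsg.Lib.HM
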