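import Cfsg.Agent.HM.St
import Cfsg.Agent.GCT.Kill

/-! Involutions outside `J`. -/

set_option autoImplicit false

open scoped commutatorElement MatrixGroups

namespace Cfsg.Lib.HM

open Cfsg Subgroup
open Cfsg.Lib.Fus hiding cj IsSylowIn
open Cfsg.Lib.Trans (cj IsSylowIn QDFrame)
open Cfsg.Lib.Gold (Ns Cs C1)
open Cfsg.Lib.Gomi (AB PosC ZZ E2)
open Cfsg.Lib.GCT (RB RQ WW QQ VV DD K0 MC)
open Cfsg.Lib.Rank2 (SylEmb DFrame)
open Cfsg.Lib.Fus.Rk2 (FHas TwoCl Rigid autF pullE)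

universe u

namespace InvoAux

variable {G : Type u} [Group G]

theorem inv_comm {f a : G} (ff : f * f = 1) : f * ⁅f, a⁆ * f⁻¹ = ⁅f, a⁆⁻¹ := by
  rw [commutatorElement_def]
  calc f * (f * a * f⁻¹ * a⁻¹) * f⁻¹ = (f * f) * a * (f * f)⁻¹ * (f * a⁻¹ * f⁻¹) := by group
    _ = _ := by rw [ff]; group

theorem fix_comm {X : Subgroup G} (sq : ∀ a ∈ X, a * a = 1) {f a : G} (ff : f * f = 1)
    (h : ⁅f, a⁆ ∈ X) : f * ⁅f, a⁆ = ⁅f, a⁆ * f := by
  have := inv_comm (a := a) ff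
  rw [inv_eq_of_mul_eq_one_left (sq _ h)] at this
  exact mul_inv_eq_iff_eq_mul.1 this

theorem cnj (c j f : G) : c * (j * f) * c⁻¹ = c * j * c⁻¹ * ⁅f, c⁆⁻¹ * f := by
  simp only [commutatorElement_def]; group

theorem sq_cnj {c t : G} (h : t * t = 1) : c * t * c⁻¹ * (c * t * c⁻¹) = 1 := by
  rw [show c * t * c⁻¹ * (c * t * c⁻¹) = c * (t * t) * c⁻¹ by group, h]; group

theorem inverts {j f : G} (ff : f * f = 1) (h : j * f * (j * f) = 1) : f * j * f⁻¹ = j⁻¹ := by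
  rw [inv_eq_of_mul_eq_one_left ff]
  calc f * j * f = j⁻¹ * (j * f * (j * f)) := by group
    _ = j⁻¹ := by rw [h, mul_one]

end InvoAux

open InvoAux in
theorem st_Invo (hFree : St_Free.{u}) : St_Invo.{u} := by
  intro G _ _ K _ _ θ ψ A B D' c T hT hJ hA H
  have P := c.par
  have ab := P.ab
  have hN : ∀ t ∈ T, t ∈ Ns A ⊓ Ns B := fun t ht =>
    ⟨hA ht, ab.Ns_inf_le ⟨c.le_Ns_J hT hJ ht, hA ht⟩⟩
  refine ⟨fun h => ?_, fun f hf hf' ff => ?_⟩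
  · obtain ⟨x, hx, hx'⟩ := SetLike.not_le_iff_exists.1 h
    obtain ⟨k, hk⟩ := E2.of_mem hT hx
    obtain ⟨y, hy, hy', yy⟩ := GCT.exists_sq_mem hx hx' (k := k) (hk ▸ one_mem _)
    obtain ⟨t, ht, ht', tt⟩ := c.exists_field_sq hT hJ hy (hN y hy) hy' yy
    obtain ⟨w, hw, e⟩ := H t ht ht' (mem_sup_left tt.1) _ tt (mul_assoc t t t).symm
    have hwJ : w ∈ A ⊔ B := mem_sup_left hw.1
    refine ⟨w * t, mul_mem (hJ hwJ) ht, fun e1 => ht' ((mul_mem_cancel_left hwJ).1 e1), ?_⟩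
    calc w * t * (w * t) = w * ⁅t, w⁆ * w * (t * t) := by
          simp only [commutatorElement_def]; group
      _ = 1 := by
          rw [e, ab.commA hw.1 tt.1, mul_assoc (t * t), ab.sqA w hw.1, mul_one, ab.sqA _ tt.1]
  have e2 := E2.of_mem hT hf
  have ffJ : f * f ∈ A ⊔ B := ff ▸ one_mem _
  obtain ⟨F1, F2, -⟩ := hFree c f (hN f hf) e2 hf' ffJ
  refine ⟨?_, ?_, fun f' hg hg' gg => ?_⟩
  · obtain ⟨a, ha, ha', h1⟩ := Gomi.exists_fix ab.nle ab.nB (ab.isPGroup.to_le le_sup_left)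
      (hN f hf).1 (hN f hf).2 e2
    obtain ⟨v, hv, h2⟩ := F1 a ha h1
    have h3 := Gomi.Par.comm_mem_N (hN f hf).1 hv
    exact ⟨_, h3, fun h => ha' ((mul_mem_cancel_left h).1 h2), fix_comm ab.sqA ff h3⟩
  · obtain ⟨a, ha, ha', h1⟩ := Gomi.exists_fix ab.nge ab.nA (ab.isPGroup.to_le le_sup_right)
      (hN f hf).2 (hN f hf).1 e2
    obtain ⟨v, hv, h2⟩ := F2 a ha h1
    have h3 := Gomi.Par.comm_mem_N (hN f hf).2 hv
    exact ⟨_, h3, fun h => ha' ((mul_mem_cancel_left h).1 h2), fix_comm ab.sqB ff h3⟩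
  have s3 : ∀ j ∈ A ⊓ B, j * f * (j * f) = 1 → ∃ k ∈ A ⊔ B, k * (j * f) * k⁻¹ = f := by
    intro j hj h
    have h1 := inverts ff h
    rw [inv_eq_of_mul_eq_one_left (ab.sqA j hj.1)] at h1
    obtain ⟨w, hw, e⟩ := H f hf hf' ffJ j hj (mul_inv_eq_iff_eq_mul.1 h1)
    refine ⟨w, mem_sup_left hw.1, ?_⟩
    rw [cnj, e, ab.commA hw.1 hj.1]; group
  have s2 : ∀ j ∈ B, j * f * (j * f) = 1 → ∃ k ∈ A ⊔ B, k * (j * f) * k⁻¹ = f := by
    intro j hj h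
    have h1 := inverts ff h
    obtain ⟨b, hb, h2⟩ := F2 j hj (by
      rw [commutatorElement_def, h1, ← mul_inv_rev, ab.sqB j hj, inv_one]; exact one_mem _)
    have h3 := Gomi.Par.comm_mem_N (hN f hf).2 hb
    have e : b * (j * f) * b⁻¹ = ⁅f, b⁆ * j * f := by
      rw [cnj, ab.symm.commA hb hj, mul_inv_cancel_right,
        inv_eq_of_mul_eq_one_left (ab.sqB _ h3), ab.symm.commA hj h3]
    obtain ⟨k, hk, e1⟩ := s3 _ ⟨h2, mul_mem h3 hj⟩ (by rw [← e]; exact sq_cnj h)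
    refine ⟨k * b, mul_mem hk (mem_sup_right hb), ?_⟩
    rw [← e] at e1
    rw [← e1]
    conv_lhs => rw [e1]
    group
  have s1 : ∀ j ∈ A ⊔ B, j * f * (j * f) = 1 → ∃ k ∈ A ⊔ B, k * (j * f) * k⁻¹ = f := by
    intro j hj h
    have h1 := inverts ff h
    obtain ⟨a, ha, b, hb, rfl⟩ := ab.mem_sup.1 hj
    have hb' := Trans.mem_normalizer_conj (hN f hf).2 hb
    obtain ⟨v, hv, h2⟩ := F1 a ha (by
      have e : ⁅f, a⁆ = b⁻¹ * (a⁻¹ * (f * b * f⁻¹)⁻¹ * a⁻¹⁻¹) * (a * a)⁻¹ := by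
        calc ⁅f, a⁆ = f * (a * b) * f⁻¹ * (f * b * f⁻¹)⁻¹ * a⁻¹ := by
              rw [commutatorElement_def]; group
          _ = _ := by rw [h1]; group
      rw [e, ab.sqA a ha, inv_one, mul_one]
      exact mul_mem (inv_mem hb) (Trans.mem_normalizer_conj (inv_mem (ab.nB ha)) (inv_mem hb')))
    have h3 := Gomi.Par.comm_mem_N (hN f hf).1 hv
    have h4 : v * (a * b) * v⁻¹ * ⁅f, v⁆⁻¹ ∈ B := by
      have e : v * (a * b) * v⁻¹ * ⁅f, v⁆⁻¹ =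
          (v * a) * b * (v * a)⁻¹ * (⁅f, v⁆ * a) := by
        rw [inv_eq_of_mul_eq_one_left (ab.sqA _ h3), ab.commA h3 ha]
        calc v * (a * b) * v⁻¹ * ⁅f, v⁆ = (v * a) * b * (v * a)⁻¹ * ((v * a) * v⁻¹ * ⁅f, v⁆) := by
              group
          _ = _ := by rw [ab.commA hv ha, mul_inv_cancel_right]
      rw [e]
      exact mul_mem (Trans.mem_normalizer_conj (ab.nB (mul_mem hv ha)) hb) h2
    obtain ⟨k, hk, e1⟩ := s2 _ h4 (by rw [← cnj]; exact sq_cnj h)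
    refine ⟨k * v, mul_mem hk (mem_sup_left hv), ?_⟩
    rw [← cnj] at e1
    rw [← e1]
    conv_lhs => rw [e1]
    group
  obtain ⟨σ, f1, g1, h, hσ, hs⟩ := c.exists_act_field (hN f hf) e2 hf' ffJ
  obtain ⟨τ, f2, g2, h', hτ, hs'⟩ :=
    c.exists_act_field (hN f' hg) (.of_mem hT hg) hg' (gg ▸ one_mem _)
  have h6 := h'.mul h
  rw [← Known.ringAut_eq_of_orderOf_eq_two (orderOf_eq_prime (by rw [pow_two, hs]) hσ)
    (orderOf_eq_prime (by rw [pow_two, hs']) hτ), hs] at h6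
  have h7 := c.mem_J h6 (.of_mem hT (mul_mem hg hf))
  have e : f' * f * f = f' := by rw [mul_assoc, ff, mul_one]
  have := s1 _ h7 (by rw [e, gg])
  rwa [e] at this

end Cfsg.Lib.HM
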