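import Cfsg.Agent.HM.St

/-! The Sylow subgroup of `J₃`: basic facts. -/

set_option autoImplicit false
set_option linter.unusedSectionVars false

open scoped commutatorElement MatrixGroups

namespace Cfsg.Lib.HM

open Cfsg Subgroup
open Cfsg.Lib.Trans (cj IsSylowIn)
open Cfsg.Lib.Gold (Ns Cs C1)
open Cfsg.Lib.Gomi (AB)

variable {G : Type*} [Group G]

namespace J0

theorem four [Finite G] {T : Subgroup G} (hT : Nat.card T = 4) {a b c w : G} (ha : a ∈ T)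
    (hb : b ∈ T) (hc : c ∈ T) (a1 : a ≠ 1) (b1 : b ≠ 1) (c1 : c ≠ 1) (ab : a ≠ b) (ac : a ≠ c)
    (bc : b ≠ c) (hw : w ∈ T) : w = 1 ∨ w = a ∨ w = b ∨ w = c := by
  have e : ({1, a, b, c} : Set G) = T := Set.eq_of_subset_of_ncard_le (by
    rintro _ (rfl | rfl | rfl | rfl)
    exacts [one_mem _, ha, hb, hc]) (by
      rw [← Nat.card_coe_set_eq, SetLike.coe_sort_coe, hT, Set.ncard_insert_of_notMem (by
        simp [a1.symm, b1.symm, c1.symm]), Set.ncard_insert_of_notMem (by simp [ab, ac]),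
        Set.ncard_pair bc])
  have : w ∈ ({1, a, b, c} : Set G) := e ▸ hw
  simpa using this

theorem mem_zp {z w : G} (h : z * z = 1) : w ∈ zpowers z ↔ w = 1 ∨ w = z := by
  refine ⟨fun hw => ?_, fun e => e.elim (fun e => e ▸ one_mem _) fun e => e ▸ mem_zpowers _⟩
  obtain ⟨k, hk⟩ := mem_zpowers_iff.1 hw
  have e : z ^ (2 : ℤ) = 1 := by rw [zpow_two, h]
  rw [← hk, zpow_eq_zpow_emod k e]
  rcases Int.emod_two_eq_zero_or_one k with e | e <;> simp [e]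

theorem inv_of {a : G} (h : a * a = 1) : a⁻¹ = a := inv_eq_of_mul_eq_one_right h

variable {A B : Subgroup G} (h : AB A B) {s t u w : G}
include h

theorem cmZ (hs : s ∈ A ⊔ B) (ht : t ∈ A ⊔ B) : ⁅s, t⁆ ∈ A ⊓ B :=
  h.commutator_le (commutator_mem_commutator hs ht)

theorem zz (hw : w ∈ A ⊓ B) : w * w = 1 := h.sqA w hw.1

theorem cjZ (hs : s ∈ A ⊔ B) (hw : w ∈ A ⊓ B) : s * w * s⁻¹ = w := by
  rw [← h.comm_Z hs hw, mul_inv_cancel_right]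

theorem cml (hs : s ∈ A ⊔ B) (ht : t ∈ A ⊔ B) (hu : u ∈ A ⊔ B) :
    ⁅s * t, u⁆ = ⁅s, u⁆ * ⁅t, u⁆ := by
  have e : ⁅s * t, u⁆ = s * ⁅t, u⁆ * s⁻¹ * ⁅s, u⁆ := by simp only [commutatorElement_def]; group
  rw [e, cjZ h hs (cmZ h ht hu), h.comm_Z (mem_sup_left (cmZ h hs hu).1) (cmZ h ht hu)]

theorem cms (hs : s ∈ A ⊔ B) (ht : t ∈ A ⊔ B) : ⁅s, t⁆ = ⁅t, s⁆ := by
  rw [← commutatorElement_inv t s, inv_of (zz h (cmZ h ht hs))]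

theorem cmr (hs : s ∈ A ⊔ B) (ht : t ∈ A ⊔ B) (hu : u ∈ A ⊔ B) :
    ⁅s, t * u⁆ = ⁅s, t⁆ * ⁅s, u⁆ := by
  rw [cms h hs (mul_mem ht hu), cml h ht hu hs, cms h ht hs, cms h hu hs]

theorem cm0 (hw : w ∈ A ⊓ B) (hs : s ∈ A ⊔ B) : ⁅w, s⁆ = 1 :=
  commutatorElement_eq_one_iff_mul_comm.2 (h.comm_Z hs hw)

theorem cmA (hs : s ∈ A) (ht : t ∈ A) : ⁅s, t⁆ = 1 :=
  commutatorElement_eq_one_iff_mul_comm.2 (h.commA hs ht)

theorem cmB (hs : s ∈ B) (ht : t ∈ B) : ⁅s, t⁆ = 1 :=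
  commutatorElement_eq_one_iff_mul_comm.2 (h.symm.commA hs ht)

theorem cm_ne (hs : s ∈ A) (hs' : s ∉ B) (ht : t ∈ B) (ht' : t ∉ A) : ⁅s, t⁆ ≠ 1 := fun e =>
  (h.mem_or_mem hs ht (commutatorElement_eq_one_iff_mul_comm.1 e)).elim hs' ht'

end J0

open J0

namespace Jc

variable {S A A' R : Subgroup G} {x z : G} (h : Jc S A A' R x z) {a b s t w : G}
include h

theorem ab : AB A A' := h.js.ab

theorem xi : x⁻¹ = x := inv_of h.xx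

theorem xA (ha : a ∈ A) : x * a * x⁻¹ ∈ A' := h.js.yA ▸ Trans.conj_mem_cj.2 ha

theorem xB (hb : b ∈ A') : x * b * x⁻¹ ∈ A := h.js.yB ▸ Trans.conj_mem_cj.2 hb

theorem xxc (g : G) : x * (x * g * x⁻¹) * x⁻¹ = g := by
  rw [← mul_assoc, ← mul_assoc, h.xx, one_mul, mul_assoc, ← mul_inv_rev, h.xx, inv_one, mul_one]

theorem xA' (ha : x * a * x⁻¹ ∈ A) : a ∈ A' := h.xxc a ▸ h.xA ha

theorem xB' (hb : x * b * x⁻¹ ∈ A') : b ∈ A := h.xxc b ▸ h.xB hb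

theorem xZ (hw : w ∈ A ⊓ A') : x * w * x⁻¹ ∈ A ⊓ A' := mem_inf.2 ⟨h.xB hw.2, h.xA hw.1⟩

theorem xJ : x ∉ A ⊔ A' := fun e => h.ab.nle fun _ ha =>
  h.xA' (Trans.mem_normalizer_conj (h.ab.S_le_Ns e) ha)

theorem xS : x ∈ S := h.js.yS

theorem out (ht : t ∈ S) (hn : t ∉ A ⊔ A') : ∃ j ∈ A ⊔ A', t = x * j :=
  ⟨_, (h.js.dec t ht).resolve_left hn, by rw [mul_inv_cancel_left]⟩

theorem outA (ht : t ∈ S) (hn : t ∉ A ⊔ A') (ha : a ∈ A) : t * a * t⁻¹ ∈ A' := by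
  obtain ⟨j, hj, rfl⟩ := h.out ht hn
  simpa only [mul_assoc, mul_inv_rev] using
    h.xA (Trans.mem_normalizer_conj (h.ab.S_le_Ns hj) ha)

theorem outB (ht : t ∈ S) (hn : t ∉ A ⊔ A') (hb : b ∈ A') : t * b * t⁻¹ ∈ A := by
  obtain ⟨j, hj, rfl⟩ := h.out ht hn
  simpa only [mul_assoc, mul_inv_rev] using
    h.xB (Trans.mem_normalizer_conj (h.ab.symm.S_le_Ns (sup_comm A A' ▸ hj)) hb)

theorem outZ (ht : t ∈ S) (hn : t ∉ A ⊔ A') (hw : w ∈ A ⊓ A') : t * w * t⁻¹ = x * w * x⁻¹ := by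
  obtain ⟨j, hj, rfl⟩ := h.out ht hn
  conv_rhs => rw [← cjZ h.ab hj hw]
  group

theorem xJ' (hs : s ∈ A ⊔ A') : x * s * x⁻¹ ∈ A ⊔ A' := by
  obtain ⟨a, ha, b, hb, rfl⟩ := h.ab.mem_sup.1 hs
  rw [← conj_mul]
  exact mul_mem (mem_sup_right (h.xA ha)) (mem_sup_left (h.xB hb))

theorem sJ (ht : t ∈ S) (hs : s ∈ A ⊔ A') : t * s * t⁻¹ ∈ A ⊔ A' := by
  by_cases hn : t ∈ A ⊔ A'
  · exact mul_mem (mul_mem hn hs) (inv_mem hn)
  obtain ⟨j, hj, rfl⟩ := h.out ht hn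
  simpa only [mul_assoc, mul_inv_rev] using h.xJ' (mul_mem (mul_mem hj hs) (inv_mem hj))

theorem mul_out (hs : s ∈ S) (hs' : s ∉ A ⊔ A') (ht : t ∈ S) (ht' : t ∉ A ⊔ A') :
    s * t ∈ A ⊔ A' := by
  obtain ⟨j, hj, rfl⟩ := h.out hs hs'
  obtain ⟨k, hk, rfl⟩ := h.out ht ht'
  have := mul_mem (h.xJ' hj) hk
  rwa [h.xi, mul_assoc] at this

theorem sqJ (hs : s ∈ S) : s * s ∈ A ⊔ A' := by
  by_cases hn : s ∈ A ⊔ A'
  exacts [mul_mem hn hn, h.mul_out hs hn hs hn]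

theorem zz : z * z = 1 := J0.zz h.ab h.zZ

theorem ordz : orderOf z = 2 :=
  haveI : Fact (Nat.Prime 2) := ⟨Nat.prime_two⟩
  orderOf_eq_prime (by rw [pow_two, h.zz]) h.z1

theorem zS (hs : s ∈ S) : s * z = z * s := by
  by_cases hn : s ∈ A ⊔ A'
  · exact (h.ab.comm_Z hn h.zZ).symm
  exact mul_inv_eq_iff_eq_mul.1 (by rw [h.outZ hs hn h.zZ, h.xz, mul_inv_cancel_right])

theorem fixo (ht : t ∈ S) (hn : t ∉ A ⊔ A') (hw : w ∈ A ⊓ A') (e : t * w = w * t) :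
    w = 1 ∨ w = z :=
  h.fix w hw (mul_inv_eq_iff_eq_mul.1 (by rw [← h.outZ ht hn hw, e, mul_inv_cancel_right]))

theorem tr (hw : w ∈ A ⊓ A') : w * (x * w * x⁻¹) = 1 ∨ w * (x * w * x⁻¹) = z :=
  h.fix _ (mul_mem hw (h.xZ hw)) (mul_inv_eq_iff_eq_mul.1 (by
    rw [← conj_mul, h.xxc, h.ab.commA hw.1 (h.xZ hw).1]))

theorem conjZ (hw : w ∈ A ⊓ A') (h1 : w ≠ 1) (h2 : w ≠ z) : x * w * x⁻¹ = w * z := by
  have i := inv_of (J0.zz h.ab hw)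
  rcases h.tr hw with e | e
  · exact absurd (h.fix w hw (mul_inv_eq_iff_eq_mul.1 (by
      rw [eq_inv_of_mul_eq_one_right e, i]))) (not_or.2 ⟨h1, h2⟩)
  · rw [← e, ← mul_assoc, J0.zz h.ab hw, one_mul]

theorem inv_out (ht : t ∈ S) (hn : t ∉ A ⊔ A') (hs : s ∈ A ⊔ A') (h2 : s * s = 1)
    (e : t * s = s * t) : s = 1 ∨ s = z := by
  have k : t * s * t⁻¹ = s := by rw [e, mul_inv_cancel_right]
  refine h.fixo ht hn ?_ e
  rcases h.ab.inv s hs h2 with m | m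
  exacts [mem_inf.2 ⟨m, k ▸ h.outA ht hn m⟩, mem_inf.2 ⟨k ▸ h.outB ht hn m, m⟩]

theorem RB : R ⊓ A' ≤ A := fun _ hb =>
  h.xB' (h.RA (mem_inf.2 ⟨Trans.mem_normalizer_conj (h.nR h.xS) hb.1, h.xB hb.2⟩))

variable [Finite G]

theorem exists_ζ : ∃ ζ ∈ A ⊓ A', ζ ≠ 1 ∧ ζ ≠ z := by
  by_contra! hn
  have : A ⊓ A' ≤ zpowers z := fun w hw => (mem_zp h.zz).2 (by
    by_cases e : w = 1
    exacts [.inl e, .inr (hn w hw e)])
  have := card_le_of_le this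
  rw [h.cZ, Nat.card_zpowers, h.ordz] at this
  omega

theorem Zc {ζ : G} (hζ : ζ ∈ A ⊓ A') (h1 : ζ ≠ 1) (h2 : ζ ≠ z) (hw : w ∈ A ⊓ A') :
    w = 1 ∨ w = z ∨ w = ζ ∨ w = ζ * z :=
  four h.cZ h.zZ hζ (mul_mem hζ h.zZ) h.z1 h1
    (fun e => h2 ((eq_inv_of_mul_eq_one_left e).trans (inv_of h.zz))) h2.symm
    (fun e => h1 (by simpa using e)) (fun e => h.z1 (by simpa using e)) hw

theorem cB : Nat.card A' = 16 := by rw [← h.js.yA, Trans.card_cj, h.cA]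

theorem cJ : Nat.card ↥(A ⊔ A') = 64 := by
  have := Solv.card_sup_mul_card_inf_of_le_normalizer h.ab.nA
  rw [h.cZ, h.cA, h.cB] at this
  omega

theorem cS : Nat.card S = 128 := by
  rw [← Trans.card_mul_relIndex h.js.le, h.cJ, relIndex_eq_two_iff_exists_notMem_and'.2
    ⟨x⁻¹, inv_mem h.xS, fun e => h.xJ (inv_mem_iff.1 e), fun b hb => (h.js.dec b hb).symm⟩]

end Jc

end Cfsg.Lib.HM
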