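import Cfsg.Agent.HM.J0

/-! The fusion system of `J₃`. -/

set_option autoImplicit false

open scoped commutatorElement MatrixGroups

namespace Cfsg.Lib.HM

open Cfsg Subgroup
open Cfsg.Lib.Fus hiding cj IsSylowIn
open Cfsg.Lib.Trans (cj IsSylowIn QDFrame)
open Cfsg.Lib.Gold (Ns Cs C1)
open Cfsg.Lib.Gomi (AB PosC ZZ E2)
open Cfsg.Lib.GCT (RB RQ WW QQ VV DD K0 MC)
open Cfsg.Lib.Rank2 (SylEmb DFrame)
open Cfsg.Lib.Fus.Rk2 (FHas TwoCl Rigid autF pullE)

universe u

theorem st_J3s (hJR : St_JR.{u}) (hJ3E : St_J3E.{u}) : St_J3s.{u} := by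
  intro Γ _ _ S F A A' M x z ρ h hF
  obtain ⟨H, _, _, κ, hH, hκ, ho, hC, hcl⟩ := hJ3E h
  have hSM : S ≤ M := h.syl.le
  have hAS : A ≤ S := le_sup_left.trans h.jc.js.le
  have hzS : z ∈ S := hAS h.jc.zZ.1
  have zz : z * z = 1 := h.jc.js.ab.sqA z h.jc.zZ.1
  have hj : (κ.comp (inclusion hSM)).range = (S.subgroupOf M).map κ := by
    rw [MonoidHom.range_comp, inclusion_range]
  let E : SylEmb S H := ⟨κ.comp (inclusion hSM), hκ.comp (inclusion_injective _), by
    rw [hj, index_map_of_injective _ hκ, Nat.prime_two.dvd_mul]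
    rintro (h1 | h1)
    exacts [h.syl.not_dvd h1, ho h1]⟩
  have k : ∀ t (ht : t ∈ S), extFun E.j t = κ ⟨t, hSM ht⟩ := fun t ht => by
    rw [extFun_of_mem _ ht]; rfl
  have hR : ∀ P g, R (pullE E) P g ↔ P ≤ S ∧ (∀ p ∈ P, g * p * g⁻¹ ∈ S) ∧
      ∃ γ : H, ∀ p ∈ P, extFun E.j (g * p * g⁻¹) = γ * extFun E.j p * γ⁻¹ := fun P g =>
    mor_iff_of_realized (Rk2.pullE_realized E)
  have hMz : M ≤ Ns (zpowers z) := fun m hm =>
    mem_normalizer_of_finite fun y hy => by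
      obtain ⟨n, rfl⟩ := hy
      have e : z * m = m * z := mem_centralizer_singleton_iff.1 (h.cz hm) |>.symm
      have : m * z ^ n * m⁻¹ = z ^ n := by
        rw [(Commute.symm e).zpow_right n, mul_inv_cancel_right]
      exact this ▸ zpow_mem (mem_zpowers z) n
  have hT : S ⊓ Ns (zpowers z) = S := inf_eq_left.2 (hSM.trans hMz)
  refine ⟨pullE E, ⟨H, inferInstance, inferInstance, E, Rk2.pullE_realized E,
    .inr (.inr (.inr (.inr (.inl ⟨(hJR h.jc).2.2.1, hH⟩))))⟩,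
    ⟨hF.two, Rk2.pullE_saturated hF.two E, hF.univ⟩,
    ⟨zpowers_le.2 hzS, hMz, hT.symm ▸ h.syl, h.chp, fun m hm P hP hc => ?_,
      fun P g hz hP r hg => ?_⟩, fun a ha a1 => ?_⟩
  · have hP' : P ≤ S := hP.trans inf_le_left
    have hc' := Trans.cj_le_iff.1 hc
    refine (hR P m).2 ⟨hP', hc', κ ⟨m, hm⟩, fun p hp => ?_⟩
    rw [k _ (hc' p hp), k _ (hP' hp), ← map_inv, ← map_mul, ← map_mul]
    rfl
  · obtain ⟨hP', hm, γ, hγ⟩ := (hR P g).1 r
    have hzP : z ∈ P := hz (mem_zpowers z)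
    have e : g * z * g⁻¹ = z := by
      rcases (J0.mem_zp zz).1 ((mem_normalizer_iff.1 hg z).1 (mem_zpowers z)) with e | e
      · exact absurd (by simpa using e) h.jc.z1
      · exact e
    have : γ ∈ κ.range := by
      rw [hC (hSM hzS)]
      have := hγ z hzP
      rw [e, k z hzS] at this
      exact mem_centralizer_singleton_iff.2 (eq_mul_inv_iff_mul_eq.1 this).symm
    obtain ⟨m, rfl⟩ := this
    refine ⟨m, m.2, fun p hp => ?_⟩
    have := hγ p hp
    rw [k _ (hm p hp), k _ (hP' hp), ← map_inv, ← map_mul, ← map_mul] at this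
    exact (congrArg Subtype.val (hκ this)).symm
  · have o : ∀ t (ht : t ∈ A), t ≠ 1 → orderOf (extFun E.j t) = 2 := fun t ht t1 => by
      rw [k t (hAS ht), orderOf_injective κ hκ, ← orderOf_coe]
      exact orderOf_eq_prime (by rw [pow_two]; exact h.jc.js.ab.sqA t ht) t1
    obtain ⟨γ, hγ⟩ := isConj_iff.1 (hcl _ _ (o a ha a1) (o z h.jc.zZ.1 h.jc.z1))
    have hP : zpowers a ≤ S := zpowers_le.2 (hAS ha)
    have r := mor_pullConj (Rk2.pullE_realized E) hP (g := γ) fun y hy => by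
      rcases (J0.mem_zp (h.jc.js.ab.sqA a ha)).1 hy with rfl | rfl
      · have : extFun E.j 1 = 1 := (k 1 (one_mem _)).trans (map_one κ)
        rw [this, mul_one, mul_inv_cancel]
        exact one_mem _
      · rw [hγ]; exact extFun_mem_range' _ hzS
    have := r.isConjElt (mem_zpowers a)
    rwa [← eq_pullConj E.inj hzS hγ.symm] at this

end Cfsg.Lib.HM
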