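import Cfsg.Agent.HM.JT
import Cfsg.Agent.HM.JsK

/-! The automorphisms of `A` are determined. -/

set_option autoImplicit false

open scoped commutatorElement MatrixGroups

namespace Cfsg.Lib.HM

open Cfsg Subgroup
open Cfsg.Lib.Fus hiding cj IsSylowIn
open Cfsg.Lib.Trans (cj IsSylowIn QDFrame)
open Cfsg.Lib.Gold (Ns Cs C1)
open Cfsg.Lib.Gomi (AB PosC ZZ E2)
open Cfsg.Lib.GCT (RB RQ WW QQ VV DD K0 MC)
open Cfsg.Lib.Rank2 (SylEmb DFrame)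
open Cfsg.Lib.Fus.Rk2 (FHas TwoCl Rigid autF pullE)

universe u

namespace JAAux

section Ag

variable {G : Type*} [Group G] {A : Subgroup G} {g m g' m' : G}

/-- `g` and `m` act in the same way on `A` -/
def Ag (A : Subgroup G) (g m : G) : Prop := ∀ a ∈ A, g * a * g⁻¹ = m * a * m⁻¹

theorem Ag.mul (h : Ag A g m) (h' : Ag A g' m') (n : g' ∈ Ns A) : Ag A (g * g') (m * m') :=
  fun a ha => by
    have e := h _ (Trans.mem_normalizer_conj n ha)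
    calc _ = g * (g' * a * g'⁻¹) * g⁻¹ := by group
      _ = m * (m' * a * m'⁻¹) * m⁻¹ := by rw [e, h' a ha]
      _ = _ := by group

theorem Ag.inv (h : Ag A g m) (n : g ∈ Ns A) : Ag A g⁻¹ m⁻¹ := fun a ha => by
  have e := h _ (Trans.mem_normalizer_conj (inv_mem n) ha)
  calc _ = m⁻¹ * (m * (g⁻¹ * a * g⁻¹⁻¹) * m⁻¹) * m := by group
    _ = _ := by rw [← e]; group

theorem Ag.cs (h : Ag A g m) (c : m ∈ Cs A) : g ∈ Cs A := fun a ha => by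
  have e := h a ha
  rw [← c a ha, mul_inv_cancel_right] at e
  exact (mul_inv_eq_iff_eq_mul.1 e).symm

theorem Ag.comm (h : Ag A g m) (h' : Ag A g' m') (n : g ∈ Ns A) (n' : g' ∈ Ns A) :
    Ag A ⁅g, g'⁆ ⁅m, m'⁆ :=
  ((h.mul h' n').mul (h.inv n) (inv_mem n)).mul (h'.inv n') (inv_mem n')

theorem conj_cs (n : g ∈ Ns A) (c : m ∈ Cs A) : g * m * g⁻¹ ∈ Cs A := fun a ha => by
  have e := c _ (Trans.mem_normalizer_conj (inv_mem n) ha)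
  calc _ = g * (g⁻¹ * a * g⁻¹⁻¹ * m) * g⁻¹ := by group
    _ = _ := by rw [e]; group

end Ag

theorem key (hMdl : St_Mdl.{u}) (hCM : St_CM.{u}) (hJsF : St_JsF.{u}) (hJT : St_JT.{u})
    (hJA1 : St_JA1.{u}) {Γ : Type u} [Group Γ] [Finite Γ] {S : Subgroup Γ} {F : FusionSystem S}
    {A A' M : Subgroup Γ} {x z ρ : Γ} (h : JM S A A' M x z ρ) (k : J3s F A M z) {t : Γ}
    (tA : t ∈ Ns A) (tB : t ∈ Ns A') (tF : t ∈ NF F (A ⊔ A')) (h1 : ∀ b ∈ A', ⁅t, b⁆ ∈ A)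
    (h2 : ∀ a ∈ A, t * a = a * t → a = 1) (h3 : t ^ 3 ∈ Cs A) {g : Γ} (hg : g ∈ NF F A) :
    ⁅g, t⁆ ∈ Cs A := by
  have : Fact (Nat.Prime 2) := ⟨Nat.prime_two⟩
  obtain ⟨hc, hn, -, -, hT, -⟩ := hJsF (F := F) h.jc.js
  obtain ⟨L, hL⟩ := hMdl k.toSat A hn (normSys_constrained k.two k.sat hn hc)
  have hAS := JTAux.leA h
  have hAT : A ≤ S ⊓ Ns A := hT ▸ le_sup_left
  have ex : ∀ g ∈ NF F A, ∃ m ∈ L, Ag A g m := fun g hg => by
    obtain ⟨m, hm, e⟩ := hL.ext A g le_rfl hAT ((mem_NF hAS).1 hg).2 hg.1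
    exact ⟨m, hm, fun a ha => (e a ha).symm⟩
  have hLF : L ≤ NF F A := fun m hm => (mem_NF hAS).2 ⟨hL.nU hm, hL.mor m hm A hAT
    ((Trans.cj_eq_of_mem_normalizer (hL.nU hm)).le.trans hAS)⟩
  obtain ⟨t', ht', e⟩ := hL.ext (A ⊔ A') t le_sup_left hT.ge ((mem_NF (JTAux.leJ h)).1 tF).2 tA
  have ag : Ag A t t' := fun a ha => (e a (mem_sup_left ha)).symm
  have ag' : Ag A t' t := fun a ha => e a (mem_sup_left ha)
  obtain ⟨m, hm, em⟩ := ex g hg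
  obtain ⟨T1, -, T3⟩ := hJT h k
  refine (em.comm ag hg.1 tA).cs (hJA1 h.jc.js.ab h.jc.cA h.jc.cB h.jc.cZ h.jc.zZ h.jc.z1 hL.nU
    (hT ▸ hL.syl) (hCM hL (isCentric_self hc)) ((inf_le_inf_right _ hLF).trans T3)
    (fun a ha a1 => ?_) ⟨ht', ?_⟩ (fun b hb => ?_) (fun a ha c => h2 a ha ?_) ?_ m hm)
  · obtain ⟨g', hg', e'⟩ := T1 a ha a1
    obtain ⟨m', hm', em'⟩ := ex g' hg'
    exact ⟨m', hm', (em' z h.jc.zZ.1).symm.trans e'⟩
  · exact mem_normalizer_of_finite fun b hb => by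
      rw [e b (mem_sup_right hb)]
      exact Trans.mem_normalizer_conj tB hb
  · rw [commutatorElement_def, e b (mem_sup_right hb)]
    exact h1 b hb
  · have := ag a ha
    rw [c, mul_inv_cancel_right] at this
    exact mul_inv_eq_iff_eq_mul.1 this
  · have n := hL.nU ht'
    have := (ag'.mul ag' n).mul ag' n
    rw [← pow_three', ← pow_three'] at this
    exact this.cs h3

end JAAux

open JAAux in
theorem st_JA (hMdl : St_Mdl.{u}) (hCM : St_CM.{u}) (hJsF : St_JsF.{u}) (hJT : St_JT.{u})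
    (hJS : St_JS.{u}) (hJC : St_JC.{u}) (hJA1 : St_JA1.{u}) (hJA2 : St_JA2.{u})
    (hJJ : St_JJ.{u}) : St_JA.{u} := by
  intro Γ _ _ S F N A A' M x z ρ h kF kN g hg
  have hAS := JTAux.leA h
  have hJS' := JTAux.leJ h
  obtain ⟨τ, hτ, τz, τρ, -⟩ := hJS h kN
  have τB : τ ∈ Ns A' := by
    rcases (hJsF (F := N) h.jc.js.symm).2.2.2.2.2.2.2.1 τ
      ((((mem_NF hJS').1 hτ.2).2.mono le_sup_right).cj_le) with c | c
    · exact Gold.mem_Ns_iff.2 c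
    · exact absurd (Trans.cj_inj.1 ((Gold.mem_Ns_iff.1 hτ.1).trans c.symm)).le h.jc.js.ab.nle
  have ρJ : ρ ∈ Ns (A ⊔ A') := normalizer_inf_normalizer_le_normalizer_sup A A' h.ρA
  have ρN : ρ ∈ NF N (A ⊔ A') := (mem_NF hJS').2 ⟨ρJ, JTAux.mor h kN h.ρM hJS'
    ((Trans.cj_eq_of_mem_normalizer ρJ).le.trans hJS')⟩
  obtain ⟨-, t, ht, h1, h2, h3, h4⟩ := hJC h τ ⟨hτ.1, τB⟩ τz τρ
  have ht' : t ∈ (Ns A ⊓ Ns A') ⊓ NF N (A ⊔ A') :=
    (sup_le (zpowers_le.2 ⟨h.ρA, ρN⟩) (zpowers_le.2 ⟨⟨hτ.1, τB⟩, hτ.2⟩) :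
      zpowers ρ ⊔ zpowers τ ≤ (Ns A ⊓ Ns A') ⊓ NF N (A ⊔ A')) ht
  have cs : Cs (A ⊔ A') ≤ Cs A := centralizer_le (le_sup_left : A ≤ A ⊔ A')
  have c1 := key hMdl hCM hJsF hJT hJA1 h kF ht'.1.1 ht'.1.2 (hJJ h kN kF ht'.2) h1 h2 (cs h3) hg
  obtain ⟨n, hn, e⟩ := (hJT h kN).1 _ (Trans.mem_normalizer_conj hg.1 h.jc.zZ.1)
    (by simpa using h.jc.z1)
  have c2 := key hMdl hCM hJsF hJT hJA1 h kN ht'.1.1 ht'.1.2 ht'.2 h1 h2 (cs h3) (inv_mem hn)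
  have hk := hJA2 h t ht'.1 h1 h2 (cs h3) (cs h4) (n⁻¹ * g) (mul_mem (inv_mem hn.1) hg.1)
    (Gold.mem_C1.2 (by
      calc _ = n⁻¹ * (g * z * g⁻¹) * g := by group
        _ = _ := by rw [← e]; group)) (by
      have := mul_mem (conj_cs (inv_mem hn.1) c1) c2
      convert this using 1
      simp only [commutatorElement_def]
      group)
  have hle : A' ⊔ zpowers ρ ⊔ Cs A ≤ NF N A := by
    refine sup_le (sup_le (fun b hb => ?_) (zpowers_le.2 ?_)) fun c hc => ?_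
    · exact (mem_NF hAS).2 ⟨h.jc.js.ab.nA hb, R.of_mem N hAS (hJS' (mem_sup_right hb))⟩
    · exact (mem_NF hAS).2 ⟨h.ρA.1, ((mem_NF hJS').1 ρN).2.mono le_sup_left⟩
    · exact (mem_NF hAS).2 ⟨Gold.Cs_le_Ns hc, R.of_cent N hAS hc⟩
  simpa using mul_mem hn (hle hk)

end Cfsg.Lib.HM
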