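import Cfsg.Agent.HM.JC

/-! The scalar is central in the model of `N_F(A)`. -/

set_option autoImplicit false

open scoped commutatorElement MatrixGroups

namespace Cfsg.Lib.HM

open Cfsg Subgroup
open Cfsg.Lib.Trans (cj IsSylowIn)
open Cfsg.Lib.Gold (Ns Cs C1)
open Cfsg.Lib.Gomi (AB)
open MulAut (conj)
open JCAux

universe u

namespace JA1Aux

variable {G : Type*} [Group G] [Finite G] {A B M : Subgroup G} {z h a g m n : G}

omit [Finite G] in
theorem mc {T : Subgroup G} : conj g a ∈ cj g T ↔ a ∈ T :=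
  mem_map_iff_mem (f := (conj g).toMonoidHom) (conj g).injective

omit [Finite G] in
/-- A fixed point free automorphism of order three. -/
theorem tr (ab : AB A B) (hn : g ∈ Ns A) (f : ∀ a ∈ A, conj g a = a → a = 1)
    (o : ∀ a ∈ A, conj g (conj g (conj g a)) = a) (ha : a ∈ A) :
    conj g (conj g a) = a * conj g a := by
  have h1 := (cm hn).2 ha
  have h2 := (cm hn).2 h1
  have := f _ (mul_mem (mul_mem ha h1) h2) (by
    rw [map_mul, map_mul, o a ha, ab.commA (mul_mem h1 h2) ha, mul_assoc])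
  rw [← inv_eq ab h2, eq_comm, ← mul_eq_one_iff_eq_inv, this]

theorem exists_comm (ab : AB A B) (cB : Nat.card B = 16) (cZ : Nat.card ↥(A ⊓ B) = 4) (ha : a ∈ A)
    (hb : a ∉ B) {w : G} (hw : w ∈ A ⊓ B) : ∃ b ∈ B, conj b a = a * w := by
  have k : ∀ b : B, a⁻¹ * conj (b : G) a ∈ A ⊓ B := fun b => by
    have := ab.comm_mem (inv_mem ha) b.2
    rwa [commutatorElement_def, inv_inv, mul_assoc, mul_assoc, ← mul_assoc (b : G)] at this
  let ψ : B →* G := MonoidHom.mk' (fun b => a⁻¹ * conj (b : G) a) fun b c => by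
    have e : conj (c : G) a = a * (a⁻¹ * conj (c : G) a) := (mul_inv_cancel_left _ _).symm
    rw [coe_mul, conj_mul', e, map_mul, fx.2 (ab.comm_Z (mem_sup_right b.2) (k c)).symm, ← e,
      ← mul_assoc]
  have e : ψ.ker = A.subgroupOf B := by
    ext b
    rw [MonoidHom.mem_ker, mem_subgroupOf]
    change a⁻¹ * conj (b : G) a = 1 ↔ _
    rw [inv_mul_eq_one, eq_comm, fx]
    exact ⟨fun r => (ab.mem_or_mem ha b.2 r.symm).resolve_left hb, fun r => ab.commA r ha⟩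
  have c := ψ.ker.card_mul_index
  rw [index_ker, e, ← inf_subgroupOf_right, Nat.card_congr (subgroupOfEquivOfLe inf_le_right).toEquiv,
    cZ, cB] at c
  obtain ⟨b, r⟩ := (eq_of_le_of_card_ge (H := ψ.range) (K := A ⊓ B) (by rintro _ ⟨b, rfl⟩; exact k b)
    (by omega)).ge hw
  exact ⟨b, b.2, by rw [← r]; exact (mul_inv_cancel_left _ _).symm⟩

theorem meet (cA : Nat.card A = 16) (cZ : Nat.card ↥(A ⊓ B) = 4) {L : Subgroup G} (le : L ≤ A)
    (cL : Nat.card L = 4) (d : ∀ x ∈ L, x ∈ B → x = 1) (ha : a ∈ A) : ∃ x ∈ L, a⁻¹ * x ∈ B := by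
  have e := (B.subgroupOf A).card_eq_card_quotient_mul_card_subgroup
  rw [cA, ← inf_subgroupOf_left, Nat.card_congr (subgroupOfEquivOfLe inf_le_left).toEquiv, cZ,
    inf_subgroupOf_left] at e
  have : Function.Injective fun x : L => ((⟨x, le x.2⟩ : A) : A ⧸ B.subgroupOf A) := fun x y r =>
    Subtype.ext (inv_mul_eq_one.1 (d _ (mul_mem (inv_mem x.2) y.2) 
      ((QuotientGroup.eq (s := B.subgroupOf A)).1 r)))
  obtain ⟨x, r⟩ := (this.bijective_of_nat_card_le (by omega)).2 (⟨a, ha⟩ : A)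
  exact ⟨x, x.2, (QuotientGroup.eq (s := B.subgroupOf A)).1 r.symm⟩

/-- The hypotheses. -/
structure Hy (A B M : Subgroup G) (z h : G) : Prop where
  ab : AB A B
  cA : Nat.card A = 16
  cB : Nat.card B = 16
  cZ : Nat.card ↥(A ⊓ B) = 4
  zZ : z ∈ A ⊓ B
  z1 : z ≠ 1
  nA : M ≤ Ns A
  le : B ≤ M
  cz : M ⊓ C1 z ≤ Ns (A ⊓ B)
  trn : ∀ a ∈ A, a ≠ 1 → ∃ m ∈ M, m * z * m⁻¹ = a
  hM : h ∈ M
  hB : h ∈ Ns B
  cm : ∀ b ∈ B, ∀ a ∈ A, conj h (conj b a) = conj b (conj h a)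
  f : ∀ a ∈ A, conj h a = a → a = 1
  o : ∀ a ∈ A, conj h (conj h (conj h a)) = a

namespace Hy

variable (H : Hy A B M z h)
include H

omit [Finite G] in
theorem nZ : h ∈ Ns (A ⊓ B) := Gold.mem_Ns_inf (H.nA H.hM) H.hB

omit [Finite G] in
theorem four (ha : a ∈ A ⊓ B) :
    a = 1 ∨ a = z ∨ a = conj h z ∨ a = conj h (conj h z) := by
  have i := (conj h).injective
  have u1 := (JCAux.cm H.nZ).2 H.zZ
  have n1 : conj h z ≠ z := mt (H.f z H.zZ.1) H.z1
  have n3 := H.o z H.zZ.1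
  exact sub4 H.cZ H.zZ u1 ((JCAux.cm H.nZ).2 u1) H.z1 (fun r => H.z1 (i (r.trans (map_one _).symm)))
    (fun r => H.z1 (i (i (by rw [r, map_one, map_one])))) n1.symm
    (fun r => n1 (by rw [← r] at n3; exact n3)) (fun r => n1 (i r).symm) ha

omit [Finite G] in
theorem line (hm : m ∈ M) (ha : a ∈ cj m (A ⊓ B)) (a1 : a ≠ 1) :
    ∃ n ∈ M, conj n z = a ∧ cj n (A ⊓ B) = cj m (A ⊓ B) := by
  obtain ⟨a, rfl⟩ := (conj m).surjective a
  have e := Gold.mem_Ns_iff.1 H.nZ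
  rcases H.four (mc.1 ha) with rfl | rfl | rfl | rfl
  · exact (a1 (map_one _)).elim
  · exact ⟨m, hm, rfl, rfl⟩
  · exact ⟨_, mul_mem hm H.hM, conj_mul' .., by rw [Trans.cj_mul, e]⟩
  · exact ⟨m * (h * h), mul_mem hm (mul_mem H.hM H.hM), by rw [conj_mul', conj_mul'],
      by rw [Trans.cj_mul, Trans.cj_mul, e, e]⟩

omit [Finite G] in
theorem uniq (hm : m ∈ M) (hn : n ∈ M) (h1 : a ∈ cj m (A ⊓ B)) (h2 : a ∈ cj n (A ⊓ B)) (a1 : a ≠ 1) :
    cj m (A ⊓ B) = cj n (A ⊓ B) := by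
  obtain ⟨m, hm, e1, e2⟩ := H.line hm h1 a1
  obtain ⟨n, hn, e3, e4⟩ := H.line hn h2 a1
  rw [← e2, ← e4, Trans.cj_eq_iff_eq_cj_inv, Trans.cj_cj]
  refine (Gold.mem_Ns_iff.1 (H.cz ⟨M.mul_mem (inv_mem hm) hn, Gold.mem_C1.2 (fx.1 ?_)⟩)).symm
  rw [conj_mul', e3, ← e1]
  simp [mul_assoc]

omit [Finite G] in
theorem lle (hm : m ∈ M) : cj m (A ⊓ B) ≤ A :=
  (Trans.cj_mono m inf_le_left).trans (Gold.mem_Ns_iff.1 (H.nA hm)).le

omit [Finite G] in
theorem off (hm : m ∈ M) (n : cj m (A ⊓ B) ≠ A ⊓ B) : ∀ x ∈ cj m (A ⊓ B), x ∈ B → x = 1 :=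
  fun x h1 h2 => by_contra fun c => n (by
    rw [H.uniq hm (one_mem _) h1 (by rw [Trans.cj_one]; exact ⟨H.lle hm h1, h2⟩) c, Trans.cj_one])

/-- `h` normalises all lines. -/
theorem norm (hm : m ∈ M) : h ∈ Ns (cj m (A ⊓ B)) := by
  by_cases c : cj m (A ⊓ B) = A ⊓ B
  · rw [c]; exact H.nZ
  have hm' := mul_mem H.hM hm
  have c' : cj (h * m) (A ⊓ B) ≠ A ⊓ B := fun r => c (by
    rw [Trans.cj_mul, Trans.cj_eq_iff_eq_cj_inv] at r
    rw [r, Gold.mem_Ns_iff.1 (inv_mem H.nZ)])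
  have a0 : conj m z ∈ cj m (A ⊓ B) := mc.2 H.zZ
  have aA := H.lle hm a0
  have aB : conj m z ∉ B := fun r => H.z1 ((conj m).injective ((H.off hm c _ a0 r).trans
    (map_one _).symm))
  obtain ⟨x, hx, k⟩ := meet H.cA H.cZ (H.lle hm') (by rw [Trans.card_cj, H.cZ]) (H.off hm' c') aA
  obtain ⟨b, hb, e⟩ := exists_comm H.ab H.cB H.cZ aA aB ⟨A.mul_mem (inv_mem aA) (H.lle hm' hx), k⟩
  rw [mul_inv_cancel_left] at e
  have r := H.uniq (mul_mem (H.le hb) hm) hm' (by rw [Trans.cj_mul, ← e]; exact mc.2 a0) hx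
    fun r => aB (by rwa [r, mul_one, inv_mem_iff] at k)
  have s : b * h ∈ Ns (cj m (A ⊓ B)) := by
    rw [Gold.mem_Ns_iff, Trans.cj_mul, ← Trans.cj_mul h, ← r, Trans.cj_cj, ← mul_assoc,
      H.ab.sqB b hb, one_mul]
  have t : ∀ a ∈ A, conj (b * h) (conj (b * h) a) = conj h (conj h a) := fun a ha => by
    have := (JCAux.cm (H.nA H.hM)).2 ha
    rw [conj_mul', conj_mul', H.cm b hb _ this, ← conj_mul', H.ab.sqB b hb, map_one]; rfl
  refine mem_normalizer_fintype fun a ha => ?_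
  have hA := H.lle hm ha
  have h1 := (JCAux.cm (H.nA H.hM)).2 hA
  have := (JCAux.cm s).2 ((JCAux.cm s).2 ((JCAux.cm s).2 ((JCAux.cm s).2 ha)))
  rwa [t _ hA, t _ ((JCAux.cm (H.nA H.hM)).2 h1), H.o _ h1] at this

omit [Finite G] in
theorem cent (l : ∀ m ∈ M, g ∈ Ns (cj m (A ⊓ B))) (c : ∀ w ∈ A ⊓ B, conj g w = w) (ha : a ∈ A) :
    conj g a = a := by
  by_cases hB : a ∈ B
  · exact c a ⟨ha, hB⟩
  have hB' : a * z ∉ B := fun r => hB ((B.mul_mem_cancel_right H.zZ.2).1 r)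
  obtain ⟨m, hm, e⟩ := H.trn a ha fun r => hB (r ▸ one_mem _)
  obtain ⟨n, hn, e'⟩ := H.trn _ (mul_mem ha H.zZ.1) fun r => hB' (r ▸ one_mem _)
  have h1 : a ∈ cj m (A ⊓ B) := e ▸ mc.2 H.zZ
  have h2 : a * z ∈ cj n (A ⊓ B) := e' ▸ mc.2 H.zZ
  have h3 := (JCAux.cm (l n hn)).2 h2
  rw [map_mul, c z H.zZ] at h3
  by_contra k
  have r := H.uniq hm hn (mul_mem ((JCAux.cm (l m hm)).2 h1) (inv_mem h1))
    (by simpa [mul_assoc] using mul_mem h3 (inv_mem h2)) (mt mul_inv_eq_one.1 k)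
  have := H.uniq hm (one_mem _) ((mul_mem_cancel_left h1).1 (r ▸ h2)) (by rw [Trans.cj_one]; exact H.zZ) H.z1
  rw [this, Trans.cj_one] at h1
  exact hB h1.2

theorem dich (hm : m ∈ M) : (∀ a ∈ A, conj m (conj h a) = conj h (conj m a)) ∨
    ∀ a ∈ A, conj m (conj h a) = conj h (conj h (conj m a)) := by
  have nA := H.nA hm
  have nh := H.nA H.hM
  have e : ∀ a, conj (m * h * m⁻¹) (conj m a) = conj m (conj h a) := fun a => by simp [mul_assoc]
  have l : ∀ n ∈ M, m * h * m⁻¹ ∈ Ns (cj n (A ⊓ B)) := fun n hn => by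
    rw [Gold.mem_Ns_iff, Trans.cj_mul, Trans.cj_mul, ← Trans.cj_mul m⁻¹,
      Gold.mem_Ns_iff.1 (H.norm (mul_mem (inv_mem hm) hn)), Trans.cj_cj, mul_inv_cancel_left]
  have f : ∀ a ∈ A, conj (m * h * m⁻¹) a = a → a = 1 := fun a ha r => by
    obtain ⟨a, rfl⟩ := (conj m).surjective a
    rw [H.f a ((JCAux.cm nA).1 ha) ((conj m).injective (e a ▸ r)), map_one]
  have o : ∀ a ∈ A, conj (m * h * m⁻¹) (conj (m * h * m⁻¹) (conj (m * h * m⁻¹) a)) = a :=
    fun a ha => by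
      obtain ⟨a, rfl⟩ := (conj m).surjective a
      rw [e, e, e, H.o a ((JCAux.cm nA).1 ha)]
  have t := tr H.ab (mul_mem (mul_mem nA nh) (inv_mem nA)) f o H.zZ.1
  have t' := tr H.ab nh H.f H.o H.zZ.1
  have nZ := l 1 (one_mem _)
  rw [Trans.cj_one] at nZ
  generalize m * h * m⁻¹ = k at *
  have z3 := H.o z H.zZ.1
  have key : ∀ g, (∀ n ∈ M, g ∈ Ns (cj n (A ⊓ B))) → conj g (conj k z) = z →
      conj g (conj k (conj h z)) = conj h z → ∀ a ∈ A, conj g (conj k a) = a := fun g hg r s a ha => by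
    rw [← conj_mul'] at r s ⊢
    refine H.cent (fun n hn => mul_mem (hg n hn) (l n hn)) (fun w hw => ?_) ha
    rcases H.four hw with rfl | rfl | rfl | rfl
    exacts [map_one _, r, s, by rw [t', map_mul, r, s]]
  rcases H.four ((JCAux.cm nZ).2 H.zZ) with r | r | r | r
  · exact (H.z1 ((conj k).injective (r.trans (map_one _).symm))).elim
  · exact (H.z1 (f z H.zZ.1 r)).elim
  · refine .inl fun a ha => ?_
    have := key h⁻¹ (fun n hn => inv_mem (H.norm hn)) (by rw [r]; simp [mul_assoc])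
      (by rw [r, ← t'] at t; rw [t]; simp [mul_assoc]) _ ((JCAux.cm nA).2 ha)
    rw [← e, ← congrArg (conj h) this]
    simp [mul_assoc]
  · refine .inr fun a ha => ?_
    have hz := (JCAux.cm nh).2 H.zZ.1
    have := key h (fun n hn => H.norm hn) (by rw [r, z3]) (by
      have s : conj h z = z * conj k z := by rw [r, t', ← mul_assoc, H.ab.sqA z H.zZ.1, one_mul]
      rw [s, map_mul, t, ← mul_assoc, H.ab.commA ((JCAux.cm nZ).2 H.zZ).1 H.zZ.1, mul_assoc,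
        H.ab.sqA _ ((JCAux.cm nZ).2 H.zZ).1, mul_one, ← s]) _ ((JCAux.cm nA).2 ha)
    rw [← e, ← congrArg (fun x => conj h (conj h x)) this, H.o]
    rw [e]
    exact (JCAux.cm nA).2 ((JCAux.cm nh).2 ha)

end Hy

end JA1Aux

open JA1Aux in
theorem st_JA1 : St_JA1.{u} := by
  intro G _ _ A B M z h ab cA cB cZ zZ z1 nA syl _ cz trn hM hc f o m hm
  have nh := nA hM.1
  have sy : A ⊔ A = A := sup_idem A
  have kk : ∀ {m}, m ∈ Ns A → (m ∈ KK A A h ↔ ⁅m, h⁆ ∈ Cs A) := fun {m} k => by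
    simpa only [sy] using mem_KK (A := A) (B := A) (sy.symm ▸ nh) k k
  have cA' : A ≤ Cs A := fun a ha => mem_centralizer_iff.2 fun b hb => ab.commA hb ha
  have kB : B ≤ KK A A h := fun b hb => (kk (ab.nA hb)).2 (by
    simpa using cA' (inv_mem (hc b hb)))
  have H : Hy A B M z h := ⟨ab, cA, cB, cZ, zZ, z1, nA, le_sup_right.trans syl.1, cz, trn, hM.1, hM.2,
    fun b hb a ha => ((kB hb).2.2 a (mem_sup_left ha)).symm, fun a ha r => f a ha (fx.1 r),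
    fun a ha => by
      rw [← conj_mul', ← conj_mul', ← pow_three', fx]
      exact (mem_centralizer_iff.1 o a ha).symm⟩
  have kA : A ≤ KK A A h := fun a ha => ⟨le_normalizer ha, le_normalizer ha, fun j hj => by
    rw [sy] at hj
    rw [fx.2 (ab.commA ha hj), fx.2 (ab.commA ha ((cm nh).2 hj))]⟩
  rw [← kk (nA hm)]
  by_contra c
  have iv : ∀ {n}, n ∈ M → n ∉ KK A A h → ∀ a ∈ A, conj n (conj h a) = conj h (conj h (conj n a)) :=
    fun hn k => (H.dich hn).resolve_left fun r => k ⟨nA hn, nA hn, sy.symm ▸ r⟩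
  have i2 : (KK A A h).relIndex M = 2 := index_eq_two_iff.2 ⟨⟨m, hm⟩, fun b => by
    by_cases k : (b : G) ∈ KK A A h
    · exact .inr ⟨k, fun r => c ((mul_mem_cancel_left k).1 r)⟩
    · refine .inl ⟨⟨nA (mul_mem b.2 hm), nA (mul_mem b.2 hm), fun a ha => ?_⟩, k⟩
      rw [sy] at ha
      have h1 := (cm (nA hm)).2 ha
      change conj (b * m : G) _ = conj h (conj (b * m : G) a)
      rw [conj_mul', conj_mul', iv hm c a ha, iv b.2 k _ ((cm nh).2 h1), iv b.2 k _ h1, H.o]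
      exact (cm nh).2 ((cm (nA b.2)).2 h1)⟩
  exact syl.2.2 (i2 ▸ relIndex_dvd_of_le_left M (sup_le kA kB))

end Cfsg.Lib.HM
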