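import Cfsg.Agent.HM.EN2a
import Cfsg.Agent.HM.EN2b
import Cfsg.Agent.GCT.Two0

/-! The Borel subgroup of `GL₂(4)`. -/

set_option autoImplicit false

open scoped commutatorElement MatrixGroups

namespace Cfsg.Lib.HM

open Cfsg Subgroup
open Cfsg.Lib.Fus hiding cj IsSylowIn
open Cfsg.Lib.Trans (cj IsSylowIn QDFrame)
open Cfsg.Lib.Gold (Ns Cs C1)
open Cfsg.Lib.Gomi (AB PosC ZZ E2)

universe u

namespace JA2Aux

open Cfsg.Lib.Trans Cfsg.Lib.Gold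

variable {G : Type u} [Group G] [Finite G]

omit [Finite G] in
theorem mem1 {Y : Subgroup G} {u e : G} (hn : u ∈ Ns Y) (uu : u * u = 1)
    (he : e ∈ zpowers u ⊔ Y) : e ∈ Y ∨ u * e ∈ Y := by
  obtain ⟨x, hx, w, hw, rfl⟩ := TJ.mem_sup_of_le_normalizer (zpowers_le.2 hn) he
  rcases GCT.Tw.zp uu hx with rfl | rfl
  · exact Or.inl (by rwa [one_mul])
  · exact Or.inr (by rwa [← mul_assoc, uu, one_mul])

/-- four cosets -/
theorem four {X Y : Subgroup G} (h2 : ∀ e ∈ X, e * e = 1) (hY : Y ≤ X)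
    (hc : Nat.card X = 4 * Nat.card Y) {u v : G} (hu : u ∈ X) (hv : v ∈ X) (hu' : u ∉ Y)
    (hv' : v ∉ Y) (huv : u * v ∉ Y) :
    ∀ e ∈ X, e ∈ Y ∨ u * e ∈ Y ∨ v * e ∈ Y ∨ u * (v * e) ∈ Y := by
  have n : ∀ {Y : Subgroup G}, Y ≤ X → X ≤ Ns Y := fun h => (le_Cs_of_sq h2 h).trans Cs_le_Ns
  have l1 : zpowers u ⊔ Y ≤ X := sup_le (zpowers_le.2 hu) hY
  have l2 : zpowers v ⊔ (zpowers u ⊔ Y) ≤ X := sup_le (zpowers_le.2 hv) l1
  have c1 := GCT.Tw.two_mul_le (A := Y) (X := zpowers u ⊔ Y)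
    (lt_of_le_not_ge le_sup_right fun e => hu' (e (mem_sup_left (mem_zpowers u))))
  have c2 := GCT.Tw.two_mul_le (A := zpowers u ⊔ Y) (X := zpowers v ⊔ (zpowers u ⊔ Y))
    (lt_of_le_not_ge le_sup_right fun e =>
      (mem1 (n hY hu) (h2 u hu) (e (mem_sup_left (mem_zpowers v)))).elim hv' huv)
  intro e he
  rcases mem1 (n l1 hv) (h2 v hv) ((eq_of_le_of_card_ge l2 (by omega)).ge he) with k | k <;>
    rcases mem1 (n hY hu) (h2 u hu) k with k | k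
  exacts [Or.inl k, Or.inr (Or.inl k), Or.inr (Or.inr (Or.inl k)), Or.inr (Or.inr (Or.inr k))]

omit [Finite G] in
theorem le_of_four {X Y W : Subgroup G} {u v : G}
    (h : ∀ e ∈ X, e ∈ Y ∨ u * e ∈ Y ∨ v * e ∈ Y ∨ u * (v * e) ∈ Y) (hY : Y ≤ W) (hu : u ∈ W)
    (hv : v ∈ W) : X ≤ W := fun e he => by
  rcases h e he with k | k | k | k
  exacts [hY k, (mul_mem_cancel_left hu).1 (hY k), (mul_mem_cancel_left hv).1 (hY k),
    (mul_mem_cancel_left hv).1 ((mul_mem_cancel_left hu).1 (hY k))]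

end JA2Aux

open JA2Aux Cfsg.Lib.Trans Cfsg.Lib.Gold in
theorem st_JA2 : St_JA2.{u} := by
  intro G _ _ S A A' M x z ρ c h hh hb fpf h3 hρ g hg hgz hgh
  have j := c.jc
  have ab := j.js.ab
  have sqZ : ∀ w ∈ A ⊓ A', w * w = 1 := fun w hw => ab.sqA w hw.1
  have hZ : h ∈ Ns (A ⊓ A') := mem_Ns_inf hh.1 hh.2
  have cAZ : Nat.card A = 4 * Nat.card ↥(A ⊓ A') := by rw [j.cA, j.cZ]
  have cZ1 : Nat.card ↥(A ⊓ A') = 4 * Nat.card (⊥ : Subgroup G) := by rw [j.cZ, card_bot]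
  have out : ∀ k ∈ Ns A', ∀ a, a ∉ A' → k * a * k⁻¹ ∉ A' := fun k hk a ha e =>
    ha (by simpa [mul_assoc] using mem_normalizer_conj' hk e)
  have hsq : ∀ a ∈ A, a * (h * a * h⁻¹) = h * (h * a * h⁻¹) * h⁻¹ := fun a ha => by
    have k1 := mem_normalizer_conj hh.1 ha
    have k2 := mem_normalizer_conj hh.1 k1
    have k3 : h * (h * (h * a * h⁻¹) * h⁻¹) * h⁻¹ = a := by
      calc _ = h ^ 3 * a * (h ^ 3)⁻¹ := by rw [pow_three]; group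
        _ = a := by rw [← mem_Cs.1 h3 a ha, mul_inv_cancel_right]
    have k4 := fpf _ (mul_mem (mul_mem ha k1) k2) (by
      rw [← mul_inv_eq_iff_eq_mul]
      calc _ = h * a * h⁻¹ * (h * (h * a * h⁻¹) * h⁻¹) * (h * (h * (h * a * h⁻¹) * h⁻¹) * h⁻¹) := by
            group
        _ = _ := by rw [k3, ab.commA (mul_mem k1 k2) ha, ← mul_assoc])
    rw [mul_eq_one_iff_eq_inv, inv_eq_of_sq (ab.sqA _ k2)] at k4
    exact k4
  have hn : Ns A ⊓ C1 z ≤ Ns (Cs A) := fun k hk => mem_Ns_Cs hk.1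
  have inv : ∀ k ∈ EN2aAux.CC _ _ h hn, ∀ e ∈ A, e ∈ C1 k → h * e * h⁻¹ ∈ C1 k := by
    intro k hk e he e1
    have k1 := mem_Cs.1 hk.2 _ (mem_normalizer_conj hk.1.1 (mem_normalizer_conj hh.1 he))
    have k2 : k * (h * e * h⁻¹) * k⁻¹ = h * (k * e) * (k⁻¹ * h⁻¹) := by
      calc _ = ⁅h, k⁆ * (k * (h * e * h⁻¹) * k⁻¹) * ⁅h, k⁆⁻¹ := by
            rw [← k1, mul_inv_cancel_right]
        _ = _ := by simp only [commutatorElement_def]; group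
    rw [← mem_C1.1 e1] at k2
    refine mem_C1.2 ?_
    calc h * e * h⁻¹ * k = h * (e * k) * (k⁻¹ * h⁻¹) * k := by group
      _ = _ := by rw [← k2]; group
  have hz := mem_normalizer_conj hZ j.zZ
  have fZ := four sqZ bot_le cZ1 j.zZ hz j.z1 (fun e => j.z1 (by simpa using e)) (fun e => by
    rw [mem_bot, hsq z j.zZ.1] at e
    exact j.z1 (by simpa using e))
  have cenZ : ∀ k ∈ EN2aAux.CC _ _ h hn, A ⊓ A' ≤ C1 k := fun k hk =>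
    have k1 : z ∈ C1 k := mem_C1.2 (mem_C1.1 hk.1.2).symm
    le_of_four fZ bot_le k1 (inv k hk z j.zZ.1 k1)
  obtain ⟨a, ha, ha'⟩ := ab.exists_A
  have rig : ∀ k ∈ EN2aAux.CC _ _ h hn, a ∈ C1 k → k ∈ Cs A := fun k hk k1 => mem_Cs.2 fun e he =>
    mem_C1.1 (le_of_four (four ab.sqA inf_le_left cAZ ha (mem_normalizer_conj hh.1 ha)
      (fun e => ha' e.2) (fun e => out h hh.2 a ha' e.2)
      fun e => out h hh.2 _ (out h hh.2 a ha') (hsq a ha ▸ e.2)) (cenZ k hk) k1 (inv k hk a ha k1) he)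
  have gC : g ∈ EN2aAux.CC _ _ h hn := ⟨⟨hg, hgz⟩, commutatorElement_inv g h ▸ inv_mem hgh⟩
  have ρC : ρ ∈ EN2aAux.CC _ _ h hn := ⟨⟨c.ρA.1, Cs_le_C1 j.zZ c.ρZ⟩, hρ⟩
  have bC : A' ≤ EN2aAux.CC _ _ h hn := fun b k =>
    ⟨⟨ab.nA k, mem_C1.2 (ab.symm.commA k j.zZ.2)⟩, le_Cs_of_sq ab.sqA le_rfl (hb b k)⟩
  have ga := mem_normalizer_conj hg ha
  have ga' : g * a * g⁻¹ ∉ A ⊓ A' := fun e => ha' (by
    have k := mem_C1.1 (cenZ g gC e)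
    rw [inv_mul_cancel_right, mul_right_inj] at k
    rw [k]; exact e.2)
  have ρa := mem_normalizer_conj c.ρA.1 ha
  have ρZ : ρ ∈ Ns (A ⊓ A') := mem_Ns_inf c.ρA.1 c.ρA.2
  have ρ1 : a * (ρ * a * ρ⁻¹) ∉ A ⊓ A' := fun e => ha' (c.fpf a (mem_sup_left ha) (by
    rw [ab.commA ha ρa] at e
    rwa [commutatorElement_def, inv_eq_of_sq (ab.sqA a ha)])).2
  have fA := four ab.sqA inf_le_left cAZ ha ρa (fun e => ha' e.2) (fun e => out ρ c.ρA.2 a ha' e.2) ρ1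
  obtain ⟨i, hi⟩ : ∃ i : ℕ, ρ ^ i * a * (ρ ^ i)⁻¹ * (g * a * g⁻¹) ∈ A ⊓ A' := by
    rcases fA _ ga with k | k | k | k
    · exact absurd k ga'
    · exact ⟨0, by simpa using k⟩
    · exact ⟨1, by simpa using k⟩
    refine ⟨2, ?_⟩
    have k1 := mem_normalizer_conj c.ρA.1 ρa
    have e2 : ρ ^ 2 * a * (ρ ^ 2)⁻¹ = ρ * (ρ * a * ρ⁻¹) * ρ⁻¹ := by rw [pow_two]; group
    rw [e2]
    rcases fA _ k1 with k2 | k2 | k2 | k2
    · exact absurd k2.2 (out ρ c.ρA.2 _ (out ρ c.ρA.2 a ha'))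
    · refine absurd ?_ ρ1
      have k3 := mem_normalizer_conj ρZ k2
      have e3 : ρ * (a * (ρ * (ρ * a * ρ⁻¹) * ρ⁻¹)) * ρ⁻¹ =
          ρ * a * ρ⁻¹ * (ρ ^ 3 * a * (ρ ^ 3)⁻¹) := by rw [pow_three]; group
      rw [e3, c.ρ3, one_mul, inv_one, mul_one] at k3
      rwa [ab.commA ha ρa]
    · exact absurd (by simpa [mul_assoc] using mem_normalizer_conj' ρZ k2) ρ1
    · have k3 := mul_mem (inv_mem k2) k
      rw [← inv_eq_of_sq (ab.sqA _ k1)]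
      convert k3 using 1
      group
  have a1 := mem_normalizer_conj (pow_mem c.ρA.1 i) ha
  have a1' := out _ (pow_mem c.ρA.2 i) a ha'
  obtain ⟨b, hbA, eb⟩ : ∃ b ∈ A', ⁅b, ρ ^ i * a * (ρ ^ i)⁻¹⁆ =
      ρ ^ i * a * (ρ ^ i)⁻¹ * (g * a * g⁻¹) := by
    generalize ρ ^ i * a * (ρ ^ i)⁻¹ = a' at a1 a1' hi
    obtain ⟨u, hu, v, hv, hu', hv', huv⟩ := EN2bAux.pair (A := A') (A' := A)
      (by rw [inf_comm, j.cZ, j.js.cardA, j.cA]; norm_num)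
    have cm : ∀ u ∈ A', ⁅u, a'⁆ ∈ A ⊓ A' := fun u hu =>
      ab.comm_mem' (mem_sup_right hu) (mem_sup_left a1)
    have ne : ∀ u ∈ A', u ∉ A → ⁅u, a'⁆ ∉ (⊥ : Subgroup G) := fun u hu hu' e =>
      (ab.mem_or_mem a1 hu (commutatorElement_eq_one_iff_mul_comm.1 e).symm).elim a1' hu'
    have ml : ⁅u * v, a'⁆ = ⁅u, a'⁆ * ⁅v, a'⁆ := by
      calc _ = u * ⁅v, a'⁆ * u⁻¹ * ⁅u, a'⁆ := by simp only [commutatorElement_def]; group
        _ = _ := by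
          rw [ab.symm.commA hu (cm v hv).2, mul_inv_cancel_right, ab.commA (cm v hv).1 (cm u hu).1]
    rcases four sqZ bot_le cZ1 (cm u hu) (cm v hv) (ne u hu hu') (ne v hv hv')
      (ml ▸ ne _ (mul_mem hu hv) huv) _ hi with k | k | k | k <;> rw [mem_bot] at k
    · exact ⟨1, one_mem _, by rw [k]; simp⟩
    · exact ⟨u, hu, by rw [eq_inv_of_mul_eq_one_left k, inv_eq_of_sq (sqZ _ hi)]⟩
    · exact ⟨v, hv, by rw [eq_inv_of_mul_eq_one_left k, inv_eq_of_sq (sqZ _ hi)]⟩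
    · rw [← mul_assoc, ← ml] at k
      exact ⟨_, mul_mem hu hv, by rw [eq_inv_of_mul_eq_one_left k, inv_eq_of_sq (sqZ _ hi)]⟩
  have k1 : b * ρ ^ i ∈ A' ⊔ zpowers ρ ⊔ Cs A :=
    mem_sup_left (mul_mem (mem_sup_left hbA) (mem_sup_right (pow_mem (mem_zpowers ρ) i)))
  refine (mul_mem_cancel_left (inv_mem k1)).1 (mem_sup_right (rig _
    (mul_mem (inv_mem (mul_mem (bC hbA) (pow_mem ρC i))) gC) (mem_C1.2 ?_)))
  rw [ab.commA a1 ga, commutatorElement_def, inv_eq_of_sq (ab.sqA _ a1), mul_left_inj] at eb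
  calc a * ((b * ρ ^ i)⁻¹ * g) = (b * ρ ^ i)⁻¹ * (b * (ρ ^ i * a * (ρ ^ i)⁻¹) * b⁻¹) * g := by group
    _ = _ := by rw [eb]; group

end Cfsg.Lib.HM
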