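import Cfsg.Agent.HM.St

/-! The centraliser of `ρ` in the automorphism group of `J`. -/

set_option autoImplicit false

open scoped commutatorElement MatrixGroups

namespace Cfsg.Lib.HM

open Cfsg Subgroup
open Cfsg.Lib.Trans (cj IsSylowIn)
open Cfsg.Lib.Gold (Ns Cs C1)
open Cfsg.Lib.Gomi (AB)
open MulAut (conj)

universe u

namespace JCAux

theorem mem4 {α : Type*} (h : Nat.card α = 4) {a b c d : α} (h1 : a ≠ b) (h2 : a ≠ c) (h3 : a ≠ d)
    (h4 : b ≠ c) (h5 : b ≠ d) (h6 : c ≠ d) (x : α) : x = a ∨ x = b ∨ x = c ∨ x = d := by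
  classical
  have : Finite α := Nat.finite_of_card_ne_zero (by omega)
  have := Fintype.ofFinite α
  have e : ({a, b, c, d} : Finset α) = Finset.univ := Finset.eq_univ_of_card _ (by
    rw [← Nat.card_eq_fintype_card, h, Finset.card_insert_of_notMem (by simp [*]),
      Finset.card_insert_of_notMem (by simp [*]), Finset.card_pair h6])
  simpa using e.ge (Finset.mem_univ x)

variable {G : Type*} [Group G] {A B Z : Subgroup G} {ρ τ σ a b g : G}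

theorem sub4 (h : Nat.card Z = 4) {a b c x : G} (ha : a ∈ Z) (hb : b ∈ Z) (hc : c ∈ Z)
    (h1 : a ≠ 1) (h2 : b ≠ 1) (h3 : c ≠ 1) (h4 : a ≠ b) (h5 : a ≠ c) (h6 : b ≠ c) (hx : x ∈ Z) :
    x = 1 ∨ x = a ∨ x = b ∨ x = c := by
  simpa [Subtype.ext_iff] using mem4 h (a := 1) (b := ⟨a, ha⟩) (c := ⟨b, hb⟩) (d := ⟨c, hc⟩)
    (by simpa [Subtype.ext_iff] using h1.symm) (by simpa [Subtype.ext_iff] using h2.symm)
    (by simpa [Subtype.ext_iff] using h3.symm) (by simpa [Subtype.ext_iff] using h4)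
    (by simpa [Subtype.ext_iff] using h5) (by simpa [Subtype.ext_iff] using h6) ⟨x, hx⟩

theorem cos4 (h : Nat.card A = 16) (h' : Nat.card ↥(A ⊓ B) = 4) {a b c x : G} (ha : a ∈ A)
    (hb : b ∈ A) (hc : c ∈ A) (h1 : a ∉ B) (h2 : b ∉ B) (h3 : c ∉ B) (h4 : a⁻¹ * b ∉ B)
    (h5 : a⁻¹ * c ∉ B) (h6 : b⁻¹ * c ∉ B) (hx : x ∈ A) :
    x ∈ B ∨ a⁻¹ * x ∈ B ∨ b⁻¹ * x ∈ B ∨ c⁻¹ * x ∈ B := by
  have e := (B.subgroupOf A).card_eq_card_quotient_mul_card_subgroup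
  rw [h, ← inf_subgroupOf_left, Nat.card_congr (subgroupOfEquivOfLe inf_le_left).toEquiv, h',
    inf_subgroupOf_left] at e
  have := mem4 (α := A ⧸ B.subgroupOf A) (by omega) (a := ((1 : A) : _)) (b := ((⟨a, ha⟩ : A) : _))
    (c := ((⟨b, hb⟩ : A) : _)) (d := ((⟨c, hc⟩ : A) : _))
    (by simpa [QuotientGroup.eq, mem_subgroupOf] using h1)
    (by simpa [QuotientGroup.eq, mem_subgroupOf] using h2)
    (by simpa [QuotientGroup.eq, mem_subgroupOf] using h3)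
    (by simpa [QuotientGroup.eq, mem_subgroupOf] using h4)
    (by simpa [QuotientGroup.eq, mem_subgroupOf] using h5)
    (by simpa [QuotientGroup.eq, mem_subgroupOf] using h6) ((⟨x, hx⟩ : A) : _)
  simpa [eq_comm, QuotientGroup.eq, mem_subgroupOf] using this

theorem cm (h : g ∈ Ns A) : conj g a ∈ A ↔ a ∈ A := (mem_normalizer_iff.1 h a).symm

theorem fx : conj g a = a ↔ g * a = a * g := mul_inv_eq_iff_eq_mul

theorem conj_mul' (g h a : G) : conj (g * h) a = conj g (conj h a) := by rw [map_mul]; rfl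

/-- One half of the configuration. -/
structure Hf (A B : Subgroup G) (ρ a : G) : Prop where
  ab : AB A B
  cA : Nat.card A = 16
  cZ : Nat.card ↥(A ⊓ B) = 4
  r3 : ∀ g, conj ρ (conj ρ (conj ρ g)) = g
  nA : ρ ∈ Ns A
  nB : ρ ∈ Ns B
  rZ : ∀ w ∈ A ⊓ B, conj ρ w = w
  fpf : ∀ a ∈ A, a⁻¹ * conj ρ a ∈ B → a ∈ B
  aA : a ∈ A
  aB : a ∉ B
  tr : conj ρ (conj ρ a) = a * conj ρ a

theorem inv_eq (h : AB A B) (ha : a ∈ A) : a⁻¹ = a := inv_eq_of_mul_eq_one_right (h.sqA a ha)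

theorem exists_hf (ab : AB A B) (cA : Nat.card A = 16) (cZ : Nat.card ↥(A ⊓ B) = 4)
    (r3 : ρ ^ 3 = 1) (nA : ρ ∈ Ns A) (nB : ρ ∈ Ns B) (rZ : ρ ∈ Cs (A ⊓ B))
    (fpf : ∀ j ∈ A, ⁅ρ, j⁆ ∈ A ⊓ B → j ∈ A ⊓ B) : ∃ a, Hf A B ρ a := by
  obtain ⟨a, ha, hb⟩ := ab.exists_A
  have r : ∀ g, conj ρ (conj ρ (conj ρ g)) = g := fun g => by
    rw [← conj_mul', ← conj_mul', ← pow_three', r3, map_one]; rfl
  have f : ∀ a ∈ A, a⁻¹ * conj ρ a ∈ B → a ∈ B := fun a ha k => by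
    have h1 := (cm nA).2 ha
    refine (fpf a ha ?_).2
    rw [ab.commA (inv_mem ha) h1] at k
    exact ⟨A.mul_mem h1 (inv_mem ha), k⟩
  have h1 := (cm nA).2 ha
  have h2 := (cm nA).2 h1
  refine ⟨a * conj ρ a, ab, cA, cZ, r, nA, nB, fun w hw => fx.2 (mem_centralizer_iff.1 rZ w hw).symm,
    f, mul_mem ha h1, fun k => hb (f a ha (by rwa [inv_eq ab ha])), ?_⟩
  simp only [map_mul, r]
  rw [mul_assoc, ← mul_assoc (conj ρ a), ab.sqA _ h1, one_mul, ab.commA h2 ha]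

namespace Hf

variable (h : Hf A B ρ a)
include h

theorem a1 : conj ρ a ∈ A := (cm h.nA).2 h.aA
theorem a2 : conj ρ (conj ρ a) ∈ A := (cm h.nA).2 h.a1
theorem b1 : conj ρ a ∉ B := mt (cm h.nB).1 h.aB
theorem b2 : conj ρ (conj ρ a) ∉ B := mt (cm h.nB).1 h.b1

theorem rot : Hf A B ρ (conj ρ a) :=
  { h with aA := h.a1, aB := h.b1, tr := by rw [← map_mul, ← h.tr] }

theorem dec (hg : g ∈ A) : ∃ w ∈ A ⊓ B, g = w ∨ g = a * w ∨ g = conj ρ a * w ∨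
    g = conj ρ (conj ρ a) * w := by
  have k := cos4 h.cA h.cZ h.aA h.a1 h.a2 h.aB h.b1 h.b2 (mt (h.fpf _ h.aA) h.aB)
    (by rw [h.tr, inv_mul_cancel_left]; exact h.b1) (mt (h.fpf _ h.a1) h.b1) hg
  rcases k with k | k | k | k
  · exact ⟨g, ⟨hg, k⟩, .inl rfl⟩
  · exact ⟨_, ⟨A.mul_mem (inv_mem h.aA) hg, k⟩, by simp⟩
  · exact ⟨_, ⟨A.mul_mem (inv_mem h.a1) hg, k⟩, by simp only [mul_inv_cancel_left, true_or, or_true]⟩
  · exact ⟨_, ⟨A.mul_mem (inv_mem h.a2) hg, k⟩, by simp only [mul_inv_cancel_left, or_true]⟩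

theorem one {w : G} (hw : w ∈ A ⊓ B) (e : conj ρ (conj ρ (a * w)) = a * w * conj ρ (a * w)) :
    w = 1 := by
  simp only [map_mul, h.rZ w hw] at e
  rw [h.tr, mul_assoc a w, ← mul_assoc w, h.ab.commA hw.1 h.a1, mul_assoc _ w, h.ab.sqA w hw.1,
    mul_one] at e
  exact mul_eq_left.1 e

theorem tri {c : G} (k : Hf A B ρ c) : c = a ∨ c = conj ρ a ∨ c = conj ρ (conj ρ a) := by
  obtain ⟨w, hw, e | e | e | e⟩ := h.dec k.aA
  · exact (k.aB (e ▸ hw.2)).elim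
  · rw [e, h.one hw (e ▸ k.tr)]; simp
  · rw [e, h.rot.one hw (e ▸ k.tr)]; simp only [mul_one, true_or, or_true]
  · rw [e, h.rot.rot.one hw (e ▸ k.tr)]; simp only [mul_one, or_true]

end Hf

/-- The elements that commute with `ρ` on `A B`. -/
def KK (A B : Subgroup G) (ρ : G) : Subgroup G where
  carrier := {τ | τ ∈ Ns A ∧ τ ∈ Ns B ∧ ∀ j ∈ A ⊔ B, conj τ (conj ρ j) = conj ρ (conj τ j)}
  one_mem' := ⟨one_mem _, one_mem _, fun _ _ => by simp⟩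
  mul_mem' := fun ⟨a, b, c⟩ ⟨d, e, f⟩ => ⟨mul_mem a d, mul_mem b e, fun j hj => by
    rw [conj_mul', conj_mul', f j hj, c _ ((cm (Gold.mem_Ns_sup d e)).2 hj)]⟩
  inv_mem' := fun {τ} ⟨a, b, c⟩ => ⟨inv_mem a, inv_mem b, fun j hj => (conj τ).injective (by
    rw [c _ ((cm (inv_mem (Gold.mem_Ns_sup a b))).2 hj)]; simp [mul_assoc])⟩

theorem KK_eq_1' : type_of% @KK.eq_1 := @KK.eq_1

theorem mem_KK (h1 : ρ ∈ Ns (A ⊔ B)) (h2 : τ ∈ Ns A) (h3 : τ ∈ Ns B) :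
    τ ∈ KK A B ρ ↔ ⁅τ, ρ⁆ ∈ Cs (A ⊔ B) := by
  have n := mul_mem h1 (Gold.mem_Ns_sup h2 h3)
  have e : ∀ j, conj ⁅τ, ρ⁆ (conj (ρ * τ) j) = conj τ (conj ρ j) := fun j => by
    simp [commutatorElement_def, mul_assoc]
  constructor
  · refine fun k => mem_centralizer_iff.2 fun j hj => (fx.1 ?_).symm
    obtain ⟨j, rfl⟩ := (conj (ρ * τ)).surjective j
    rw [e, k.2.2 j ((cm n).1 hj), conj_mul']
  · refine fun k => ⟨h2, h3, fun j hj => ?_⟩
    rw [← e, fx.2 (mem_centralizer_iff.1 k _ ((cm n).2 hj)).symm, conj_mul']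

theorem KK_symm (k : τ ∈ KK A B ρ) : τ ∈ KK B A ρ := ⟨k.2.1, k.1, sup_comm A B ▸ k.2.2⟩

namespace Hf

variable (h : Hf A B ρ a)
include h

theorem rK : ρ ∈ KK A B ρ := ⟨h.nA, h.nB, fun _ _ => rfl⟩

theorem act (k : τ ∈ KK A B ρ) : Hf A B ρ (conj τ a) :=
  { h with
    aA := (cm k.1).2 h.aA
    aB := mt (cm k.2.1).1 h.aB
    tr := by
      rw [← k.2.2 _ (mem_sup_left h.aA), ← k.2.2 _ (mem_sup_left h.a1), ← map_mul, ← h.tr] }

theorem back (k : τ ∈ KK A B ρ) (e : conj τ (conj ρ a) = conj ρ a) : conj τ a = a :=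
  (conj ρ).injective (by rw [← k.2.2 _ (mem_sup_left h.aA), e])

theorem fwd (k : τ ∈ KK A B ρ) (e : conj τ a = a) : conj τ (conj ρ a) = conj ρ a := by
  rw [k.2.2 _ (mem_sup_left h.aA), e]

/-- The orbit under a non-trivial element. -/
theorem orb (k : τ ∈ KK A B ρ) (n : conj τ a ≠ a) : conj τ (conj τ (conj τ a)) = a ∧
    ∀ c, Hf A B ρ c → c = a ∨ c = conj τ a ∨ c = conj τ (conj τ a) := by
  have e1 := k.2.2 _ (mem_sup_left h.aA)
  have e2 := k.2.2 _ (mem_sup_left h.a1)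
  rcases h.tri (h.act k) with e | e | e
  · exact (n e).elim
  · rw [e] at e1
    rw [e1] at e2
    rw [e, e1, e2]
    exact ⟨h.r3 a, fun c hc => h.tri hc⟩
  · rw [e, h.r3] at e1
    rw [e1] at e2
    rw [e, e2, e1]
    exact ⟨rfl, fun c hc => (h.tri hc).imp_right Or.symm⟩

theorem adj (k : τ ∈ KK A B ρ) (n : conj τ a ≠ a) (l : σ ∈ KK A B ρ) :
    ∃ t ∈ zpowers τ, conj (t * σ) a = a := by
  rcases (h.orb k n).2 _ (h.act l) with e | e | e
  · exact ⟨1, one_mem _, by rwa [one_mul]⟩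
  · exact ⟨τ⁻¹, inv_mem (mem_zpowers _), by rw [conj_mul', e]; simp [mul_assoc]⟩
  · exact ⟨τ⁻¹ * τ⁻¹, mul_mem (inv_mem (mem_zpowers _)) (inv_mem (mem_zpowers _)), by
      rw [conj_mul', e]; simp [mul_assoc]⟩

theorem ne : conj ρ a ≠ a := fun e => h.aB (h.fpf a h.aA (by rw [e, inv_mul_cancel]; exact one_mem _))

theorem dec' (k : τ ∈ KK A B ρ) (e : conj τ a = a) (hg : g ∈ A) :
    ∃ x ∈ A, ∃ w ∈ A ⊓ B, conj τ x = x ∧ g = x * w := by
  obtain ⟨w, hw, r | r | r | r⟩ := h.dec hg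
  · exact ⟨1, one_mem _, w, hw, map_one _, by rwa [one_mul]⟩
  · exact ⟨_, h.aA, w, hw, e, r⟩
  · exact ⟨_, h.a1, w, hw, h.fwd k e, r⟩
  · exact ⟨_, h.a2, w, hw, h.rot.fwd k (h.fwd k e), r⟩

theorem cent (h' : Hf B A ρ b) (com : A ⊓ B ≤ ⁅A, B⁆) (k : τ ∈ KK A B ρ) (e : conj τ a = a)
    (e' : conj τ b = b) : τ ∈ Cs (A ⊔ B) := by
  have m : ∀ {x}, x ∈ C1 τ ↔ conj τ x = x := fun {x} => by rw [Gold.mem_C1, fx, eq_comm]
  have z : A ⊓ B ≤ C1 τ := com.trans (commutator_le.2 fun x hx y hy => by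
    obtain ⟨x, hx', w, hw, r, rfl⟩ := h.dec' k e hx
    obtain ⟨y, -, v, hv, s, rfl⟩ := h'.dec' (KK_symm k) e' hy
    have c : ⁅x * w, y * v⁆ = ⁅x, y⁆ := by
      have p := h.ab.comm_Z (mem_sup_right hy) hw
      have q := h.ab.comm_Z (mem_sup_left hx') ⟨hv.2, hv.1⟩
      calc ⁅x * w, y * v⁆ = x * (w * (y * v)) * w⁻¹ * (v * x)⁻¹ * y⁻¹ := by
            simp [commutatorElement_def, mul_assoc]
        _ = _ := by rw [p, q]; simp [commutatorElement_def, mul_assoc]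
    rw [c, m, map_commutatorElement, r, s])
  refine mem_centralizer_iff.2 fun j hj => Gold.mem_C1.1
    ((sup_le (fun x hx => ?_) fun x hx => ?_ : A ⊔ B ≤ C1 τ) hj)
  · obtain ⟨x, -, w, hw, r, rfl⟩ := h.dec' k e hx
    exact mul_mem (m.2 r) (z hw)
  · obtain ⟨x, -, w, hw, r, rfl⟩ := h'.dec' (KK_symm k) e' hx
    exact mul_mem (m.2 r) (z ⟨hw.2, hw.1⟩)

theorem fpf' (h' : Hf B A ρ b) (k : τ ∈ KK A B ρ) (n : conj τ a ≠ a) (e' : conj τ b = b)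
    (hg : g ∈ A) (e : conj τ g = g) : g = 1 := by
  have o := (h.orb k n).1
  have hB : g ∈ B := by
    by_contra c
    have g1 := (cm h.nA).2 hg
    have f : Hf A B ρ (g * conj ρ g) :=
      { h with
        aA := mul_mem hg g1
        aB := fun k => c (h.fpf g hg (by rwa [inv_eq h.ab hg]))
        tr := by
          simp only [map_mul, h.r3]
          rw [mul_assoc, ← mul_assoc (conj ρ g), h.ab.sqA _ g1, one_mul,
            h.ab.commA ((cm h.nA).2 g1) hg] }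
    have r : conj τ (g * conj ρ g) = g * conj ρ g := by
      rw [map_mul, k.2.2 _ (mem_sup_left hg), e]
    rcases h.tri f with s | s | s <;> rw [s] at r
    exacts [n r, n (h.back k r), n (h.back k (h.rot.back k r))]
  have u0 := h.ab.comm_mem h.aA h'.aA
  have nZ := Gold.mem_Ns_inf k.1 k.2.1
  have u1 := (cm nZ).2 u0
  have c : ∀ x ∈ A, ⁅x, b⁆ = 1 → x ∈ B := fun x hx r =>
    (h.ab.mem_or_mem hx h'.aA (commutatorElement_eq_one_iff_mul_comm.1 r)).resolve_right h'.aB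
  have n0 : ⁅a, b⁆ ≠ 1 := mt (c _ h.aA) h.aB
  have n1 : conj τ ⁅a, b⁆ ≠ ⁅a, b⁆ := fun r => by
    have t := h.act k
    have : a⁻¹ * conj τ a ∈ B := c _ (mul_mem (inv_mem h.aA) t.aA) (by
      rw [map_commutatorElement, e'] at r
      calc ⁅a⁻¹ * conj τ a, b⁆ = a⁻¹ * (⁅conj τ a, b⁆ * ⁅a, b⁆⁻¹) * a := by
            simp [commutatorElement_def, mul_assoc]
        _ = 1 := by rw [r, mul_inv_cancel]; simp)
    rcases h.tri t with s | s | s
    · exact n s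
    · exact h.aB (h.fpf a h.aA (s ▸ this))
    · rw [s, h.tr, inv_mul_cancel_left] at this
      exact h.b1 this
  have n3 : conj τ (conj τ (conj τ ⁅a, b⁆)) = ⁅a, b⁆ := by
    simp only [map_commutatorElement, e', o]
  have i := (conj τ).injective
  rcases sub4 h.cZ u0 u1 ((cm nZ).2 u1) n0 (fun r => n0 (i (r.trans (map_one _).symm)))
    (fun r => n0 (i (i (by rw [r, map_one, map_one])))) n1.symm
    (fun r => n1 (by rw [← r] at n3; exact n3)) (fun r => n1 (i r).symm) ⟨hg, hB⟩ with s | s | s | s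
  · exact s
  · exact (n1 (s ▸ e)).elim
  · exact (n1 (i (s ▸ e))).elim
  · exact (n1 (i (i (s ▸ e)))).elim

end Hf

end JCAux

open JCAux in
theorem st_JC : St_JC.{u} := by
  intro G _ _ S A A' M x z ρ m σ hσ n c
  have ab := m.jc.js.ab
  have cB : Nat.card A' = 16 := by rw [← m.jc.js.yA, Trans.card_cj, m.jc.cA]
  obtain ⟨a, h⟩ := exists_hf ab m.jc.cA m.jc.cZ m.ρ3 m.ρA.1 m.ρA.2 m.ρZ
    fun j hj => m.fpf j (mem_sup_left hj)
  obtain ⟨b, h'⟩ := exists_hf ab.symm cB (inf_comm A A' ▸ m.jc.cZ) m.ρ3 m.ρA.2 m.ρA.1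
    (inf_comm A A' ▸ m.ρZ) fun j hj => inf_comm A A' ▸ m.fpf j (mem_sup_right hj)
  have nJ := Gold.mem_Ns_sup h.nA h.nB
  have K : zpowers ρ ≤ KK A A' ρ := zpowers_le.2 h.rK
  have k := (mem_KK nJ hσ.1 hσ.2).2 c
  obtain ⟨t, ht, e⟩ := h'.adj h'.rK h'.ne (KK_symm k)
  have l := mul_mem (K ht) k
  have s : t * σ ∈ zpowers ρ ⊔ zpowers σ := mul_mem_sup ht (mem_zpowers σ)
  have n' : conj (t * σ) a ≠ a := fun r => n (by
    have z1 := mem_centralizer_iff.1 (h.cent h' m.jc.com l r e) z (mem_sup_left m.jc.zZ.1)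
    have z2 := mem_centralizer_iff.1 (zpowers_le.2 m.ρZ ht) z m.jc.zZ
    rw [← mul_assoc, z2, mul_assoc, mul_assoc, mul_right_inj] at z1
    rw [← z1, mul_inv_cancel_right])
  have p3 : ∀ g, conj ((t * σ) ^ 3) g = conj (t * σ) (conj (t * σ) (conj (t * σ) g)) := fun g => by
    rw [pow_three, conj_mul' (t * σ), conj_mul' (t * σ)]
  refine ⟨fun τ hτ d => ?_, t * σ, s, fun y hy => ?_, fun g hg r => h.fpf' h' l n' e hg (fx.2 r),
    h.cent h' m.jc.com (pow_mem l 3) (by rw [p3, (h.orb l n').1]) (by rw [p3, e, e, e]),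
    (mem_KK nJ l.1 l.2.1).1 l⟩
  · have k' := (mem_KK nJ hτ.1 hτ.2).2 d
    obtain ⟨u, hu, e1⟩ := h'.adj h'.rK h'.ne (KK_symm k')
    have l' := mul_mem (K hu) k'
    obtain ⟨v, hv, e2⟩ := h.adj l n' l'
    have e3 : conj v b = b := fx.2 (Gold.mem_C1.1 (zpowers_le.2 (Gold.mem_C1.2 (fx.1 e)) hv))
    have := h.cent h' m.jc.com (mul_mem (zpowers_le.2 l hv) l') e2 (by rw [conj_mul', e1, e3])
    rw [show τ = (v * u)⁻¹ * (v * (u * τ)) by group]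
    exact mul_mem_sup (inv_mem (mul_mem (zpowers_le.2 s hv) (mem_sup_left hu))) this
  · obtain ⟨y, hy', w, hw, r, rfl⟩ := h'.dec' (KK_symm l) e hy
    have : ⁅t * σ, y * w⁆ = conj (t * σ) (y * w) * (y * w)⁻¹ := by
      simp [commutatorElement_def, mul_assoc]
    rw [this, map_mul, r, mul_inv_rev, mul_assoc, ← mul_assoc (conj _ w), ← mul_assoc]
    exact (mem_normalizer_iff.1 (ab.nA hy') _).1 (mul_mem ((cm l.1).2 hw.2) (inv_mem hw.2))

end Cfsg.Lib.HM
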