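import Cfsg.Agent.HM.J0

/-! Self-centralising subgroups outside `J`. -/

set_option autoImplicit false

open scoped commutatorElement MatrixGroups

namespace Cfsg.Lib.HM

open Cfsg Subgroup
open Cfsg.Lib.Trans (cj IsSylowIn)
open Cfsg.Lib.Gold (Ns Cs C1)
open Cfsg.Lib.Gomi (AB)

universe u

theorem st_JE : St_JE.{u} := by
  intro G _ _ S A A' R x z h P hP hc hn g hg
  obtain ⟨t, ht, htJ⟩ := SetLike.not_le_iff_exists.1 hn
  have zP : z ∈ P := hc (mem_inf.2 ⟨h.js.le (mem_sup_left h.zZ.1), fun p hp => h.zS (hP hp)⟩)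
  have vP : g * z * g⁻¹ ∈ P := Trans.mem_normalizer_conj hg zP
  have vc : ∀ p ∈ P, p * (g * z * g⁻¹) = g * z * g⁻¹ * p := fun p hp => by
    have := h.zS (hP (Trans.mem_normalizer_conj' hg hp))
    calc p * (g * z * g⁻¹) = g * (g⁻¹ * p * g * z) * g⁻¹ := by group
      _ = _ := by rw [this]; group
  have v2 : g * z * g⁻¹ * (g * z * g⁻¹) = 1 := by rw [conj_mul, h.zz]; simp
  have v1 : g * z * g⁻¹ ≠ 1 := fun e => h.z1 (by simpa using e)
  have key : ∀ p ∈ P, p * p = z → g * z * g⁻¹ ∈ A ⊔ A' := fun p hp e => by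
    rw [← e, ← conj_mul]
    exact h.sqJ (hP (Trans.mem_normalizer_conj hg hp))
  by_cases vJ : g * z * g⁻¹ ∈ A ⊔ A'
  · have := (h.inv_out (hP ht) htJ vJ v2 (vc t ht)).resolve_left v1
    exact mem_centralizer_singleton_iff.2 (mul_inv_eq_iff_eq_mul.1 this)
  exfalso
  generalize g * z * g⁻¹ = v at *
  have vS := hP vP
  have vi := J0.inv_of v2
  have pJ : ∀ p ∈ P, p ∈ A ⊔ A' → p = 1 ∨ p = z := fun p hp hJ => by
    refine h.inv_out vS vJ hJ ?_ (vc p hp).symm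
    refine (h.fixo vS vJ (h.ab.sq_mem hJ) (vc _ (mul_mem hp hp)).symm).resolve_right fun e => ?_
    exact vJ (key p hp e)
  obtain ⟨a, ha, ha'⟩ := h.ab.exists_A
  obtain ⟨ζ, hζ, ζ1, ζz⟩ := h.exists_ζ
  have vv : ∀ y, v * (v * y * v⁻¹) * v⁻¹ = y := fun y => by
    rw [← mul_assoc, ← mul_assoc, v2, one_mul, mul_assoc, ← mul_inv_rev, v2, inv_one, mul_one]
  have hb := h.outA vS vJ ha
  have hb' : v * a * v⁻¹ ∉ A := fun e => ha' (vv a ▸ h.outA vS vJ e)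
  have dJ : a * (v * a * v⁻¹) ∈ A ⊔ A' := mul_mem (mem_sup_left ha) (mem_sup_right hb)
  have di : v * (a * (v * a * v⁻¹)) * v⁻¹ = (a * (v * a * v⁻¹))⁻¹ := by
    rw [← conj_mul, vv, mul_inv_rev a, J0.inv_of (h.ab.sqA a ha), J0.inv_of (h.ab.sqB _ hb)]
  have d1 : a * (v * a * v⁻¹) * (a * (v * a * v⁻¹)) ≠ 1 := by
    rw [h.ab.mul_sq ha hb]
    exact J0.cm_ne h.ab ha ha' hb hb'
  generalize a * (v * a * v⁻¹) = d at *
  have dZ := h.ab.sq_mem dJ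
  have d2 : d * d = z := (h.fixo vS vJ dZ (mul_inv_eq_iff_eq_mul.1 (by
    rw [← conj_mul, di, ← mul_inv_rev, J0.inv_of (J0.zz h.ab dZ)]))).resolve_left d1
  have c1 := h.ab.comm_Z dJ hζ
  have eJ : d * ζ ∈ A ⊔ A' := mul_mem dJ (mem_sup_left hζ.1)
  have ev : v * (d * ζ) = d * ζ * v := mul_inv_eq_iff_eq_mul.1 (by
    rw [← conj_mul, di, h.outZ vS vJ hζ, h.conjZ hζ ζ1 ζz, ← d2, ← mul_assoc ζ, c1]
    calc d⁻¹ * (d * ζ * d) = ζ * d := by group
      _ = _ := c1)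
  have ez := h.ab.comm_Z eJ h.zZ
  refine vJ (key (d * ζ) (hc (mem_inf.2 ⟨h.js.le eJ, fun p hp => ?_⟩)) ?_)
  · by_cases hJ : p ∈ A ⊔ A'
    · rcases pJ p hp hJ with rfl | rfl
      exacts [by simp, ez]
    · have e : p = v * (v * p) := by rw [← mul_assoc, v2, one_mul]
      have c : Commute v (d * ζ) := ev
      rcases pJ _ (mul_mem vP hp) (h.mul_out vS vJ (hP hp) hJ) with e' | e' <;> rw [e, e']
      exacts [by rw [mul_one, ev], (c.mul_left ez).eq]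
  · rw [mul_assoc, ← mul_assoc ζ, c1, mul_assoc, J0.zz h.ab hζ, mul_one, d2]

end Cfsg.Lib.HM
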