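import Cfsg.Agent.HM.JT

/-! The automorphisms of `J` are determined. -/

set_option autoImplicit false

open scoped commutatorElement MatrixGroups

namespace Cfsg.Lib.HM

open Cfsg Subgroup
open Cfsg.Lib.Fus hiding cj IsSylowIn
open Cfsg.Lib.Trans (cj IsSylowIn)
open Cfsg.Lib.Gold (Ns Cs C1 mem_C1 mem_Cs mem_Ns_iff)
open Cfsg.Lib.Gomi (AB)

universe u

open JTAux

namespace JJAux

variable {Γ : Type u} [Group Γ] {S : Subgroup Γ} {F : FusionSystem S} {A A' M P : Subgroup Γ}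
  {x z ρ g m : Γ}

theorem cs (hP : P ≤ S) : Cs P ≤ NF F P := fun _ hg =>
  (mem_NF hP).2 ⟨Gold.Cs_le_Ns hg, R.of_cent F hP hg⟩

theorem nJ (hg : g ∈ Ns A ⊓ Ns A') : g ∈ Ns (A ⊔ A') :=
  mem_Ns_iff.2 (by rw [Trans.cj_sup, mem_Ns_iff.1 hg.1, mem_Ns_iff.1 hg.2])

variable (h : JM S A A' M x z ρ)
include h

theorem sJ [Finite Γ] : S ≤ NF F (A ⊔ A') := fun _ hs => (mem_NF (leJ h)).2
  ⟨mem_normalizer_fintype fun _ hj => h.jc.sJ hs hj, R.of_mem F (leJ h) hs⟩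

theorem mN (k : J3s F A M z) (hP : P ≤ S) (hm : m ∈ M) (hn : m ∈ Ns P) : m ∈ NF F P :=
  (mem_NF hP).2 ⟨hn, mor h k hm hP ((mem_Ns_iff.1 hn).le.trans hP)⟩

theorem ρJ (k : J3s F A M z) : ρ ∈ NF F (A ⊔ A') := mN h k (leJ h) h.ρM (nJ h.ρA)

end JJAux

open JJAux

theorem st_JJ (hJS : St_JS.{u}) (hJC : St_JC.{u}) : St_JJ.{u} := by
  intro Γ _ _ S F N A A' M x z ρ h k k'
  obtain ⟨σ, s1, -, s3, s4⟩ := hJS h k
  obtain ⟨τ, t1, t2, t3, -⟩ := hJS h k'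
  have n : ∀ {E : FusionSystem S} {g : Γ}, g ∈ Ns A ⊓ NF E (A ⊔ A') → g ∈ Ns A ⊓ Ns A' := fun hg =>
    ⟨hg.1, h.jc.ab.Ns_inf_le ⟨NF_le _ _ hg.2, hg.1⟩⟩
  have a := zpowers_le.2 (ρJ h k')
  exact s4.trans (sup_le (sup_le (sup_le (sJ h) a) (zpowers_le.2 (sup_le (sup_le a (zpowers_le.2 t1.2))
    (cs (leJ h)) ((hJC h τ (n t1) t2 t3).1 σ (n s1) s3)))) (cs (leJ h)))

end Cfsg.Lib.HM
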