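import Cfsg.Agent.HM.J0

/-! The element of order three. -/

set_option autoImplicit false

open scoped commutatorElement MatrixGroups

namespace Cfsg.Lib.HM

open Cfsg Subgroup
open Cfsg.Lib.Trans (cj IsSylowIn)
open Cfsg.Lib.Gold (Ns Cs C1)
open Cfsg.Lib.Gomi (AB)

universe u

namespace JMAux

open Equiv

theorem tab {V : Subgroup (Perm (Fin 5))} (h : IsSylowIn 2 V (alternatingGroup (Fin 5)))
    (h4 : Nat.card V = 4) : ∃ r ∈ alternatingGroup (Fin 5), r ^ 3 = 1 ∧ r ∈ Ns V ∧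
      ∀ σ ∈ V, r * σ = σ * r → σ = 1 := by
  have : Fact (Nat.Prime 2) := ⟨Nat.prime_two⟩
  let V₀ : Subgroup (Perm (Fin 5)) :=
    { carrier := {σ | σ = 1 ∨ σ = swap 0 1 * swap 2 3 ∨ σ = swap 0 2 * swap 1 3 ∨
        σ = swap 0 3 * swap 1 2}
      one_mem' := .inl rfl
      mul_mem' := by
        rintro _ _ (rfl | rfl | rfl | rfl) (rfl | rfl | rfl | rfl) <;>
          simp only [Set.mem_ofPred_eq] <;> decide
      inv_mem' := by
        rintro _ (rfl | rfl | rfl | rfl) <;> simp only [Set.mem_ofPred_eq] <;> decide }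
  have c : Nat.card V₀ = 4 := by
    change Nat.card ({1, swap 0 1 * swap 2 3, swap 0 2 * swap 1 3, swap 0 3 * swap 1 2} :
      Set (Perm (Fin 5))) = 4
    rw [Nat.card_coe_set_eq, Set.ncard_insert_of_notMem (by
      simp only [Set.mem_insert_iff, Set.mem_singleton_iff]; decide),
      Set.ncard_insert_of_notMem (by simp only [Set.mem_insert_iff, Set.mem_singleton_iff]; decide),
      Set.ncard_pair (by decide)]
  obtain ⟨g, hg, e⟩ := h.exists_cj_le (Q := V₀) (.of_card (n := 2) c) (by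
    rintro _ (rfl | rfl | rfl | rfl) <;> rw [Perm.mem_alternatingGroup] <;> decide)
  obtain rfl := eq_of_le_of_card_ge e (by rw [Trans.card_cj, c, h4])
  refine ⟨g * (swap 0 1 * swap 1 2) * g⁻¹, mul_mem (mul_mem hg (by
    rw [Perm.mem_alternatingGroup]; decide)) (inv_mem hg), by
      rw [conj_pow, show (swap 0 1 * swap 1 2 : Perm (Fin 5)) ^ 3 = 1 by decide]; simp, ?_, ?_⟩
  · rw [Ns, ← Trans.cj_normalizer, Trans.conj_mem_cj]
    refine Trans.mem_normalizer_of_cj_le (Trans.cj_le_iff.2 ?_)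
    rintro _ (rfl | rfl | rfl | rfl) <;> change _ ∨ _ ∨ _ ∨ _ <;> decide
  · rintro _ ⟨σ, hσ, rfl⟩ e
    rw [← map_one (MulAut.conj g).toMonoidHom]
    have e : swap 0 1 * swap 1 2 * σ = σ * (swap 0 1 * swap 1 2) :=
      (MulAut.conj g).injective (by rw [map_mul, map_mul (MulAut.conj g) σ]; exact e)
    congr 1
    revert e
    rcases hσ with rfl | rfl | rfl | rfl <;> decide

end JMAux

open JMAux

theorem st_JM (hJR : St_JR.{u}) (hJPi : St_JPi.{u}) : St_JM.{u} := by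
  intro G _ _ S A A' M x z h syl chp cz hn
  have : Fact (Nat.Prime 2) := ⟨Nat.prime_two⟩
  have : Fact (Nat.Prime 3) := ⟨Nat.prime_three⟩
  obtain ⟨π, hk, hr⟩ := hJPi h syl chp cz hn
  obtain ⟨-, c32, c128, -⟩ := hJR h
  have c0 : Nat.card π.ker = 32 := by
    rw [hk, Nat.card_congr (subgroupOfEquivOfLe (Local.pCoreOf_le M)).toEquiv, c32]
  have cM : Nat.card M = 1920 := by
    have := (alternatingGroup (Fin 5)).card_mul_index
    rw [alternatingGroup.index_eq_two, Nat.card_perm, Nat.card_fin,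
      show Nat.factorial 5 = 120 by rfl] at this
    rw [← π.ker.card_mul_index, index_ker, c0, hr]
    omega
  have kS : π.ker ≤ S.subgroupOf M := hk ▸ subgroupOf_mono M h.RS
  have cV : Nat.card ((S.subgroupOf M).map π) = 4 := by
    have a := Trans.card_mul_relIndex kS
    rw [c0, Nat.card_congr (subgroupOfEquivOfLe syl.le).toEquiv, c128, relIndex_ker] at a
    omega
  obtain ⟨r, r1, r3, rn, rf⟩ := tab (by
    rw [← hr, MonoidHom.range_eq_map]; exact syl.subgroupOf_top.map π) cV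
  obtain ⟨m, rfl⟩ := hr.ge r1
  obtain ⟨ρ, ρ3, e⟩ : ∃ ρ : M, ρ ^ 3 = 1 ∧ π ρ = π m := by
    have : (m ^ 3) ^ 32 = 1 := by
      rw [← c0]
      exact orderOf_dvd_iff_pow_eq_one.1 (Subgroup.orderOf_dvd_natCard _ (by
        rw [MonoidHom.mem_ker, map_pow, r3]))
    refine ⟨m ^ 64, ?_, by rw [map_pow, show 64 = 3 * 21 + 1 by rfl, pow_succ, pow_mul, r3]; simp⟩
    rw [← pow_mul, show 64 * 3 = 3 * 32 * 2 by rfl, pow_mul, pow_mul, this, one_pow]
  rw [← e] at rn rf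
  have ρ3' : (ρ : G) ^ 3 = 1 := congrArg Subtype.val ρ3
  have nS : ∀ s ∈ S, ρ * s * (ρ : G)⁻¹ ∈ S := fun s hs => by
    have := Trans.mem_normalizer_conj rn (mem_map_of_mem π (show (⟨s, syl.le hs⟩ : M) ∈
      S.subgroupOf M from hs))
    rw [← map_inv, ← map_mul, ← map_mul, ← mem_comap, comap_map_eq_self kS] at this
    exact this
  have wk : ∀ B : Subgroup G, B ≤ A ⊔ A' → (∀ b ∈ B, b * b = 1) → Nat.card B = 16 →
      cj (ρ : G) B ≤ A ⊔ A' := fun B h1 h2 h3 => by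
    rcases h.js.wk (cj (ρ : G) B) (Trans.cj_le_iff.2 fun b hb => nS b (h.js.le (h1 hb)))
      (AB.sq_cj h2 _) (by rw [Trans.card_cj, h3, h.cA]) with e | e <;> rw [e]
    exacts [le_sup_left, le_sup_right]
  have nJ : (ρ : G) ∈ Ns (A ⊔ A') := Trans.mem_normalizer_of_cj_le (by
    rw [Trans.cj_sup]
    exact sup_le (wk A le_sup_left h.ab.sqA h.cA) (wk A' le_sup_right h.ab.sqB h.cB))
  have nA : (ρ : G) ∈ Ns A := (h.ab.cj_eq_or nJ).resolve_right fun ⟨e1, e2⟩ => h.ab.nle (by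
    have : cj ((ρ : G) * ρ * ρ) A = A' := by rw [Trans.cj_mul, Trans.cj_mul, e1, e2, e1]
    rw [← pow_three', ρ3', Trans.cj_one] at this
    exact this.le)
  have nB : (ρ : G) ∈ Ns A' := h.ab.Ns_inf_le (mem_inf.2 ⟨nJ, nA⟩)
  have ρz : ρ * z * (ρ : G)⁻¹ = z :=
    mul_inv_eq_iff_eq_mul.2 (mem_centralizer_singleton_iff.1 (cz ρ.2))
  have fR : ∀ s ∈ S, ⁅(ρ : G), s⁆ ∈ pCoreOf 2 M → s ∈ pCoreOf 2 M := fun s hs hc => by
    have : ⁅ρ, (⟨s, syl.le hs⟩ : M)⁆ ∈ π.ker := hk ▸ hc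
    rw [MonoidHom.mem_ker, map_commutatorElement, commutatorElement_eq_one_iff_mul_comm] at this
    have : (⟨s, syl.le hs⟩ : M) ∈ π.ker := rf _ (mem_map_of_mem π hs) this
    rwa [hk] at this
  refine ⟨ρ, h, syl, chp, cz, cM, ρ.2, ρ3', mem_inf.2 ⟨nA, nB⟩, fun w hw => ?_, fun j hj hc => ?_, ?_⟩
  · refine (mul_inv_eq_iff_eq_mul.1 ?_).symm
    by_cases w1 : w = 1
    · simp [w1]
    by_cases wz : w = z
    · rw [wz, ρz]
    rcases h.Zc hw w1 wz (mem_inf.2 ⟨Trans.mem_normalizer_conj nA hw.1,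
      Trans.mem_normalizer_conj nB hw.2⟩) with e | e | e | e
    · exact absurd (by simpa using e) w1
    · exact absurd (by simpa using e.trans ρz.symm) wz
    · exact e
    refine absurd ?_ h.z1
    have : w = w * z := by
      calc w = (ρ : G) ^ 3 * w * ((ρ : G) ^ 3)⁻¹ := by rw [ρ3']; simp
        _ = ρ * (ρ * (ρ * w * (ρ : G)⁻¹) * (ρ : G)⁻¹) * (ρ : G)⁻¹ := by rw [pow_three']; group
        _ = _ := by rw [e, ← conj_mul (b := (ρ : G)) (a := w), e, ρz, mul_assoc w, h.zz, mul_one, e]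
    simpa using this
  · obtain ⟨a, ha, b, hb, rfl⟩ := h.ab.mem_sup.1 hj
    have e : ⁅(ρ : G), a * b⁆ = ⁅(ρ : G), a⁆ * (a * ⁅(ρ : G), b⁆ * a⁻¹) := by
      simp only [commutatorElement_def]; group
    have ca : ⁅(ρ : G), a⁆ ∈ A := mul_mem (Trans.mem_normalizer_conj nA ha) (inv_mem ha)
    have cb : ⁅(ρ : G), b⁆ ∈ A' := mul_mem (Trans.mem_normalizer_conj nB hb) (inv_mem hb)
    rw [e] at hc
    have a1 := fR a (h.js.le (mem_sup_left ha)) (h.ZR (mem_inf.2 ⟨ca, (mul_mem_cancel_right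
      (Trans.mem_normalizer_conj (h.ab.nB ha) cb)).1 hc.2⟩))
    have b1 := fR b (h.js.le (mem_sup_right hb)) (h.ZR (mem_inf.2 ⟨(mul_mem_cancel_left ha).1
      ((mul_mem_cancel_right (inv_mem ha)).1 ((mul_mem_cancel_left ca).1 hc.1)), cb⟩))
    exact mul_mem (mem_inf.2 ⟨ha, h.RA (mem_inf.2 ⟨a1, ha⟩)⟩)
      (mem_inf.2 ⟨h.RB (mem_inf.2 ⟨b1, hb⟩), hb⟩)
  · have ne : ¬ A ≤ pCoreOf 2 M := fun l => h.ab.nle fun a ha => h.RA (mem_inf.2 ⟨l ha, ha⟩)
    have le : S ⊔ zpowers (ρ : G) ≤ M ⊓ Ns (A ⊔ A') := sup_le (le_inf syl.le fun s hs =>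
      Trans.mem_normalizer_of_cj_le (Trans.cj_le_iff.2 fun j hj => h.sJ hs hj))
      (zpowers_le.2 (mem_inf.2 ⟨ρ.2, nJ⟩))
    have d1 := card_dvd_of_le (le_sup_left : S ≤ S ⊔ zpowers (ρ : G))
    have d2 := card_dvd_of_le (le_sup_right : zpowers (ρ : G) ≤ S ⊔ zpowers (ρ : G))
    have d3 := card_dvd_of_le le
    have d4 := card_dvd_of_le (inf_le_left : M ⊓ Ns (A ⊔ A') ≤ M)
    rw [Nat.card_zpowers, orderOf_eq_prime ρ3' fun e => ne fun a ha => fR a
      (h.js.le (mem_sup_left ha)) (by rw [e]; simp)] at d2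
    rw [c128] at d1
    rw [cM] at d4
    have d5 : Nat.card ↥(M ⊓ Ns (A ⊔ A')) ≠ 1920 := fun e => ne (le_sup_left.trans
      (Local.le_pCoreOf (h.js.le.trans syl.le) ((eq_of_le_of_card_ge inf_le_left
        (by rw [e, cM])).ge.trans inf_le_right) h.ab.isPGroup))
    refine (eq_of_le_of_card_ge le ?_).ge
    have p := Nat.card_pos (α := ↥(S ⊔ zpowers (ρ : G)))
    obtain ⟨k, hk⟩ := (Nat.Coprime.mul_dvd_of_dvd_of_dvd (by decide) d1 d2).trans d3
    obtain ⟨l, hl⟩ := d4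
    have : k * l = 5 := by rw [hk, mul_assoc] at hl; omega
    have : k ≤ 5 := Nat.le_of_dvd (by decide) ⟨l, this.symm⟩
    interval_cases k <;> omega

end Cfsg.Lib.HM
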