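import Cfsg.Agent.HM.J0
import Cfsg.Agent.GHC.J1

/-! The action on five points. -/

set_option autoImplicit false

open scoped commutatorElement MatrixGroups

namespace Cfsg.Lib.HM

open Cfsg Subgroup
open Cfsg.Lib.Trans (cj IsSylowIn)
open Cfsg.Lib.Gold (Ns Cs C1)
open Cfsg.Lib.Gomi (AB)

universe u

namespace JPiAux

theorem big {H : Type*} [Group H] [Finite H]
    (hN : ∀ N : Subgroup H, N.Normal → IsPGroup 2 N → N = ⊥) (V : Subgroup H)
    (hV : Nat.card V = 4) (h2 : ∀ v ∈ V, v * v = 1) :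
    Nat.card H ≠ 4 ∧ Nat.card H ≠ 12 ∧ Nat.card H ≠ 20 := by
  have pV : IsPGroup 2 V := .of_card (n := 2) hV
  have hi := V.card_mul_index
  rw [hV] at hi
  refine ⟨fun e => ?_, fun e => ?_, fun e => ?_⟩
  · have := hN ⊤ inferInstance (.of_card (n := 2) (by rw [card_top, e]; rfl))
    have k := congrArg (fun T : Subgroup H => Nat.card T) this
    simp only [card_top, card_bot] at k
    omega
  · have k := hN V.normalCore inferInstance (pV.to_le V.normalCore_le)
    have d := card_subgroup_dvd_card (MulAction.toPermHom H (H ⧸ V)).range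
    rw [← index_ker, ← normalCore_eq_ker, k, index_bot, Nat.card_perm, ← index_eq_card, e,
      show V.index = 3 by omega] at d
    exact absurd d (by decide)
  · have : Fact (Nat.Prime 5) := ⟨Nat.prime_five⟩
    have P : Sylow 5 H := default
    have cP : Nat.card P = 5 := by
      rw [P.card_eq_multiplicity, e, show 20 = 5 * 4 by rfl, Nat.factorization_mul (by decide)
        (by decide), Finsupp.add_apply, Nat.prime_five.factorization_self,
        Nat.factorization_eq_zero_of_not_dvd (by decide)]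
      rfl
    have iP := (P : Subgroup H).card_mul_index
    rw [cP] at iP
    have d := P.card_dvd_index
    have m := card_sylow_modEq_one 5 H
    rw [show (P : Subgroup H).index = 4 by omega] at d
    have c1 : Nat.card (Sylow 5 H) = 1 := by
      have := Nat.le_of_dvd (by decide) d
      rw [Nat.ModEq] at m
      omega
    have := (Nat.card_eq_one_iff_unique.1 c1).1
    have := P.normal_of_subsingleton
    have : IsCyclic P := isCyclic_of_prime_card cP
    have : Fact (Nat.card P).Prime := ⟨by rw [cP]; exact Nat.prime_five⟩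
    let φ := ((IsCyclic.mulAutMulEquiv P).toMonoidHom.comp MulAut.conjNormal).comp V.subtype
    have ni : ¬ Function.Injective φ := fun i => by
      have : IsCyclic V := isCyclic_of_surjective _ (MonoidHom.ofInjective i).symm.surjective
      obtain ⟨g, hg⟩ := IsCyclic.exists_ofOrder_eq_natCard (α := V)
      have := Nat.le_of_dvd two_pos (orderOf_dvd_of_pow_eq_one (x := g) (n := 2)
        (Subtype.ext (by rw [pow_two]; exact h2 g g.2)))
      omega
    rw [injective_iff_map_eq_one] at ni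
    push Not at ni
    obtain ⟨v, hv, v1⟩ := ni
    have hv : MulAut.conjNormal (H := (P : Subgroup H)) (v : H) = 1 :=
      (IsCyclic.mulAutMulEquiv P).map_eq_one_iff.1 hv
    have c : centralizer {(v : H)} = ⊤ := by
      have a : (P : Subgroup H) ≤ centralizer {(v : H)} := fun p hp =>
        mem_centralizer_singleton_iff.2 (mul_inv_eq_iff_eq_mul.1 (congrArg Subtype.val
          (congrArg (fun θ : MulAut (P : Subgroup H) => θ ⟨p, hp⟩) hv))).symm
      have b : V ≤ centralizer {(v : H)} := fun p hp => mem_centralizer_singleton_iff.2 (by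
        rw [← J0.inv_of (h2 _ (mul_mem hp v.2)), mul_inv_rev, J0.inv_of (h2 _ hp),
          J0.inv_of (h2 _ v.2)])
      have a := card_dvd_of_le a
      have b := card_dvd_of_le b
      have := card_le_card_group (centralizer {(v : H)})
      have := Nat.card_pos (α := centralizer {(v : H)})
      rw [← card_eq_iff_eq_top]
      rw [cP] at a
      rw [hV] at b
      omega
    refine v1 (Subtype.ext (zpowers_eq_bot.1 (hN _ ⟨fun n hn g => ?_⟩
      (pV.to_le (zpowers_le.2 v.2)))))
    obtain ⟨k, rfl⟩ := mem_zpowers_iff.1 hn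
    have : Commute g v := mem_centralizer_singleton_iff.1 (c ▸ mem_top g)
    rwa [(this.zpow_right k).eq, mul_inv_cancel_right]

variable {G : Type u} [Group G] [Finite G] {S A A' M : Subgroup G} {x z : G}

theorem pre (hJR : St_JR.{u}) (h : Jc S A A' (pCoreOf 2 M) x z) (chp : Local.CharP 2 M)
    (hz : z ∈ M) : Local.PreLX ((pCoreOf 2 M).subgroupOf M) ⟨z, hz⟩ ∧
      Nat.card ((pCoreOf 2 M).subgroupOf M) = 32 ∧
      Spor.HJ.NoE8 ((pCoreOf 2 M).subgroupOf M) ⟨z, hz⟩ := by
  obtain ⟨sp, c32, -, ne, -, -, cen⟩ := hJR h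
  have zp : ∀ g : M, g ∈ zpowers (⟨z, hz⟩ : M) ↔ (g : G) ∈ zpowers z := fun g => by
    rw [J0.mem_zp h.zz, J0.mem_zp (Subtype.ext h.zz), Subtype.ext_iff, Subtype.ext_iff]; rfl
  have c : Nat.card ((pCoreOf 2 M).subgroupOf M) = 32 := by
    rw [Nat.card_congr (subgroupOfEquivOfLe (Local.pCoreOf_le M)).toEquiv, c32]
  have ce : ∀ g : M, g ∈ centralizer ((pCoreOf 2 M).subgroupOf M : Set M) →
      g ∈ zpowers (⟨z, hz⟩ : M) := fun g hg => by
    have : (g : G) ∈ Cs (pCoreOf 2 M) := fun q hq =>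
      congrArg Subtype.val (hg ⟨q, Local.pCoreOf_le M hq⟩ hq)
    exact (zp g).2 (cen (mem_inf.2 ⟨chp (mem_inf.2 ⟨g.2, this⟩), this⟩))
  refine ⟨⟨⟨sp.mem, by rw [Subgroup.orderOf_mk, sp.ord], fun q hq => Subtype.ext (sp.central q hq),
    fun q hq => (zp _).2 (sp.sq_mem q hq), fun c _ e _ => ce c e⟩, ce, fun g _ => ?_, fun l => ?_⟩,
    c, fun u hu v hv u2 v2 e => ?_⟩
  · exact Trans.mem_normalizer_of_cj_le (Trans.cj_le_iff.2 fun t ht => mem_subgroupOf.2
      (Trans.mem_normalizer_conj (Local.le_normalizer_pCoreOf M g.2) (mem_subgroupOf.1 ht)))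
  · have := card_le_of_le l
    rw [c, Nat.card_zpowers, Subgroup.orderOf_mk, sp.ord] at this
    omega
  · simp only [zp]
    exact ne u hu v hv (congrArg Subtype.val u2) (congrArg Subtype.val v2) (congrArg Subtype.val e)

end JPiAux

open JPiAux

theorem st_JPi (hJR : St_JR.{u}) : St_JPi.{u} := by
  intro G _ _ S A A' M x z h syl chp cz _
  have : Fact (Nat.Prime 2) := ⟨Nat.prime_two⟩
  have hz : z ∈ M := syl.le (h.js.le (mem_sup_left h.zZ.1))
  obtain ⟨p1, p2, p3⟩ := pre hJR h chp hz
  obtain ⟨-, -, c128, -, AR, -, -⟩ := hJR h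
  obtain ⟨a, ha, a2, az⟩ := Spor.HJ.exists_inv p1 p2
  obtain ⟨T, t1, -, t3, t4⟩ := Spor.HJ.exists_satQ_of p1 p2 p3 ha a2 az
  obtain ⟨π, -, hk, -⟩ := GHC.exists_p5 (T := T) (by rw [t1, t4]; exact p1) t3 fun g => by
    rw [t1]; exact Subtype.ext (mem_centralizer_singleton_iff.1 (cz g.2))
  rw [t4] at hk
  refine ⟨π, hk, Equiv.Perm.eq_alternatingGroup_of_index_eq_two ?_⟩
  let f := π.rangeRestrict
  have fk : f.ker = (pCoreOf 2 M).subgroupOf M := by rw [MonoidHom.ker_rangeRestrict, hk]
  have c1 : Nat.card M = 32 * Nat.card π.range := by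
    rw [← π.ker.card_mul_index, index_ker, hk, p2]
  have c2 := Trans.card_mul_relIndex syl.le
  have c3 := syl.not_dvd
  have c4 := π.range.card_mul_index
  rw [Nat.card_perm, Nat.card_fin] at c4
  have cV : Nat.card ((S.subgroupOf M).map f) = 4 := by
    have a := Trans.card_mul_relIndex (subgroupOf_mono M h.RS)
    rw [p2, Nat.card_congr (subgroupOfEquivOfLe syl.le).toEquiv, c128, ← fk, relIndex_ker] at a
    omega
  obtain ⟨b1, b2, b3⟩ := big (H := π.range) (fun N hN pN => by
      have a : IsPGroup 2 (N.comap f) := pN.comap_of_ker_isPGroup f (by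
        rw [fk]; exact Trans.isPGroup_subgroupOf (Local.isPGroup_pCoreOf M) M)
      have b : (N.comap f).map M.subtype ≤ pCoreOf 2 M := Local.le_pCoreOf (map_subtype_le _)
        (fun m hm => Trans.mem_normalizer_of_cj_le (Trans.cj_le_iff.2 (by
          rintro _ ⟨n, hn, rfl⟩
          exact ⟨_, (hN.comap f).conj_mem n hn ⟨m, hm⟩, rfl⟩))) (a.map _)
      refine (eq_bot_iff_forall _).2 fun n hn => ?_
      obtain ⟨m, rfl⟩ := π.rangeRestrict_surjective n
      exact f.mem_ker.1 (fk ▸ b ⟨m, hn, rfl⟩)) _ cV (by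
    rintro _ ⟨s, hs, rfl⟩
    have hs : (s : G) ∈ pCoreOf 2 M ⊔ A := by rw [sup_comm, AR]; exact hs
    obtain ⟨r, hr, a, ha, e⟩ := (Solv.mem_sup_of_le_normalizer
      ((le_sup_left.trans h.js.le).trans h.nR : A ≤ Ns _)).1 hs
    have aM := syl.le (h.js.le (mem_sup_left ha))
    have r1 : f ⟨r, Local.pCoreOf_le M hr⟩ = 1 := f.mem_ker.1 (fk ▸ hr)
    rw [show s = ⟨r, Local.pCoreOf_le M hr⟩ * ⟨a, aM⟩ from Subtype.ext e.symm, map_mul, r1, one_mul,
      ← map_mul, show (⟨a, aM⟩ * ⟨a, aM⟩ : M) = 1 from Subtype.ext (h.ab.sqA a ha), map_one])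
  rw [c128, c1] at c2
  generalize Nat.card π.range = n at *
  generalize π.range.index = i at *
  obtain rfl : n = 4 * S.relIndex M := by omega
  generalize S.relIndex M = k at *
  have c5 : k * i = 30 := by rw [show Nat.factorial 5 = 120 by rfl] at c4; linarith
  have : k ≤ 30 := Nat.le_of_dvd (by decide) ⟨i, c5.symm⟩
  interval_cases k <;> omega

end Cfsg.Lib.HM
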