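import Cfsg.Agent.HM.J0

/-! `R` is extraspecial of minus type. -/

set_option autoImplicit false

open scoped commutatorElement MatrixGroups

namespace Cfsg.Lib.HM

open Cfsg Subgroup
open Cfsg.Lib.Trans (cj IsSylowIn)
open Cfsg.Lib.Gold (Ns Cs C1)
open Cfsg.Lib.Gomi (AB)

universe u

namespace JRAux

variable {G : Type u} [Group G] {S A A' R : Subgroup G} {x z : G} (h : Jc S A A' R x z) {a r : G}
include h

theorem dR (ha : a ∈ A) : a * (x * a * x⁻¹) ∈ R := by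
  have := mul_mem (Trans.mem_normalizer_conj (h.nR (h.js.le (mem_sup_left ha))) h.xR) (inv_mem h.xR)
  rwa [J0.inv_of (h.ab.sqA a ha), mul_assoc, mul_assoc, ← mul_assoc x] at this

theorem dJ (ha : a ∈ A) : a * (x * a * x⁻¹) ∈ A ⊔ A' :=
  mul_mem (mem_sup_left ha) (mem_sup_right (h.xA ha))

theorem RJ (hr : r ∈ R) (hJ : r ∈ A ⊔ A') :
    ∃ a ∈ A, ∃ w ∈ A ⊓ A', r = a * (x * a * x⁻¹) * w := by
  obtain ⟨a, ha, b, hb, rfl⟩ := h.ab.mem_sup.1 hJ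
  have m := mul_mem ha (inv_mem (h.xB hb))
  have e := dR h (h.xB hb)
  rw [h.xxc] at e
  have hw : a * (x * b * x⁻¹)⁻¹ ∈ A ⊓ A' := mem_inf.2 ⟨m, h.RA (mem_inf.2 ⟨by
    simpa only [mul_inv_rev, mul_assoc, mul_inv_cancel_left] using mul_mem hr (inv_mem e), m⟩)⟩
  refine ⟨_, h.xB hb, _, hw, ?_⟩
  rw [← h.ab.comm_Z (dJ h (h.xB hb)) hw, h.xxc]
  group

theorem sq (hr : r ∈ R) : r * r ∈ zpowers z := by
  rw [J0.mem_zp h.zz]
  by_cases hJ : r ∈ A ⊔ A'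
  · obtain ⟨a, ha, w, hw, rfl⟩ := RJ h hr hJ
    rw [mul_assoc, ← mul_assoc w, h.ab.comm_Z (dJ h ha) hw, mul_assoc _ w, J0.zz h.ab hw, mul_one,
      h.ab.mul_sq ha (h.xA ha)]
    by_cases e : a ∈ A'
    exacts [.inl (J0.cmB h.ab e (h.xA ha)), .inr (h.nz a ha e)]
  obtain ⟨j, hj, rfl⟩ := h.out (h.RS hr) hJ
  obtain ⟨a, ha, w, hw, rfl⟩ := RJ h (by simpa using mul_mem (inv_mem h.xR) hr) hj
  have e : x * (a * (x * a * x⁻¹)) * x⁻¹ = (a * (x * a * x⁻¹))⁻¹ := by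
    rw [← conj_mul, h.xxc, mul_inv_rev a, J0.inv_of (h.ab.sqA a ha),
      J0.inv_of (h.ab.sqB _ (h.xA ha))]
  have c := h.ab.comm_Z (dJ h ha) (h.xZ hw)
  generalize a * (x * a * x⁻¹) = d at *
  have : x * (d * w) * (x * (d * w)) = w * (x * w * x⁻¹) := by
    nth_rw 2 [← h.xi]
    calc _ = x * d * x⁻¹ * (x * w * x⁻¹ * d) * w := by group
      _ = _ := by rw [e, c, inv_mul_cancel_left, h.ab.commA hw.1 (h.xZ hw).1]
  rw [this]
  exact h.tr hw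

theorem cen [Finite G] : R ⊓ Cs R ≤ zpowers z := fun c hc => by
  rw [J0.mem_zp h.zz]
  by_cases hJ : c ∈ A ⊔ A'
  swap
  · obtain ⟨ζ, hζ, h1, h2⟩ := h.exists_ζ
    exact absurd (h.fixo (h.RS hc.1) hJ hζ (hc.2 ζ (h.ZR hζ)).symm) (not_or.2 ⟨h1, h2⟩)
  obtain ⟨a, ha, w, hw, rfl⟩ := RJ h hc.1 hJ
  by_cases e : a ∈ A'
  · have m : a ∈ A ⊓ A' := mem_inf.2 ⟨ha, e⟩
    exact h.fix _ (mul_mem (mul_mem m (h.xZ m)) hw) (hc.2 x h.xR)
  exfalso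
  obtain ⟨b, hb, b1, b2⟩ : ∃ b ∈ A, a * b ∉ A' ∧ b ∉ A' := by
    by_contra! hn
    have := Trans.card_mul_relIndex (inf_le_left : A ⊓ A' ≤ A)
    rw [h.cZ, h.cA, relIndex_eq_two_iff_exists_notMem_and'.2 ⟨a, ha, fun m => e (mem_inf.1 m).2, fun b hb => by
      by_cases k : a * b ∈ A'
      exacts [.inl (mem_inf.2 ⟨mul_mem ha hb, k⟩), .inr (mem_inf.2 ⟨hb, hn b hb k⟩)]⟩] at this
    omega
  have k := commutatorElement_eq_one_iff_mul_comm.2 (hc.2 _ (dR h hb)).symm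
  have n := h.nz _ (mul_mem ha hb) b1
  have a1 : a ∈ A ⊔ A' := mem_sup_left ha
  have a2 : x * a * x⁻¹ ∈ A ⊔ A' := mem_sup_right (h.xA ha)
  have c1 : b ∈ A ⊔ A' := mem_sup_left hb
  have c2 : x * b * x⁻¹ ∈ A ⊔ A' := mem_sup_right (h.xA hb)
  rw [J0.cml h.ab (mul_mem a1 a2) (mem_sup_left hw.1) (mul_mem c1 c2), J0.cm0 h.ab hw (mul_mem c1 c2),
    J0.cml h.ab a1 a2 (mul_mem c1 c2), J0.cmr h.ab a1 c1 c2, J0.cmr h.ab a2 c1 c2,
    J0.cmA h.ab ha hb, J0.cmB h.ab (h.xA ha) (h.xA hb), J0.cms h.ab a2 c1, one_mul, mul_one,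
    mul_one] at k
  rw [← conj_mul, J0.cml h.ab a1 c1 (mul_mem a2 c2), J0.cmr h.ab a1 a2 c2, J0.cmr h.ab c1 a2 c2,
    h.nz a ha e, h.nz b hb b2, mul_assoc, ← mul_assoc _ _ z, k, one_mul, h.zz] at n
  exact h.z1 n.symm

theorem noE8 [Finite G] : Spor.HJ.NoE8 R z := fun u hu v hv u2 v2 c => by
  simp only [J0.mem_zp h.zz]
  have Z : ∀ r ∈ R, r ∈ A ⊔ A' → r * r = 1 → r ∈ A ⊓ A' := fun r hr hJ r2 =>
    (h.ab.inv r hJ r2).elim (fun m => mem_inf.2 ⟨m, h.RA (mem_inf.2 ⟨hr, m⟩)⟩)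
      fun m => mem_inf.2 ⟨h.RB (mem_inf.2 ⟨hr, m⟩), m⟩
  by_cases uJ : u ∈ A ⊔ A' <;> by_cases vJ : v ∈ A ⊔ A'
  · by_cases u1 : u = 1
    · exact .inl (.inl u1)
    by_cases uz : u = z
    · exact .inl (.inr uz)
    rcases h.Zc (Z u hu uJ u2) u1 uz (Z v hv vJ v2) with e | e | e | e
    exacts [.inr (.inl (.inl e)), .inr (.inl (.inr e)), .inr (.inr (.inl (e ▸ u2))),
      .inr (.inr (.inr (by rw [e, ← mul_assoc, u2, one_mul])))]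
  · exact .inl (h.inv_out (h.RS hv) vJ uJ u2 c.symm)
  · exact .inr (.inl (h.inv_out (h.RS hu) uJ vJ v2 c))
  · refine .inr (.inr (h.inv_out (h.RS hu) uJ (h.mul_out (h.RS hu) uJ (h.RS hv) vJ) ?_ ?_))
    · rw [mul_assoc, ← mul_assoc v, ← c, mul_assoc, v2, mul_one, u2]
    · rw [mul_assoc, c]

theorem top {T : Subgroup G} (hT : A ⊔ A' ≤ T) (hx : x ∈ T) : S ≤ T := fun s hs => by
  by_cases hJ : s ∈ A ⊔ A'
  · exact hT hJ
  obtain ⟨j, hj, rfl⟩ := h.out hs hJ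
  exact mul_mem hx (hT hj)

theorem AR : A ⊔ R = S :=
  le_antisymm (sup_le (le_sup_left.trans h.js.le) h.RS) (top h (sup_le le_sup_left fun b hb =>
    h.xxc b ▸ mul_mem (mul_mem (mem_sup_right h.xR) (mem_sup_left (h.xB hb)))
      (inv_mem (mem_sup_right h.xR))) (mem_sup_right h.xR))

theorem BR : A' ⊔ R = S :=
  le_antisymm (sup_le (le_sup_right.trans h.js.le) h.RS) (top h (sup_le (fun b hb =>
    h.xxc b ▸ mul_mem (mul_mem (mem_sup_right h.xR) (mem_sup_left (h.xA hb)))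
      (inv_mem (mem_sup_right h.xR))) le_sup_left) (mem_sup_right h.xR))

theorem RAe : R ⊓ A = A ⊓ A' :=
  le_antisymm (le_inf inf_le_right h.RA) (le_inf h.ZR inf_le_left)

end JRAux

open JRAux

theorem st_JR : St_JR.{u} := by
  intro G _ _ S A A' R x z h
  refine ⟨⟨h.ZR h.zZ, h.ordz, fun q hq => h.zS (h.RS hq), fun q hq => sq h hq,
    fun c hc e _ => cen h (mem_inf.2 ⟨hc, e⟩)⟩, ?_, h.cS, noE8 h, AR h, BR h, cen h⟩
  have := Solv.card_sup_mul_card_inf_of_le_normalizer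
    ((le_sup_left.trans h.js.le).trans h.nR : A ≤ Ns R)
  rw [sup_comm, AR h, RAe h, h.cS, h.cZ, h.cA] at this
  omega

end Cfsg.Lib.HM
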