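import Cfsg.Agent.HM.JJ

/-! The automorphisms of `J`. -/

set_option autoImplicit false

open scoped commutatorElement MatrixGroups

namespace Cfsg.Lib.HM

open Cfsg Subgroup
open Cfsg.Lib.Fus hiding cj IsSylowIn
open Cfsg.Lib.Trans (cj IsSylowIn)
open Cfsg.Lib.Gold (Ns Cs C1 mem_C1 mem_Cs mem_Ns_iff)
open Cfsg.Lib.Gomi (AB)

universe u

open JTAux JJAux

namespace JSAux

theorem idx {G : Type*} [Group G] (N : Subgroup G) (z : G) :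
    ((C1 z).subgroupOf N).index = {y | ∃ g ∈ N, g * z * g⁻¹ = y}.ncard := by
  let : MulAction N G := MulAction.compHom G ((MulAut.conj : G →* MulAut G).comp N.subtype)
  have a : MulAction.stabilizer N z = (C1 z).subgroupOf N :=
    Subgroup.ext fun g => (mul_inv_eq_iff_eq_mul.trans mem_C1.symm : (g : G) * z * (g : G)⁻¹ = z ↔ _)
  rw [← a, MulAction.index_stabilizer]
  congr 1
  exact Set.ext fun y => ⟨fun ⟨g, e⟩ => ⟨g, g.2, e⟩, fun ⟨g, hg, e⟩ => ⟨⟨g, hg⟩, e⟩⟩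

theorem sq_mem {G : Type*} [Group G] {K : Subgroup G} {s : G} {k : ℕ} (h : s ^ 3 ^ k = 1)
    (h2 : s * s ∈ K) : s ∈ K := by
  obtain ⟨j, hj⟩ : Odd (3 ^ k) := Odd.pow (by decide)
  rw [hj, pow_succ, pow_mul, pow_two] at h
  rw [eq_inv_of_mul_eq_one_right h]
  exact inv_mem (pow_mem h2 j)

theorem comm3 {G : Type*} [Group G] [Finite G] {T : Subgroup G} (hT : IsPGroup 3 T)
    (hc : Nat.card T ∣ 1920) {s r : G} {k : ℕ} (h : s ^ 3 ^ k = 1) (r3 : r ^ 3 = 1) (hr : r ∈ T)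
    (hs : s * r * s⁻¹ ∈ T) : s * r = r * s := by
  classical
  have : Fact (Nat.Prime 3) := ⟨Nat.prime_three⟩
  by_cases r1 : r = 1
  · simp [r1]
  have o : orderOf r = 3 := orderOf_eq_prime r3 r1
  have c : Nat.card T ≤ 3 := by
    obtain ⟨n, e⟩ := hT.exists_card_eq
    rw [e] at hc ⊢
    by_contra l
    have : 2 ≤ n := by
      by_contra l'
      interval_cases n <;> omega
    exact absurd ((pow_dvd_pow 3 this).trans hc) (by decide)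
  rw [← eq_of_le_of_card_ge (zpowers_le.2 hr) (by rwa [Nat.card_zpowers, o])] at hs
  obtain ⟨i, hi, e⟩ := (mem_zpowers_iff_mem_range_orderOf.trans Finset.mem_image).1 hs
  rw [Finset.mem_range, o] at hi
  interval_cases i
  · exact absurd (by simpa using e.symm) r1
  · exact mul_inv_eq_iff_eq_mul.1 (by simpa using e.symm)
  · refine mem_C1.1 (sq_mem h (mem_C1.2 (mul_inv_eq_iff_eq_mul.1 ?_)))
    calc s * s * r * (s * s)⁻¹ = s * (s * r * s⁻¹) * s⁻¹ := by group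
      _ = (s * r * s⁻¹) ^ 2 := by rw [conj_pow, e]
      _ = r ^ 3 * r := by rw [← e]; group
      _ = r := by rw [r3, one_mul]

end JSAux

open JSAux

theorem st_JS (_hJsF : St_JsF.{u}) (_hJR : St_JR.{u}) (hJT : St_JT.{u}) : St_JS.{u} := by
  classical
  intro Γ _ _ S F A A' M x z ρ h k
  have : Fact (Nat.Prime 3) := ⟨Nat.prime_three⟩
  have ab := h.jc.ab
  have zJ : z ∈ A ⊔ A' := mem_sup_left h.jc.zZ.1
  have nZ : ∀ g ∈ NF F (A ⊔ A'), g ∈ Ns (A ⊓ A') := fun g hg => mem_Ns_iff.2 (by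
    rw [Trans.cj_inf]
    rcases ab.cj_eq_or hg.1 with e | ⟨e, e'⟩
    · rw [mem_Ns_iff.1 e, mem_Ns_iff.1 (ab.Ns_inf_le ⟨hg.1, e⟩)]
    · rw [e, e', inf_comm])
  have n1 : ∀ g ∈ NF F (A ⊔ A'), g * z = z * g → ∃ m ∈ M ⊓ Ns (A ⊔ A'), m⁻¹ * g ∈ Cs (A ⊔ A') :=
    fun g hg e => by
      obtain ⟨m, hm, e'⟩ := ext h k zJ (hg.2 (leJ h)) e
      refine ⟨m, ⟨hm, mem_normalizer_fintype fun j hj => e' j hj ▸ Trans.mem_normalizer_conj hg.1 hj⟩,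
        mem_Cs.2 fun j hj => ?_⟩
      calc j * (m⁻¹ * g) = m⁻¹ * (m * j * m⁻¹) * g := by group
        _ = _ := by rw [e' j hj]; group
  have orb : ∀ σ ∈ NF F (A ⊔ A'), σ * z * σ⁻¹ ≠ z → σ * z * σ⁻¹ ≠ 1 ∧
      x * σ * z * (x * σ)⁻¹ = σ * z * σ⁻¹ * z ∧ ∀ g ∈ NF F (A ⊔ A'), g * z * g⁻¹ = z ∨
        g * z * g⁻¹ = σ * z * σ⁻¹ ∨ g * z * g⁻¹ = σ * z * σ⁻¹ * z := fun σ hσ e => by
    have a := Trans.mem_normalizer_conj (nZ σ hσ) h.jc.zZ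
    have b : ∀ g : Γ, g * z * g⁻¹ ≠ 1 := fun g e => h.jc.z1 (by simpa using e)
    exact ⟨b σ, by rw [← h.jc.conjZ a (b σ) e]; group, fun g hg =>
      (h.jc.Zc a (b σ) e (Trans.mem_normalizer_conj (nZ g hg) h.jc.zZ)).resolve_left (b g)⟩
  obtain ⟨-, ⟨τ, t1, t2⟩, -⟩ := hJT h k
  obtain ⟨t3, t4, t5⟩ := orb τ t1.2 t2
  have i3 : ((C1 z).subgroupOf (NF F (A ⊔ A'))).index = 3 := by
    rw [idx, Set.ncard_eq_three]
    refine ⟨z, τ * z * τ⁻¹, τ * z * τ⁻¹ * z, t2.symm, fun e => t3 (by simpa using e),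
      fun e => h.jc.z1 (by simpa using e), Set.ext fun y => ⟨fun ⟨g, hg, e⟩ => e ▸ t5 g hg, ?_⟩⟩
    rintro (rfl | rfl | rfl)
    exacts [⟨1, one_mem _, by simp⟩, ⟨τ, t1.2, rfl⟩, ⟨_, mul_mem (sJ h h.jc.xS) t1.2, t4⟩]
  let r : NF F (A ⊔ A') := ⟨ρ, ρJ h k⟩
  have r3 : r ^ 3 = 1 := Subtype.ext h.ρ3
  obtain ⟨P, hP⟩ := (isPGroup_zpowers_of_pow (p := 3) (j := 1) (x := r) (by simpa using r3)).exists_le_sylow
  have rP : r ∈ P := hP (mem_zpowers r)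
  obtain ⟨σ, s1, s2⟩ := SetLike.not_le_iff_exists.1
    fun l : (P : Subgroup (NF F (A ⊔ A'))) ≤ (C1 z).subgroupOf (NF F (A ⊔ A')) =>
      P.not_dvd_index (i3.symm.dvd.trans (index_dvd_of_le l))
  obtain ⟨n, sn⟩ := P.isPGroup' ⟨σ, s1⟩
  replace sn : σ ^ 3 ^ n = 1 := congrArg Subtype.val sn
  have s3 : σ * z * (σ : Γ)⁻¹ ≠ z := fun e => s2 (mem_C1.2 (mul_inv_eq_iff_eq_mul.1 e))
  have : ((Cs (A ⊔ A')).subgroupOf (NF F (A ⊔ A'))).Normal :=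
    (normal_subgroupOf_iff_le_normalizer (cs (leJ h))).2 (Gold.le_Ns_Cs (NF_le _ _))
  let π := QuotientGroup.mk' ((Cs (A ⊔ A')).subgroupOf (NF F (A ⊔ A')))
  have c : π σ * π r = π r * π σ := by
    refine comm3 (T := ((P : Subgroup _) ⊓ (C1 z).subgroupOf _).map π) (k := n)
      ((P.isPGroup'.to_le inf_le_left).map π) ((card_dvd_of_le (K := (M.subgroupOf _).map π) ?_).trans ?_)
      (by rw [← map_pow, sn, map_one]) (by rw [← map_pow, r3, map_one])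
      (mem_map_of_mem π ⟨rP, mem_C1.2 (mem_Cs.1 h.ρZ z h.jc.zZ).symm⟩) ?_
    · rintro _ ⟨g, hg, rfl⟩
      obtain ⟨m, hm, e⟩ := n1 g g.2 (mem_C1.1 hg.2)
      exact ⟨⟨m, mN h k (leJ h) hm.1 hm.2⟩, hm.1, QuotientGroup.eq.2 e⟩
    · refine (card_map_dvd _ π).trans ?_
      rw [← h.card, ← card_map_of_injective (NF F (A ⊔ A')).subtype_injective]
      exact card_dvd_of_le (map_le_iff_le_comap.2 le_rfl)
    · rw [← map_inv, ← map_mul, ← map_mul]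
      exact mem_map_of_mem π ⟨P.1.mul_mem (P.1.mul_mem s1 rP) (P.1.inv_mem s1), Gold.Cs_le_C1 h.jc.zZ
        (Trans.mem_normalizer_conj (Gold.le_Ns_Cs le_rfl (nZ σ σ.2)) h.ρZ)⟩
  refine ⟨σ, ⟨?_, σ.2⟩, s3, ?_, fun g hg => ?_⟩
  · refine sq_mem (k := n) (congrArg Subtype.val sn) ?_
    rcases ab.cj_eq_or σ.2.1 with e | ⟨e, e'⟩
    exacts [mul_mem e e, mem_Ns_iff.2 (by rw [Trans.cj_mul, e, e'])]
  · have : π ⁅σ, r⁆ = 1 := by
      rw [map_commutatorElement, commutatorElement_eq_one_iff_mul_comm, c]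
    exact mem_subgroupOf.1 ((QuotientGroup.eq_one_iff ⁅σ, r⁆).1 this)
  · obtain ⟨-, s4, s5⟩ := orb σ σ.2 s3
    have key : ∀ l ∈ NF F (A ⊔ A'), l ∈ S ⊔ zpowers ρ ⊔ zpowers (σ : Γ) ⊔ Cs (A ⊔ A') →
        g * z * g⁻¹ = l * z * l⁻¹ → g ∈ S ⊔ zpowers ρ ⊔ zpowers (σ : Γ) ⊔ Cs (A ⊔ A') := fun l hl hl' e => by
      obtain ⟨m, hm, e'⟩ := n1 _ (mul_mem (inv_mem hl) hg) (by
        rw [mul_assoc, mul_inv_eq_iff_eq_mul.1 e]; group)
      simpa using mul_mem hl' (mul_mem (mem_sup_left (mem_sup_left (h.nJ hm))) (mem_sup_right e'))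
    have a : (σ : Γ) ∈ S ⊔ zpowers ρ ⊔ zpowers (σ : Γ) ⊔ Cs (A ⊔ A') :=
      mem_sup_left (mem_sup_right (mem_zpowers _))
    rcases s5 g hg with e | e | e
    exacts [key 1 (one_mem _) (one_mem _) (by simpa using e), key σ σ.2 a e,
      key _ (mul_mem (sJ h h.jc.xS) σ.2) (mul_mem (mem_sup_left (mem_sup_left (mem_sup_left h.jc.xS))) a)
        (e.trans s4.symm)]

end Cfsg.Lib.HM
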