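import Cfsg.Agent.HM.J0

/-! Transitivity of the automorphism groups on involutions. -/

set_option autoImplicit false

open scoped commutatorElement MatrixGroups

namespace Cfsg.Lib.HM

open Cfsg Subgroup
open Cfsg.Lib.Fus hiding cj IsSylowIn
open Cfsg.Lib.Trans (cj IsSylowIn)
open Cfsg.Lib.Gold (Ns Cs C1 mem_C1 mem_Cs mem_Ns_iff)
open Cfsg.Lib.Gomi (AB)

universe u

namespace JTAux

variable {Γ : Type u} [Group Γ] {S : Subgroup Γ} {F : FusionSystem S} {A A' M P : Subgroup Γ}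
  {x z ρ g m : Γ}

theorem zpN (e : g * z = z * g) : g ∈ Cs (zpowers z) := mem_Cs.2 fun _ ⟨k, hk⟩ =>
  hk ▸ ((show Commute g z from e).zpow_right k).symm

variable (h : JM S A A' M x z ρ)
include h

theorem SN : S ⊓ Ns (zpowers z) = S := inf_eq_left.2 fun _ hs => Gold.Cs_le_Ns (zpN (h.jc.zS hs))

theorem leJ : A ⊔ A' ≤ S := h.jc.js.le

theorem leA : A ≤ S := le_sup_left.trans h.jc.js.le

variable (k : J3s F A M z)
include k

theorem mor (hm : m ∈ M) (hP : P ≤ S) (e : cj m P ≤ S) : R F P m :=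
  k.mdl.mor m hm P (hP.trans (SN h).ge) e

theorem ext (hz : z ∈ P) (r : R F P g) (e : g * z = z * g) :
    ∃ m ∈ M, ∀ x ∈ P, m * x * m⁻¹ = g * x * g⁻¹ :=
  k.mdl.ext P g (zpowers_le.2 hz) (r.le.trans (SN h).ge) r (Gold.Cs_le_Ns (zpN e))

variable [Finite Γ]

theorem mv (hJsF : St_JsF.{u}) {a : Γ} (ha : a ∈ A) (a1 : a ≠ 1) (hA : A ≤ P) (hP : P ≤ S)
    (hc : ∀ p ∈ P, p * a = a * p) : ∃ g ∈ Ns A, R F P g ∧ g * a * g⁻¹ = z := by
  have : Fact (Nat.Prime 2) := ⟨Nat.prime_two⟩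
  obtain ⟨f, hf, e⟩ := isConjElt_iff.1 (k.one a ha a1)
  obtain ⟨f', hf', e'⟩ := (isReceptive_iff.1 (sat_receptive_of_centralized k.two k.sat
    (isFullyCentralized_of_le_centralizer (zpowers_le.2 (leA h h.jc.zZ.1))
      fun _ hs => zpN (h.jc.zS hs)))).2 _ f hf (by rw [img_zpowers hf.mulOn (mem_zpowers a), e])
  obtain ⟨g, r, eg⟩ := k.univ.exists_R (hf'.restrict (show P ≤ _ from
    fun p hp => centralizerIn_le_extd ⟨hP hp, zpN (hc p hp)⟩))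
  have ga : g * a * g⁻¹ = z := by rw [← eg a (hA ha), e' a (mem_zpowers a), e]
  rcases (hJsF (F := F) h.jc.js).2.2.2.2.2.2.2.1 g (r.mono hA).cj_le with c | c
  · exact ⟨g, mem_Ns_iff.2 c, r, ga⟩
  · refine ⟨x * g, mem_Ns_iff.2 (by rw [Trans.cj_mul, c, h.jc.js.yB]),
      r.comp (R.of_mem F le_rfl h.jc.xS) r.cj_le, ?_⟩
    rw [mul_inv_rev, show x * g * a * (g⁻¹ * x⁻¹) = x * (g * a * g⁻¹) * x⁻¹ by group, ga, h.jc.xz,
      mul_inv_cancel_right]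

end JTAux

open JTAux

theorem st_JT (hJsF : St_JsF.{u}) : St_JT.{u} := by
  intro Γ _ _ S F A A' M x z ρ h k
  refine ⟨fun a ha a1 => ?_, ?_, fun g hg => mem_normalizer_fintype fun w hw => ?_⟩
  · obtain ⟨g, g1, g2, e⟩ := mv h k hJsF ha a1 le_rfl (leA h) fun p hp => h.jc.ab.commA hp ha
    exact ⟨g⁻¹, inv_mem ((mem_NF (leA h)).2 ⟨g1, g2⟩), by rw [← e]; group⟩
  · obtain ⟨ζ, hζ, ζ1, ζz⟩ := h.jc.exists_ζ
    obtain ⟨g, g1, g2, e⟩ := mv h k hJsF hζ.1 ζ1 le_sup_left (leJ h) fun p hp => (h.jc.ab.comm_Z hp hζ).symm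
    refine ⟨g⁻¹, inv_mem (mem_inf.2 ⟨g1, (mem_NF (leJ h)).2
      ⟨(hJsF (F := F) h.jc.js).2.2.2.2.2.2.1 g g2.cj_le, g2⟩⟩), fun e' => ζz ?_⟩
    rw [← e', ← e]; group
  · obtain ⟨g1, g2⟩ := (mem_NF (leA h)).1 hg.1
    obtain ⟨m, hm, e⟩ := ext h k h.jc.zZ.1 g2 (mem_C1.1 hg.2)
    have a := Trans.mem_normalizer_conj g1 hw.1
    exact ⟨a, h.jc.RA ⟨e w hw.1 ▸ Trans.mem_normalizer_conj (Local.le_normalizer_pCoreOf M hm) (h.jc.ZR hw), a⟩⟩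

end Cfsg.Lib.HM
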