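import Cfsg.Agent.HM.St
import Cfsg.Agent.HM.J0
import Cfsg.Agent.HM.JsK
import Cfsg.Agent.Fus.Alperin

/-! Minimal 2-fusion systems: uniqueness of the exceptional system. -/

set_option autoImplicit false
set_option linter.unusedSectionVars false
set_option linter.unusedVariables false

open scoped commutatorElement MatrixGroups

namespace Cfsg.Lib.HM

open Cfsg Subgroup
open Cfsg.Lib.Fus hiding cj IsSylowIn
open Cfsg.Lib.Trans (cj IsSylowIn QDFrame)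
open Cfsg.Lib.Gold (Ns Cs C1)
open Cfsg.Lib.Gomi (AB PosC ZZ E2)
open Cfsg.Lib.GCT (RB RQ WW QQ VV DD K0 MC)
open Cfsg.Lib.Rank2 (SylEmb DFrame)
open Cfsg.Lib.Fus.Rk2 (FHas TwoCl Rigid autF pullE)

universe u

open Cfsg.Lib.Trans Cfsg.Lib.Gold in
theorem st_JU (hEss0 : St_Ess0.{u}) (hJE : St_JE.{u}) (hJJ : St_JJ.{u}) (hJA : St_JA.{u}) :
    St_JU.{u} := by
  intro Γ _ _ S F N A A' M x z ρ jm jF jN
  have js := jm.jc.js
  have AS : A ≤ S := le_sup_left.trans js.le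
  have BS : A' ≤ S := le_sup_right.trans js.le
  refine sub_of_alperin_cr jF.two jF.sat fun Q _ hc hr _ f hf => ?_
  obtain ⟨g, r, e⟩ := jF.univ.exists_R hf.mor
  have gQ : g ∈ Ns Q := mem_normalizer_of_cj_le (cj_le_iff.2 fun t ht => e t ht ▸ (hf.mem t).2 ht)
  refine Mor.congr (?_ : R N Q g) fun t ht => (e t ht).symm
  by_cases hQ : Q ≤ A ⊔ A'
  · rcases hEss0 js hQ hc hr with rfl | rfl | rfl
    · exact (hJA jm jF jN ((mem_NF AS).2 ⟨gQ, r⟩)).2 AS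
    · have r1 : R F (cj x Q) (x * g * x⁻¹) :=
        r.conj (R.of_mem F le_rfl js.yS) BS r.cj_le
      rw [js.yB] at r1
      have n1 : x * g * x⁻¹ ∈ Ns A := mem_Ns_iff.2 (by
        rw [cj_mul, cj_mul, ← js.yB, cj_inv_cj, mem_Ns_iff.1 gQ])
      have r2 : R N A (x * g * x⁻¹) := (hJA jm jF jN ((mem_NF AS).2 ⟨n1, r1⟩)).2 AS
      have r3 := r2.conj (R.of_mem N le_rfl (inv_mem js.yS)) AS r2.cj_le
      rwa [← js.yB, cj_inv_cj, show x⁻¹ * (x * g * x⁻¹) * x⁻¹⁻¹ = g by group] at r3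
    · exact (hJJ jm jF jN ((mem_NF js.le).2 ⟨gQ, r⟩)).2 js.le
  · have hs : S ⊓ Cs Q ≤ Q := isCentric_self hc
    have gz : g ∈ C1 z := hJE jm.jc Q hc.1 hs hQ gQ
    have zS : z ∈ S := AS jm.jc.zZ.1
    have zQ : zpowers z ≤ Q :=
      zpowers_le.2 (hs ⟨zS, mem_centralizer_iff.2 fun t ht => jm.jc.zS (hc.1 ht)⟩)
    have cN : C1 z ≤ Ns (zpowers z) := fun t ht => mem_normalizer_of_cj_le (by
      rw [cj_le_iff_le_cj_inv, zpowers_le, mem_cj_inv, mem_C1.1 ht, mul_inv_cancel_right]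
      exact mem_zpowers z)
    have QN : Q ≤ S ⊓ Ns (zpowers z) :=
      fun t ht => ⟨hc.1 ht, cN (mem_C1.2 (jm.jc.zS (hc.1 ht)))⟩
    obtain ⟨m, hm, em⟩ := jF.mdl.ext Q g zQ QN r (cN gz)
    exact (jN.mdl.mor m hm Q QN (cj_le_iff.2 fun t ht => em t ht ▸ r.maps ht)).congr em

end Cfsg.Lib.HM
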