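import Cfsg.Agent.HM.JsK

/-! The structure of `S`. -/

set_option autoImplicit false

open scoped commutatorElement MatrixGroups

namespace Cfsg.Lib.HM

open Cfsg Subgroup
open Cfsg.Lib.Fus hiding cj IsSylowIn
open Cfsg.Lib.Trans (cj IsSylowIn QDFrame)
open Cfsg.Lib.Gold (Ns Cs C1)
open Cfsg.Lib.Gomi (AB PosC ZZ E2)

universe u

open Cfsg.Lib.GCT (RB RQ WW QQ VV DD)

open Cfsg.Lib.Trans Cfsg.Lib.Gold in
theorem st_Js : St_Js.{u} := by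
  intro Γ _ _ S F q A A' M E y c hS hT hq
  have ab := c.ab
  obtain ⟨K, _, _, θ, ψ, hK, r⟩ := c.rq
  have hJS : A ⊔ A' ≤ S := (c.bau ▸ TJ.bau_le _ : A ⊔ A' ≤ S ⊓ Ns A).trans inf_le_left
  have yN : y ∈ Ns (A ⊔ A') := mem_Ns_iff.2 (by rw [cj_sup, c.yA, c.yB, sup_comm])
  have cA : Nat.card A' = Nat.card A := by rw [← c.yA, card_cj]
  have dec : ∀ s ∈ S ⊓ Ns (A ⊔ A'), s ∉ A ⊔ A' → y⁻¹ * s ∈ A ⊔ A' := fun s hs hs' => by
    rcases ab.cj_eq_or hs.2 with e | ⟨e, -⟩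
    · exact absurd (hT ⟨hs.1, e⟩) hs'
    · exact hT ⟨S.mul_mem (S.inv_mem c.yS) hs.1, mem_Ns_iff.2 (by rw [cj_mul, e, ← c.yA, cj_inv_cj])⟩
  have wk : ∀ X ≤ S ⊓ Ns (A ⊔ A'), (∀ e ∈ X, e * e = 1) → Nat.card A ≤ Nat.card X →
      X = A ∨ X = A' := by
    intro X hX h2 hc
    by_cases hXJ : X ≤ A ⊔ A'
    · exact (ab.le_or_le hXJ h2).imp (fun e => eq_of_le_of_card_ge e hc)
        fun e => eq_of_le_of_card_ge e (cA ▸ hc)
    exfalso
    obtain ⟨t, ht, ht'⟩ := SetLike.not_le_iff_exists.1 hXJ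
    have hj := dec t (hX ht) ht'
    have k1 := card_two_of ht ht' fun s hs hs' => by
      simpa [mul_assoc] using mul_mem (inv_mem hj) (dec s (hX hs) hs')
    have et : t = y * (y⁻¹ * t) := by group
    have tA : cj t A = A' := by rw [et, cj_mul, mem_Ns_iff.1 (ab.S_le_Ns hj), c.yA]
    have tB : cj t A' = A := by rw [et, cj_mul, mem_Ns_iff.1 (ab.S_le_Ns' hj), c.yB]
    have k2 : X ⊓ (A ⊔ A') ≤ A ⊓ A' ⊓ C1 t := fun v hv => by
      have e := comm_of_sq h2 v hv.1 t ht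
      have e' : t * v * t⁻¹ = v := by rw [← e, mul_inv_cancel_right]
      refine ⟨?_, mem_C1.2 e⟩
      rcases ab.inv v hv.2 (h2 v hv.1) with k | k
      · exact ⟨k, e' ▸ tA ▸ conj_mem_cj.2 k⟩
      · exact ⟨e' ▸ tB ▸ conj_mem_cj.2 k, k⟩
    obtain ⟨a1, -, a2, -, a3, -⟩ := r.inf_eq (A' := A') (c.qA.symm ▸ ab) (by rw [c.qA])
    rw [c.qA] at a1 a3
    rw [← a1] at a2 a3
    obtain ⟨n, n1, hn⟩ := r.pow
    have q2 : 2 ≤ Fintype.card K := hn ▸ Nat.le_self_pow (by omega) 2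
    have k3 := Subgroup.card_le_of_le k2
    have k4 := Subgroup.card_le_of_le (inf_le_left : A ⊓ A' ⊓ C1 t ≤ A ⊓ A')
    have k5 : 0 < Nat.card ↥(A ⊓ A') := Nat.card_pos
    have k6 : Fintype.card K * Nat.card ↥(A ⊓ A') ≤ 2 * Nat.card ↥(A ⊓ A' ⊓ C1 t) := by omega
    have k7 : A ⊓ A' ⊓ C1 t = A ⊓ A' := eq_of_le_of_card_ge inf_le_left (by nlinarith)
    refine hq ⟨hK ▸ le_antisymm (by nlinarith) q2, le_bot_iff.1 fun d hd => c.dd.le ⟨hd, ?_⟩⟩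
    have e1 := mem_C1.1 (k7.ge (a2 hd)).2
    have e2 := ab.comm_Z hj (a2 hd)
    have e3 : y⁻¹ * d * y = d := by
      calc y⁻¹ * d * y = y⁻¹ * (d * t) * (y⁻¹ * t)⁻¹ := by group
        _ = y⁻¹ * t * d * (y⁻¹ * t)⁻¹ := by rw [e1]; group
        _ = d := by rw [← e2, mul_inv_cancel_right]
    exact mem_cj.2 (e3.symm ▸ hd)
  have hN : S ⊓ Ns (A ⊔ A') = S := by
    by_contra hne
    obtain ⟨s, hs, hs'⟩ := SetLike.exists_of_lt (lt_inf_normalizer hS (lt_of_le_of_ne inf_le_left hne))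
    have key : ∀ X ≤ A ⊔ A', (∀ e ∈ X, e * e = 1) → Nat.card X = Nat.card A → cj s X ≤ A ⊔ A' := by
      intro X hX h4 h5
      rcases wk (cj s X) ((cj_mono s (hX.trans (le_inf hJS le_normalizer))).trans
        (mem_Ns_iff.1 hs.2).le) (AB.sq_cj h4 s) (by rw [card_cj, h5]) with e | e <;> rw [e]
      exacts [le_sup_left, le_sup_right]
    refine hs' ⟨hs.1, mem_normalizer_of_cj_le ?_⟩
    rw [cj_sup]
    exact sup_le (key A le_sup_left ab.sqA rfl) (key A' le_sup_right ab.sqB cA)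
  rw [hN] at dec wk
  exact ⟨hS, ab, hJS, c.yS, c.yA, c.yB, fun s hs => (em _).imp_right (dec s hs), wk⟩

end Cfsg.Lib.HM
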