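import Cfsg.Agent.HM.St

/-! Moving a subgroup to a fully normalized conjugate. -/

set_option autoImplicit false

open scoped commutatorElement MatrixGroups

namespace Cfsg.Lib.HM

open Cfsg Subgroup
open Cfsg.Lib.Fus hiding cj IsSylowIn
open Cfsg.Lib.Trans (cj IsSylowIn QDFrame)
open Cfsg.Lib.Gold (Ns Cs C1)
open Cfsg.Lib.Gomi (AB PosC ZZ E2)
open Cfsg.Lib.GCT (RB RQ WW QQ VV DD K0 MC)
open Cfsg.Lib.Rank2 (SylEmb DFrame)
open Cfsg.Lib.Fus.Rk2 (FHas TwoCl Rigid autF pullE)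

universe u

variable {Γ : Type u} [Group Γ] [Finite Γ] {S P U : Subgroup Γ} {F : FusionSystem S} {h : Γ}

theorem Sat.of_piso (s : Sat F) {T Q : Subgroup Γ} {f : Equiv.Perm Γ} (m : Mor F T f)
    (i : PIso F f P Q) (hP : P ≤ T) : ∃ h, R F T h ∧ cj h P = Q := by
  obtain ⟨h, r, e⟩ := s.univ.exists_R m
  refine ⟨h, r, ?_⟩
  rw [← i.img_eq, img_congr fun x hx => e x (hP hx), img_conj]

/-- a fully normalized conjugate -/
theorem Sat.exists_fn (s : Sat F) (hP : P ≤ S) :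
    ∃ h, R F (S ⊓ Ns P) h ∧ F.IsFullyNormalized (cj h P) := by
  obtain ⟨Q, f, m, i, n⟩ := sat_exists_fullyNormalized s.two s.sat hP
  obtain ⟨h, r, rfl⟩ := s.of_piso m i (le_normalizerIn hP)
  exact ⟨h, r, n⟩

/-- back to a fully normalized subgroup -/
theorem Sat.to_fn (s : Sat F) (n : F.IsFullyNormalized U) (r : R F U h) :
    ∃ k, R F (S ⊓ Ns (cj h U)) k ∧ cj k (cj h U) = U := by
  have c : F.IsConj U (cj h U) := by
    have := Mor.isConj r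
    rwa [img_conj] at this
  obtain ⟨f, i⟩ := isConj_iff_piso.1 (isConj_symm c)
  obtain ⟨f', m, i'⟩ := sat_normalizer_mor s.two s.sat i n
  exact s.of_piso m i' (le_normalizerIn r.cj_le)

theorem R.cj_le_inf {Q : Subgroup Γ} {g : Γ} (r : R F Q g) (hQ : Q ≤ S ⊓ Ns P) (hg : g ∈ Ns P) :
    cj g Q ≤ S ⊓ Ns P :=
  le_inf r.cj_le (Trans.cj_le_of_mem_of_le hg (hQ.trans inf_le_right))

theorem R.cj_norm_le (r : R F (S ⊓ Ns P) h) : cj h (S ⊓ Ns P) ≤ S ⊓ Ns (cj h P) :=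
  le_inf r.cj_le (Gold.cj_Ns h P ▸ Trans.cj_mono h inf_le_right)

theorem conj_mem_Ns {g : Γ} (hg : g ∈ Ns P) (h : Γ) : h * g * h⁻¹ ∈ Ns (cj h P) :=
  Gold.cj_Ns h P ▸ Trans.cj_le_iff.1 le_rfl g hg

theorem img_conj_eq {g : Γ} (hg : g ∈ Ns P) : img P (fun x => g * x * g⁻¹) = P :=
  img_conj_eq_self_iff.2 hg

end Cfsg.Lib.HM
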