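import Cfsg.Agent.HM.JsK
import Cfsg.Agent.HM.Nm0

/-! Fusion facts that hold in every system over `S`. -/

set_option autoImplicit false

open scoped commutatorElement MatrixGroups

namespace Cfsg.Lib.HM

open Cfsg Subgroup
open Cfsg.Lib.Fus hiding cj IsSylowIn
open Cfsg.Lib.Trans (cj IsSylowIn QDFrame)
open Cfsg.Lib.Gold (Ns Cs C1)
open Cfsg.Lib.Gomi (AB PosC ZZ E2)
open Cfsg.Lib.GCT (RB RQ WW QQ VV DD K0 MC)
open Cfsg.Lib.Rank2 (SylEmb DFrame)
open Cfsg.Lib.Fus.Rk2 (FHas TwoCl Rigid autF pullE)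

universe u

namespace JsFAux

variable {Γ : Type u} [Group Γ] [Finite Γ] {S A A' : Subgroup Γ} {F N : FusionSystem S} {g y : Γ}

theorem img_or (h : Js S A A' y) {f : Γ → Γ} (m : Mor F A f) : img A f = A ∨ img A f = A' :=
  h.wk _ m.img_le (fun e he => by
    obtain ⟨a, ha, rfl⟩ := m.mem_img.1 he
    rw [← m.map_mul ha ha, h.ab.sqA a ha, m.map_one]) m.card_img.ge

theorem cj_or (h : Js S A A' y) (hg : cj g A ≤ S) : cj g A = A ∨ cj g A = A' :=
  h.wk _ hg (AB.sq_cj h.ab.sqA g) (Trans.card_cj g A).ge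

theorem inf_Ns (h : Js S A A' y) : S ⊓ Ns A = A ⊔ A' :=
  le_antisymm (fun _ hs => by_contra fun n =>
    h.ab.nle ((Gold.mem_Ns_iff.1 hs.2).symm.trans (h.cjA hs.1 n)).le) (le_inf h.le h.ab.S_le_Ns)

theorem cent_le (h : Js S A A' y) : S ⊓ Cs A ≤ A := fun _ hc =>
  h.ab.inf_Cs.le ⟨(inf_Ns h).le ⟨hc.1, Gold.Cs_le_Ns hc.2⟩, hc.2⟩

theorem centric (h : Js S A A' y) : F.IsCentric A :=
  isCentric_iff.2 ⟨le_sup_left.trans h.le, fun _ m =>
    (img_or h m).elim (fun e => e.symm ▸ cent_le h) fun e => e.symm ▸ cent_le h.symm⟩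

theorem fn (h : Js S A A' y) : F.IsFullyNormalized A := by
  refine isFullyNormalized_iff.2 ⟨le_sup_left.trans h.le, fun f m => ?_⟩
  rcases img_or h m with e | e <;> rw [e]
  exact Subgroup.card_le_of_le ((inf_Ns h.symm).trans ((sup_comm _ _).trans (inf_Ns h).symm)).le

theorem mem_Ns (h : Js S A A' y) (hg : cj g (A ⊔ A') ≤ S) : g ∈ Ns (A ⊔ A') := by
  refine Trans.mem_normalizer_of_cj_le ?_
  rw [Trans.cj_sup] at hg ⊢
  exact sup_le ((cj_or h (le_sup_left.trans hg)).elim (·.le.trans le_sup_left) (·.le.trans le_sup_right))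
    ((cj_or h.symm (le_sup_right.trans hg)).elim (·.le.trans le_sup_right) (·.le.trans le_sup_left))

theorem swap (h : Js S A A' y) (aa : ∀ g ∈ Ns A, R N A g → R F A g) (hg : g ∈ Ns A')
    (r : R N A' g) : R F A' g := by
  have r1 := r.conj (R.of_mem N le_rfl h.yS) r.le r.cj_le
  have n := conj_mem_Ns hg y
  rw [h.yB] at r1 n
  have r2 := aa _ n r1
  have := r2.conj (R.of_mem F le_rfl (inv_mem h.yS)) r2.le r2.cj_le
  rwa [← h.yB, Trans.cj_inv_cj, show y⁻¹ * (y * g * y⁻¹) * y⁻¹⁻¹ = g by group] at this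

end JsFAux

open JsFAux in
theorem st_JsF : St_JsF.{u} := fun h =>
  ⟨centric h, fn h, isCentric_of_le (centric h) le_sup_left h.le,
    isFullyNormalized_of_le_normalizer h.le h.nJ, inf_Ns h, h.nJ, fun _ => mem_Ns h,
    fun _ => cj_or h, fun _ => h.ch⟩

end Cfsg.Lib.HM
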