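import Cfsg.Agent.HM.Nm0

/-! The model of a bad subgroup is not inside the subsystem. -/

set_option autoImplicit false

open scoped commutatorElement MatrixGroups

namespace Cfsg.Lib.HM

open Cfsg Subgroup
open Cfsg.Lib.Fus hiding cj IsSylowIn
open Cfsg.Lib.Trans (cj IsSylowIn QDFrame)
open Cfsg.Lib.Gold (Ns Cs C1)
open Cfsg.Lib.Gomi (AB PosC ZZ E2)
open Cfsg.Lib.GCT (RB RQ WW QQ VV DD K0 MC)
open Cfsg.Lib.Rank2 (SylEmb DFrame)
open Cfsg.Lib.Fus.Rk2 (FHas TwoCl Rigid autF pullE)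

universe u

theorem Mdl.le_core {Γ : Type u} [Group Γ] [Finite Γ] {S U M : Subgroup Γ} {F : FusionSystem S}
    (m : Mdl F U M) : U ≤ pCoreOf 2 M :=
  have h : U ≤ S ⊓ Ns U := le_inf m.le le_normalizer
  Local.le_pCoreOf (h.trans m.syl.le) m.nU (m.syl.isPGroup.to_le h)

theorem Mdl.centric {Γ : Type u} [Group Γ] [Finite Γ] {S U M : Subgroup Γ} {F : FusionSystem S}
    (m : Mdl F U M) (s : Sat F) (n : F.IsFullyNormalized U) : F.IsCentric (pCoreOf 2 M) := by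
  have h1 := m.le_core
  have h2 := Local.pCoreOf_le_sylowIn m.syl
  refine isCentric_iff.2 ⟨h2.trans inf_le_left, fun f hf => ?_⟩
  obtain ⟨h, r, e⟩ := s.univ.exists_R hf
  rw [img_congr e, img_conj, Trans.cj_def]
  obtain ⟨k, rk, ek⟩ := s.to_fn n (r.mono h1)
  have hO : cj h (pCoreOf 2 M) ≤ S ⊓ Ns (cj h U) :=
    le_inf r.cj_le (Gold.cj_Ns h U ▸ Trans.cj_mono h (h2.trans inf_le_right))
  obtain ⟨x, hx, ex⟩ := m.ext _ _ h1 h2 (r.comp rk hO) (Gold.mem_Ns_iff.2 (by rwa [Trans.cj_mul]))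
  have eO : cj k (cj h (pCoreOf 2 M)) = pCoreOf 2 M := by
    rw [Trans.cj_cj, ← Gold.mem_Ns_iff]
    exact mem_normalizer_of_finite fun y hy =>
      ex y hy ▸ Trans.mem_normalizer_conj (Local.le_normalizer_pCoreOf M hx) hy
  intro c hc
  have c1 : k * c * k⁻¹ ∈ Cs (pCoreOf 2 M) := by
    rw [← eO, ← Gold.cj_Cs]
    exact Trans.cj_le_iff.1 le_rfl c hc.2
  have c2 := rk.maps ⟨hc.1, Gold.Cs_le_Ns (Gold.Cs_anti (Trans.cj_mono h h1) hc.2)⟩
  have := m.chp ⟨m.syl.le ⟨c2, Gold.Cs_le_Ns (Gold.Cs_anti h1 c1)⟩, c1⟩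
  rw [← eO, Trans.mem_cj] at this
  simpa only [mul_assoc, inv_mul_cancel_left, inv_mul_cancel, mul_one] using this

theorem st_K (hCen : St_Cen.{u}) : St_K.{u} := by
  rintro Γ _ _ S F N U M s hN hle n m ⟨-, -, Q, g, hUQ, hQ, hg, r, nr⟩ hM
  have h2 := Local.pCoreOf_le_sylowIn m.syl
  obtain ⟨x, hx, ex⟩ := m.ext Q g hUQ hQ r hg
  obtain ⟨nx, rx⟩ := (mem_NF (h2.trans inf_le_left)).1 (hM hx)
  refine nr (((hCen s hN hle (m.centric s n) le_sup_right (m.mor x hx _ (sup_le hQ h2) ?_)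
    rx).mono le_sup_left).congr ex)
  rw [Trans.cj_sup]
  exact sup_le (Trans.cj_le_iff.2 fun y hy => (ex y hy).symm ▸ r.maps hy) rx.cj_le

end Cfsg.Lib.HM
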