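import Cfsg.Agent.HM.St

/-! Minimal 2-fusion systems in the pushing-up case: the configuration `K0` inside the model. -/

set_option autoImplicit false

open scoped commutatorElement

namespace Cfsg.Lib.HM

open Cfsg Subgroup Cfsg.Lib.Solv Cfsg.Lib.Trans Cfsg.Lib.Trans.TJ Cfsg.Lib.Trans.MP
  Cfsg.Lib.Trans.PU Cfsg.Lib.Trans.BB Cfsg.Lib.Local.MSS Cfsg.Lib.Gold
open Cfsg.Lib.Gomi (AB ZZ E2)
open Cfsg.Lib.GCT (RB RQ WW QQ VV DD K0)

universe u

namespace K0Aux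

variable {G : Type u} [Group G] {M A : Subgroup G}

theorem ns_of {x : M} (h : (x : G) ∈ Ns A) : x ∈ Ns (A.subgroupOf M) :=
  cj_eq_self_iff.1 (by rw [← subgroupOf_cj, cj_eq_of_mem_normalizer h])

theorem ns_up (hA : A ≤ M) {x : M} (h : x ∈ Ns (A.subgroupOf M)) : (x : G) ∈ Ns A := by
  have := red_norm_map (f := M.subtype) h
  rwa [map_subgroupOf_eq_of_le hA] at this

theorem cs_iff (hA : A ≤ M) {x : M} : x ∈ Cs (A.subgroupOf M) ↔ (x : G) ∈ Cs A := by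
  rw [← mem_cent_map_iff M.subtype_injective, map_subgroupOf_eq_of_le hA]; rfl

end K0Aux

open K0Aux in
theorem st_K0 (hInv : St_Inv.{u}) : St_K0.{u} := by
  intro Γ _ _ S F q A A' M E y c hq
  have : Fact (Nat.Prime 2) := ⟨Nat.prime_two⟩
  have JT : A ⊔ A' ≤ S ⊓ Ns A := c.bau ▸ bau_le _
  have TM := c.mdl.syl.le
  have JM := JT.trans TM
  have AM := le_sup_left.trans JM
  have BM := le_sup_right.trans JM
  obtain ⟨K, _, _, θ, ψ, hK, r⟩ := c.rm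
  obtain ⟨K', _, _, θ', ψ', -, r'⟩ := c.rq
  have eS : A.subgroupOf M ⊔ A'.subgroupOf M = (A ⊔ A').subgroupOf M :=
    (subgroupOf_sup AM BM).symm
  have eQ : QQ ((A ⊔ A').subgroupOf M) (E.subgroupOf M) = A.subgroupOf M := by
    rw [QQ, ← subgroupOf_sup c.EM JM, Local.pCoreOf_subgroupOf_of_le (sup_le c.EM JM)]
    exact congrArg (fun X => subgroupOf X M) c.qA
  have eD : DD ((A ⊔ A').subgroupOf M) (E.subgroupOf M) = (DD (A ⊔ A') E).subgroupOf M :=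
    Subgroup.ext fun x => and_congr Iff.rfl (cs_iff c.EM)
  have ab := c.ab.subgroupOf JM
  obtain ⟨P, -, z⟩ := r.par (A' := A'.subgroupOf M) (eQ.symm ▸ ab) (by rw [eQ, eS]) (hK ▸ hq)
    fun x _ => ns_of (c.nE x.2)
  obtain ⟨a1, -⟩ := r.inf_eq (A' := A'.subgroupOf M) (eQ.symm ▸ ab) (by rw [eQ, eS])
  obtain ⟨b1, b2, b3, -⟩ := r'.inf_eq (A' := A') (c.qA.symm ▸ c.ab) (by rw [c.qA])
  rw [eQ] at P z a1
  rw [eD] at z
  rw [c.qA] at b1 b2
  rw [← b1] at b3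
  have yZ : cj y (A ⊓ A') = A ⊓ A' := by rw [cj_inf, c.yA, c.yB, inf_comm]
  have dle : cj y (DD (A ⊔ A') E) ≤ A ⊓ A' := yZ ▸ cj_mono y b3
  refine ⟨K, inferInstance, inferInstance, θ, ψ, hK, ⟨⟨P, hK ▸ hq, fun x hx ⟨k, h2⟩ hz => ?_,
    fun x hx => dle hx, fun x hx => ns_of ?_, fun a ha b hb h => ?_, ?_, fun h => ?_,
    fun x h _ => ?_⟩, ?_⟩, z⟩
  · have n : x ∈ Ns ((A ⊔ A').subgroupOf M) := eS ▸ norm_sup inf_le_left inf_le_right hx
    have e1 : baumannSubgroupOf 2 ((S ⊓ Ns A).subgroupOf M) = (A ⊔ A').subgroupOf M := by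
      rw [← c.bau, ← red_bau (p := 2) TM]
      exact (comap_map_eq_self_of_injective M.subtype_injective _).symm
    have e2 := bau_eq (P := (A ⊔ A').subgroupOf M ⊔ zpowers x) c.mdl.syl.subgroupOf_top
      (r.pB.to_sup_of_normal_left' (Solv.PG.isPGroup_zpowers h2) (zpowers_le.2 n))
      (e1.le.trans le_sup_left)
    have := GCT.cent_le_bau (S := (A ⊔ A').subgroupOf M ⊔ zpowers x) (x := x)
      ⟨mem_sup_right (mem_zpowers x), by rw [e2, e1, ← a1]; exact hz⟩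
    rwa [e2, e1, ← eS] at this
  · have h1 := ns_up AM hx.1
    have h2 : (x : Γ) ∈ Ns (A ⊔ A') := norm_sup inf_le_left inf_le_right ⟨h1, ns_up BM hx.2⟩
    exact (hInv c (mem_inf.2 ⟨h1, (mem_NF (JT.trans inf_le_left)).2 ⟨h2, c.mdl.mor x x.2 _ JT (by
      rw [cj_eq_of_mem_normalizer h2]; exact JT.trans inf_le_left)⟩⟩)).2
  · have h1 : y⁻¹ * a * y ∈ A' := mem_cj.1 (c.yB.ge ha)
    have h2 : y⁻¹ * b * y ∈ A := mem_cj.1 (c.yA.ge hb)
    have h3 : ⁅y⁻¹ * a * y, y⁻¹ * b * y⁆ ∈ DD (A ⊔ A') E := by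
      have := mem_cj.1 (show ⁅(a : Γ), (b : Γ)⁆ ∈ _ from h)
      convert this using 1
      simp only [commutatorElement_def]; group
    by_cases h4 : y⁻¹ * a * y ∈ A
    · exact Or.inl (c.yA.le (mem_cj.2 h4))
    · have := r'.reg (mem_sup_right h1) (c.qA.symm ▸ h4) (b2 ▸ h2) h3.2
      exact Or.inr (c.yB.le (mem_cj.2 (c.ab.inf_Cs_S.le ⟨mem_sup_left h2, this⟩).2))
  · rw [z, eq_bot_iff]
    exact fun x hx => Subtype.ext (mem_bot.1 (c.dd.le hx))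
  · rw [z, subgroupOf_eq_bot]
    rw [subgroupOf_eq_bot, disjoint_iff, inf_eq_left.2 (dle.trans (inf_le_left.trans AM)),
      cj_eq_bot] at h
    simp [h]
  · exact absurd ((cj_eq_of_mem_normalizer (ns_of (c.mdl.nU x.2))).ge.trans h.le) ab.nle
  · rw [z, hK, Nat.card_congr (subgroupOfEquivOfLe (inf_le_left.trans JM)).toEquiv]
    exact c.dc

end Cfsg.Lib.HM
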