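import Cfsg.Agent.HM.St

/-! Normal forms in root groups. -/

set_option autoImplicit false
set_option linter.unusedSectionVars false

open scoped commutatorElement MatrixGroups

namespace Cfsg.Lib.HM

open Cfsg Subgroup
open Cfsg.Lib.Fus hiding cj IsSylowIn
open Cfsg.Lib.Trans (cj IsSylowIn QDFrame)
open Cfsg.Lib.Gold (Ns Cs C1)
open Cfsg.Lib.Gomi (AB PosC ZZ E2)
open Cfsg.Lib.GCT (RB RQ WW QQ VV DD K0 MC)
open Cfsg.Lib.Rank2 (SylEmb DFrame)
open Cfsg.Lib.Fus.Rk2 (FHas TwoCl Rigid autF pullE)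

universe u

namespace RtBAux

variable {G : Type*} [Group G] {K : Type} [Field K] {m : ℕ} {x y z v : K → G}

theorem mul (h : PosC x y z v) (h2 : (2 : K) = 0) (a b c d a' b' c' d' : K) :
    x a * y b * z c * v d * (x a' * y b' * z c' * v d') =
      x (a + a') * y (b + b') * z (c + c' + a' * b) * v (d + d' + a' ^ 2 * b) := by
  have : CharP K 2 := CharTwo.of_one_ne_zero_of_two_eq_zero one_ne_zero h2
  have sw : ∀ {p q : G}, p * q = q * p → ∀ r, q * (p * r) = p * (q * r) := fun e r => by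
    rw [← mul_assoc, ← e, mul_assoc]
  have ad : ∀ {p q s : G}, p * q = s → ∀ r, p * (q * r) = s * r := fun e r => by
    rw [← mul_assoc, e]
  simp only [mul_assoc, sw (h.xz _ _), sw (h.yz _ _), sw (h.xv _ _), sw (h.yv _ _), sw (h.zv _ _),
    ad (h.comm₂ _ _), ad (h.addX _ _), ad (h.addY _ _), ad (h.addZ _ _), h.addV]
  congr 4 <;> ring

theorem one (h : PosC x y z v) : x 0 * y 0 * z 0 * v 0 = 1 := by
  simp [Gomi.zero_of_add h.addX, Gomi.zero_of_add h.addY, Gomi.zero_of_add h.addZ,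
    Gomi.zero_of_add h.addV]

theorem mul_inv (h : PosC x y z v) (h2 : (2 : K) = 0) (a b c d : K) :
    x a * y b * z c * v d * (x a * y b * z (c + a * b) * v (d + a ^ 2 * b)) = 1 := by
  rw [mul h h2, show a + a = 0 by linear_combination a * h2,
    show b + b = 0 by linear_combination b * h2,
    show c + (c + a * b) + a * b = 0 by linear_combination (c + a * b) * h2,
    show d + (d + a ^ 2 * b) + a ^ 2 * b = 0 by linear_combination (d + a ^ 2 * b) * h2, one h]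

theorem uniq (h : Rt m x y z v) (h2 : (2 : K) = 0) {a b c d a' b' c' d' : K}
    (e : x a * y b * z c * v d = x a' * y b' * z c' * v d') :
    a = a' ∧ b = b' ∧ c = c' ∧ v (d + d') = 1 := by
  have := mul_inv h.pos h2 a' b' c' d'
  rw [← e, mul h.pos h2] at this
  obtain ⟨h3, h4, h5, h6⟩ := h.inj _ _ _ _ this
  obtain rfl : b = b' := by linear_combination h4 - b' * h2
  refine ⟨by linear_combination h3 - a' * h2, rfl,
    by linear_combination h5 - (c' + a' * b) * h2, ?_⟩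
  rw [← h6]; congr 1; linear_combination (-a' ^ 2 * b) * h2

/-- normal forms with a condition on the first two coordinates -/
def S (h : PosC x y z v) (h2 : (2 : K) = 0) (P : AddSubmonoid (K × K)) : Subgroup G where
  carrier := {g | ∃ a b c d, (a, b) ∈ P ∧ g = x a * y b * z c * v d}
  one_mem' := ⟨0, 0, 0, 0, zero_mem P, (one h).symm⟩
  mul_mem' := by
    rintro _ _ ⟨a, b, c, d, p, rfl⟩ ⟨a', b', c', d', p', rfl⟩
    exact ⟨_, _, _, _, add_mem p p', mul h h2 ..⟩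
  inv_mem' := by
    rintro _ ⟨a, b, c, d, p, rfl⟩
    exact ⟨_, _, _, _, p, inv_eq_of_mul_eq_one_right (mul_inv h h2 ..)⟩

theorem mx (a : K) : x a ∈ rA x z v := subset_closure (.inl (.inl ⟨a, rfl⟩))
theorem mz (a : K) : z a ∈ rA x z v := subset_closure (.inl (.inr ⟨a, rfl⟩))
theorem mv (a : K) : v a ∈ rA x z v := subset_closure (.inr ⟨a, rfl⟩)

theorem le_S (h : PosC x y z v) (h2 : (2 : K) = 0) (P : AddSubmonoid (K × K)) :
    ((∀ a, (a, 0) ∈ P) → rA x z v ≤ S h h2 P) ∧ ((∀ b, (0, b) ∈ P) → rA y z v ≤ S h h2 P) := by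
  have x0 := Gomi.zero_of_add h.addX
  have y0 := Gomi.zero_of_add h.addY
  have z0 := Gomi.zero_of_add h.addZ
  have v0 := Gomi.zero_of_add h.addV
  constructor <;> intro p <;> refine (closure_le _).2 ?_ <;>
    rintro _ ((⟨a, rfl⟩ | ⟨a, rfl⟩) | ⟨a, rfl⟩)
  exacts [⟨a, 0, 0, 0, p a, by simp [*]⟩, ⟨0, 0, a, 0, zero_mem P, by simp [*]⟩,
    ⟨0, 0, 0, a, zero_mem P, by simp [*]⟩, ⟨0, a, 0, 0, p a, by simp [*]⟩,
    ⟨0, 0, a, 0, zero_mem P, by simp [*]⟩, ⟨0, 0, 0, a, zero_mem P, by simp [*]⟩]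

theorem memA (h : PosC x y z v) (h2 : (2 : K) = 0) {j : G} :
    j ∈ rA x z v ↔ ∃ a c d, j = x a * y 0 * z c * v d := by
  refine ⟨fun hj => ?_, ?_⟩
  · obtain ⟨a, b, c, d, p, rfl⟩ := (le_S h h2 (AddSubmonoid.prod ⊤ ⊥)).1
      (fun a => ⟨trivial, rfl⟩) hj
    obtain rfl : b = 0 := p.2
    exact ⟨a, c, d, rfl⟩
  · rintro ⟨a, c, d, rfl⟩
    rw [Gomi.zero_of_add h.addY, mul_one]
    exact mul_mem (mul_mem (mx a) (mz c)) (mv d)

theorem memB (h : PosC x y z v) (h2 : (2 : K) = 0) {j : G} :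
    j ∈ rA y z v ↔ ∃ b c d, j = x 0 * y b * z c * v d := by
  refine ⟨fun hj => ?_, ?_⟩
  · obtain ⟨a, b, c, d, p, rfl⟩ := (le_S h h2 (AddSubmonoid.prod ⊥ ⊤)).2
      (fun a => ⟨rfl, trivial⟩) hj
    obtain rfl : a = 0 := p.1
    exact ⟨b, c, d, rfl⟩
  · rintro ⟨a, c, d, rfl⟩
    rw [Gomi.zero_of_add h.addX, one_mul]
    exact mul_mem (mul_mem (mx a) (mz c)) (mv d)

theorem memJ (h : PosC x y z v) (h2 : (2 : K) = 0) {j : G} :
    j ∈ rA x z v ⊔ rA y z v ↔ ∃ a b c d, j = x a * y b * z c * v d := by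
  refine ⟨fun hj => ?_, ?_⟩
  · obtain ⟨a, b, c, d, -, rfl⟩ := sup_le ((le_S h h2 ⊤).1 fun a => trivial)
      ((le_S h h2 ⊤).2 fun a => trivial) hj
    exact ⟨a, b, c, d, rfl⟩
  · rintro ⟨a, b, c, d, rfl⟩
    exact mul_mem (mul_mem (mul_mem (mem_sup_left (mx a)) (mem_sup_right (mx b)))
      (mem_sup_left (mz c))) (mem_sup_left (mv d))

theorem ab (h : Rt m x y z v) (h2 : (2 : K) = 0) : AB (rA x z v) (rA y z v) := by
  have p := h.pos
  have : CharP K 2 := CharTwo.of_one_ne_zero_of_two_eq_zero one_ne_zero h2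
  have s := CharTwo.add_self_eq_zero (R := K)
  have sA : ∀ a ∈ rA x z v, a * a = 1 := fun g hg => by
    obtain ⟨a, c, d, rfl⟩ := (memA p h2).1 hg
    rw [mul p h2, ← one p]; simp [s]
  have sB : ∀ a ∈ rA y z v, a * a = 1 := fun g hg => by
    obtain ⟨a, c, d, rfl⟩ := (memB p h2).1 hg
    rw [mul p h2, ← one p]; simp [s]
  refine ⟨sA, sB, le_normalizer_iff.2 fun g hg k hk => ?_, le_normalizer_iff.2 fun g hg k hk => ?_,
    fun g hg e => ?_, fun le => ?_, fun le => ?_⟩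
  · rw [inv_eq_of_mul_eq_one_right (sB g hg)]
    obtain ⟨b, c, d, rfl⟩ := (memB p h2).1 hg
    obtain ⟨a, c', d', rfl⟩ := (memA p h2).1 hk
    rw [mul p h2, mul p h2, add_zero b, s b]
    exact (memA p h2).2 ⟨_, _, _, rfl⟩
  · rw [inv_eq_of_mul_eq_one_right (sA g hg)]
    obtain ⟨b, c, d, rfl⟩ := (memA p h2).1 hg
    obtain ⟨a, c', d', rfl⟩ := (memB p h2).1 hk
    rw [mul p h2, mul p h2, add_zero b, s b]
    exact (memB p h2).2 ⟨_, _, _, rfl⟩
  · obtain ⟨a, b, c, d, rfl⟩ := (memJ p h2).1 hg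
    rw [mul p h2, s c, zero_add] at e
    rcases mul_eq_zero.1 (h.inj _ _ _ _ e).2.2.1 with rfl | rfl
    exacts [.inr ((memB p h2).2 ⟨_, _, _, rfl⟩), .inl ((memA p h2).2 ⟨_, _, _, rfl⟩)]
  · obtain ⟨b, c, d, e⟩ := (memB p h2).1 (le ((memA p h2).2 ⟨1, 0, 0, rfl⟩))
    exact one_ne_zero (uniq h h2 e).1
  · obtain ⟨b, c, d, e⟩ := (memA p h2).1 (le ((memB p h2).2 ⟨1, 0, 0, rfl⟩))
    exact one_ne_zero (uniq h h2 e).2.1

end RtBAux

open RtBAux in
theorem st_RtB : St_RtB.{u} := by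
  intro G _ K _ m x y z v h h2
  have p := h.pos
  have x0 := Gomi.zero_of_add p.addX
  have y0 := Gomi.zero_of_add p.addY
  refine ⟨fun j => memJ p h2, fun j => by simp [memA p h2, y0], fun j => by simp [memB p h2, x0],
    fun j => ⟨fun hj => ?_, ?_⟩, ab h h2⟩
  · obtain ⟨a, c, d, rfl⟩ := (memA p h2).1 hj.1
    obtain ⟨b, c', d', e⟩ := (memB p h2).1 hj.2
    exact ⟨c, d, by rw [(uniq h h2 e).1, x0, y0, one_mul, one_mul]⟩
  · rintro ⟨c, d, rfl⟩
    exact ⟨mul_mem (mz c) (mv d), mul_mem (mz c) (mv d)⟩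

end Cfsg.Lib.HM
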