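import Cfsg.Agent.HM.St
import Cfsg.Agent.HM.RtB
import Cfsg.Agent.HM.JsK

/-! Minimal 2-fusion systems: the model of the normalizer of J inside the automorphism group. -/

set_option autoImplicit false
set_option linter.unusedSectionVars false
set_option linter.unusedVariables false

open scoped commutatorElement MatrixGroups

namespace Cfsg.Lib.HM

open Cfsg Subgroup
open Cfsg.Lib.Fus hiding cj IsSylowIn
open Cfsg.Lib.Trans (cj IsSylowIn QDFrame)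
open Cfsg.Lib.Gold (Ns Cs C1)
open Cfsg.Lib.Gomi (AB PosC ZZ E2)
open Cfsg.Lib.GCT (RB RQ WW QQ VV DD K0 MC)
open Cfsg.Lib.Rank2 (SylEmb DFrame)
open Cfsg.Lib.Fus.Rk2 (FHas TwoCl Rigid autF pullE)

universe u

namespace RzK

open Cfsg.Lib.Trans Cfsg.Lib.Gold

variable {K : Type} [Field K] {m : ℕ}

theorem conj_inj {L : Type} [Group L] {X Y Z V : K → L} {n : L} {Um : Subgroup L}
    (T : Tgt m X Y Z V n Um) : Function.Injective (MulAut.conj : L →* MulAut L) := by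
  have := T.simple
  rw [← MonoidHom.ker_eq_bot_iff]
  refine (IsSimpleGroup.eq_bot_or_eq_top_of_normal _ inferInstance).resolve_right fun e => ?_
  have h1 : X 1 ∈ (MulAut.conj : L →* MulAut L).ker := e ▸ mem_top _
  have h2 : X 1 * Y 1 * (X 1)⁻¹ = Y 1 := by
    simpa using congrArg (fun φ : MulAut L => φ (Y 1)) (MonoidHom.mem_ker.1 h1)
  have h3 := T.rt.pos.comm 1 1
  have h4 : X 0 * Y 0 * Z (1 * 1) * V (1 ^ 2 * 1) = 1 := by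
    rw [Gomi.zero_of_add T.rt.pos.addX, Gomi.zero_of_add T.rt.pos.addY, one_mul, one_mul]
    have h5 : Z (1 * 1) * V (1 ^ 2 * 1) = X 1 * Y 1 * (X 1)⁻¹ * (Y 1)⁻¹ := by rw [h3]; group
    rw [h5, h2, mul_inv_cancel]
  simpa using (T.rt.inj _ _ _ _ h4).2.2.1

theorem x_inj {G : Type*} [Group G] {x y z v : K → G} (h : Rt m x y z v) (h2 : (2 : K) = 0)
    {a a' : K} (e : x a = x a') : a = a' :=
  (RtBAux.uniq h h2 (a := a) (b := 0) (c := 0) (d := 0) (a' := a') (b' := 0) (c' := 0) (d' := 0)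
    (by rw [e])).1

theorem y_inj {G : Type*} [Group G] {x y z v : K → G} (h : Rt m x y z v) (h2 : (2 : K) = 0)
    {a a' : K} (e : y a = y a') : a = a' :=
  (RtBAux.uniq h h2 (a := 0) (b := a) (c := 0) (d := 0) (a' := 0) (b' := a') (c' := 0) (d' := 0)
    (by rw [e])).2.1

section Lam

variable {Γ : Type u} [Group Γ] {S : Subgroup Γ} {F : FusionSystem S} {A A' Λ : Subgroup Γ} {s : Γ}

theorem lamJ (h : Lam F A A' s Λ) : Λ ≤ Ns (A ⊔ A') := fun l hl =>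
  mem_Ns_iff.2 (by rw [cj_sup, mem_Ns_iff.1 (h.nA hl), mem_Ns_iff.1 (h.nB hl)])

theorem nJ (h : Lam F A A' s Λ) : S ⊔ Λ ≤ Ns (A ⊔ A') := sup_le h.js.nJ (lamJ h)

theorem nJ' (h : Lam F A A' s Λ) : zpowers s ⊔ Λ ≤ Ns (A ⊔ A') :=
  sup_le (zpowers_le.2 h.js.yNJ) (lamJ h)

theorem JH (h : Lam F A A' s Λ) : A ⊔ A' ≤ S ⊔ Λ := h.js.le.trans le_sup_left

theorem nA0 (h : Lam F A A' s Λ) : (A ⊔ A') ⊔ Λ ≤ Ns A := sup_le h.js.ab.S_le_Ns h.nA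

theorem sA (h : Lam F A A' s Λ) : s ∉ Ns A := fun e =>
  h.js.ab.nle ((mem_Ns_iff.1 e).symm.trans h.js.yA).le

theorem memJ_of (h : Lam F A A' s Λ) {t : Γ} (ht : t ∈ S) (hA : t ∈ Ns A) : t ∈ A ⊔ A' := by
  refine (h.js.dec t ht).resolve_right fun e => sA h ?_
  have := mul_mem hA (inv_mem (h.js.ab.S_le_Ns e))
  simpa using this

theorem nF (h : Lam F A A' s Λ) {k : Γ} (hk : k ∈ S ⊔ Λ) (hA : k ∈ Ns A) : k ∈ NF F A := by
  have hle : A ≤ S := le_sup_left.trans h.js.le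
  exact (mem_NF hle).2 ⟨hA, h.morJ k hk A hle ((mem_Ns_iff.1 hA).le.trans hle)⟩

end Lam

section Gr

variable {Γ : Type u} [Group Γ] {L : Type} [Group L] {H : Subgroup Γ}

/-- the pairs `(a, b)` with `ι a` the conjugation by `b` -/
def Gr (ι : H →* MulAut L) : Subgroup (Γ × L) where
  carrier := {p | p.1 ∈ H ∧ extFun ι p.1 = MulAut.conj p.2}
  one_mem' := ⟨one_mem _, by simpa using (mulOn_extFun ι).map_one⟩
  mul_mem' := fun {a b} ha hb => ⟨mul_mem ha.1 hb.1, by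
    rw [Prod.fst_mul, Prod.snd_mul, (mulOn_extFun ι).map_mul ha.1 hb.1, ha.2, hb.2, map_mul]⟩
  inv_mem' := fun {a} ha => ⟨inv_mem ha.1, by
    rw [Prod.fst_inv, Prod.snd_inv, (mulOn_extFun ι).map_inv ha.1, ha.2, map_inv]⟩

variable {ι : H →* MulAut L}

theorem mem_Gr {a : Γ} {b : L} : (a, b) ∈ Gr ι ↔ a ∈ H ∧ extFun ι a = MulAut.conj b := Iff.rfl

theorem mem_Gr_of {a : Γ} {b : L} (h : ∃ h : a ∈ H, ι ⟨a, h⟩ = MulAut.conj b) : (a, b) ∈ Gr ι := by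
  obtain ⟨h, e⟩ := h
  exact ⟨h, (extFun_of_mem ι h).trans e⟩

/-- `P` and `Q` correspond -/
def Cor (ι : H →* MulAut L) (P : Subgroup Γ) (Q : Subgroup L) : Prop :=
  (∀ a ∈ P, ∃ b ∈ Q, (a, b) ∈ Gr ι) ∧ ∀ b ∈ Q, ∃ a ∈ P, (a, b) ∈ Gr ι

theorem cor_iff {P : Subgroup Γ} {Q : Subgroup L} : Cor ι P Q ↔
    P ≤ (Gr ι ⊓ Q.comap (MonoidHom.snd Γ L)).map (MonoidHom.fst Γ L) ∧
      Q ≤ (Gr ι ⊓ P.comap (MonoidHom.fst Γ L)).map (MonoidHom.snd Γ L) := by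
  constructor
  · rintro ⟨h1, h2⟩
    refine ⟨fun a ha => ?_, fun b hb => ?_⟩
    · obtain ⟨b, hb, e⟩ := h1 a ha
      exact ⟨(a, b), ⟨e, hb⟩, rfl⟩
    · obtain ⟨a, ha, e⟩ := h2 b hb
      exact ⟨(a, b), ⟨e, ha⟩, rfl⟩
  · rintro ⟨h1, h2⟩
    refine ⟨fun a ha => ?_, fun b hb => ?_⟩
    · obtain ⟨⟨a, b⟩, ⟨e, hb⟩, rfl⟩ := h1 ha
      exact ⟨b, hb, e⟩
    · obtain ⟨⟨a, b⟩, ⟨e, ha⟩, rfl⟩ := h2 hb
      exact ⟨a, ha, e⟩

theorem Cor.sup {P P' : Subgroup Γ} {Q Q' : Subgroup L} (h : Cor ι P Q) (h' : Cor ι P' Q') :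
    Cor ι (P ⊔ P') (Q ⊔ Q') := by
  rw [cor_iff] at h h' ⊢
  refine ⟨sup_le (h.1.trans ?_) (h'.1.trans ?_), sup_le (h.2.trans ?_) (h'.2.trans ?_)⟩ <;>
    refine map_mono (inf_le_inf_left _ (comap_mono ?_)) <;> simp

theorem cor_rA {x z v : K → Γ} {X Z V : K → L} (hx : ∀ a, (x a, X a) ∈ Gr ι)
    (hz : ∀ a, (z a, Z a) ∈ Gr ι) (hv : ∀ a, (v a, V a) ∈ Gr ι) : Cor ι (rA x z v) (rA X Z V) := by
  rw [cor_iff]
  constructor <;> refine (closure_le _).2 ?_ <;> rintro _ ((⟨a, rfl⟩ | ⟨a, rfl⟩) | ⟨a, rfl⟩)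
  exacts [⟨_, ⟨hx a, RtBAux.mx a⟩, rfl⟩, ⟨_, ⟨hz a, RtBAux.mz a⟩, rfl⟩, ⟨_, ⟨hv a, RtBAux.mv a⟩, rfl⟩,
    ⟨_, ⟨hx a, RtBAux.mx a⟩, rfl⟩, ⟨_, ⟨hz a, RtBAux.mz a⟩, rfl⟩, ⟨_, ⟨hv a, RtBAux.mv a⟩, rfl⟩]

/-- transfer of conjugation from `Γ` to `L` -/
theorem Cor.cj_le (hc : Function.Injective (MulAut.conj : L →* MulAut L)) {P P' : Subgroup Γ}
    {Q Q' : Subgroup L} (h : Cor ι P Q) (h' : Cor ι P' Q') {l : L}
    (e : ∀ a ∈ P, ∃ a' ∈ P', extFun ι a' = MulAut.conj l * extFun ι a * (MulAut.conj l)⁻¹) :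
    cj l Q ≤ Q' := by
  refine cj_le_iff.2 fun b hb => ?_
  obtain ⟨a, ha, e1⟩ := h.2 b hb
  obtain ⟨a', ha', e2⟩ := e a ha
  obtain ⟨b', hb', e3⟩ := h'.1 a' ha'
  have : l * b * l⁻¹ = b' := hc (by rw [map_mul, map_mul, map_inv, ← e1.2, ← e3.2, e2])
  rwa [this]

variable {H₀ : Subgroup Γ} {x y z v : K → Γ} {X Y Z V : K → L}

theorem corA (h : Rz H H₀ x y z v X Y Z V ι) : Cor ι (rA x z v) (rA X Z V) :=
  cor_rA (fun a => mem_Gr_of (h.ix a)) (fun a => mem_Gr_of (h.iz a)) fun a => mem_Gr_of (h.iv a)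

theorem corB (h : Rz H H₀ x y z v X Y Z V ι) : Cor ι (rA y z v) (rA Y Z V) :=
  cor_rA (fun a => mem_Gr_of (h.iy a)) (fun a => mem_Gr_of (h.iz a)) fun a => mem_Gr_of (h.iv a)

theorem corJ (h : Rz H H₀ x y z v X Y Z V ι) :
    Cor ι (rA x z v ⊔ rA y z v) (rA X Z V ⊔ rA Y Z V) := (corA h).sup (corB h)

theorem exists_dec {γ : MulAut L} (h : γ ∈ GG ι) :
    ∃ l : L, ∃ k ∈ H, γ = MulAut.conj l * extFun ι k := by
  have : (MulAut.conj : L →* MulAut L).range.Normal := ⟨by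
    rintro _ ⟨l, rfl⟩ φ
    exact ⟨φ l, by ext t; simp⟩⟩
  obtain ⟨_, ⟨l, rfl⟩, _, ⟨k, rfl⟩, rfl⟩ := mem_sup_of_normal_left.1 h
  exact ⟨l, k, k.2, by rw [extFun_coe]⟩

theorem ext_mem {k : Γ} (hk : k ∈ H) : extFun ι k ∈ GG ι :=
  mem_sup_right (extFun_mem_range' ι hk)

theorem conj_mem (l : L) : MulAut.conj l ∈ GG ι := mem_sup_left ⟨l, rfl⟩

end Gr

section Pull

variable {Γ : Type u} [Group Γ] {S Λ : Subgroup Γ} {L : Type} [Group L]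
  {ι : ↥(S ⊔ Λ) →* MulAut L}

theorem mor_pull (E : SylEmb S (GG ι)) (hE : ∀ t : S, (E.j t : MulAut L) = ι ⟨t, mem_sup_left t.2⟩)
    {P : Subgroup Γ} {f : Γ → Γ} : Mor (pullE E) P f ↔ P ≤ S ∧ (∀ x ∈ P, f x ∈ S) ∧
      ∃ γ ∈ GG ι, ∀ x ∈ P, extFun ι (f x) = γ * extFun ι x * γ⁻¹ := by
  have k : ∀ t ∈ S, ((extFun E.j t : GG ι) : MulAut L) = extFun ι t := fun t ht => by
    rw [extFun_of_mem _ ht, extFun_of_mem _ (mem_sup_left ht)]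
    exact hE ⟨t, ht⟩
  rw [mor_iff_of_realized (Rk2.pullE_realized E)]
  refine and_congr_right fun h1 => and_congr_right fun h2 => ⟨?_, ?_⟩
  · rintro ⟨γ, hγ⟩
    refine ⟨γ, γ.2, fun x hx => ?_⟩
    have := congrArg Subtype.val (hγ x hx)
    rwa [coe_mul, coe_mul, coe_inv, k _ (h2 x hx), k _ (h1 hx)] at this
  · rintro ⟨γ, hγ, e⟩
    refine ⟨⟨γ, hγ⟩, fun x hx => Subtype.ext ?_⟩
    rw [coe_mul, coe_mul, coe_inv, k _ (h2 x hx), k _ (h1 hx)]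
    exact e x hx

end Pull

end RzK

end Cfsg.Lib.HM
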