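import Cfsg.Agent.HM.St
import Cfsg.Agent.HM.RzK

/-! Minimal 2-fusion systems: the complement acts on the target. -/

set_option autoImplicit false
set_option linter.unusedSectionVars false
set_option linter.unusedVariables false

open scoped commutatorElement MatrixGroups

namespace Cfsg.Lib.HM

open Cfsg Subgroup
open Cfsg.Lib.Fus hiding cj IsSylowIn
open Cfsg.Lib.Trans (cj IsSylowIn QDFrame)
open Cfsg.Lib.Gold (Ns Cs C1)
open Cfsg.Lib.Gomi (AB PosC ZZ E2)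
open Cfsg.Lib.GCT (RB RQ WW QQ VV DD K0 MC)
open Cfsg.Lib.Rank2 (SylEmb DFrame)
open Cfsg.Lib.Fus.Rk2 (FHas TwoCl Rigid autF pullE)

universe u

namespace KapAux

open Cfsg.Lib.Trans Cfsg.Lib.Gold

variable {Γ : Type u} [Group Γ] {L : Type} [Group L]

/-- `φ` normalises `Um` and acts on the image of `J` like `h` -/
def Good (J : Subgroup Γ) (Um : Subgroup L) (j : Γ → L) (h : Γ) (φ : MulAut L) : Prop :=
  φ ∈ Fx Um ∧ ∀ w ∈ J, φ (j w) = j (h * w * h⁻¹)

variable {J : Subgroup Γ} {Um : Subgroup L} {j : Γ → L}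

theorem Good.mul {h h' : Γ} {φ φ' : MulAut L} (a : Good J Um j h φ) (b : Good J Um j h' φ')
    (hn : h' ∈ Ns J) : Good J Um j (h * h') (φ * φ') :=
  ⟨mul_mem a.1 b.1, fun w hw => by
    rw [MulAut.mul_apply, b.2 w hw, a.2 _ (mem_normalizer_conj hn hw)]
    congr 1; group⟩

theorem Good.inv {h : Γ} {φ : MulAut L} (a : Good J Um j h φ) (hn : h ∈ Ns J) :
    Good J Um j h⁻¹ φ⁻¹ :=
  ⟨inv_mem a.1, fun w hw => by
    have := a.2 _ (mem_normalizer_conj (inv_mem hn) hw)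
    rw [show h * (h⁻¹ * w * h⁻¹⁻¹) * h⁻¹ = w by group] at this
    rw [← this, MulAut.inv_apply_self]⟩

/-- the elements that act -/
def Act (J : Subgroup Γ) (Um : Subgroup L) (j : Γ → L) : Subgroup Γ where
  carrier := {h | h ∈ Ns J ∧ ∃ φ, Good J Um j h φ}
  one_mem' := ⟨one_mem _, 1, one_mem _, fun w _ => by simp⟩
  mul_mem' := by
    rintro a b ⟨ha, φ, h1⟩ ⟨hb, φ', h2⟩
    exact ⟨mul_mem ha hb, _, h1.mul h2 hb⟩
  inv_mem' := by
    rintro a ⟨ha, φ, h1⟩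
    exact ⟨inv_mem ha, _, h1.inv ha⟩

end KapAux

open KapAux Cfsg.Lib.Trans Cfsg.Lib.Gold in
theorem st_Kap (hRtG : St_RtG.{u}) : St_Kap.{u} := by
  intro Γ _ _ S F K _ _ m x y z v u s Λ fr hq L _ _ X Y Z V n Um T j hj jx jy
  obtain ⟨gen, -, -⟩ := hRtG fr.rt fr.two hq
  set J := rA x z v ⊔ rA y z v with hJ
  have xJ : ∀ a, x a ∈ J := fun a => mem_sup_left (RtBAux.mx a)
  have yJ : ∀ a, y a ∈ J := fun a => mem_sup_right (RtBAux.mx a)
  have uq : ∀ h φ φ', Good J Um j h φ → Good J Um j h φ' → φ = φ' := fun h φ φ' a b => by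
    have := T.faith (φ⁻¹ * φ') (mul_mem (inv_mem a.1) b.1)
      (fun t => by rw [MulAut.mul_apply, ← jx, b.2 _ (xJ t), ← a.2 _ (xJ t), MulAut.inv_apply_self])
      (fun t => by rw [MulAut.mul_apply, ← jy, b.2 _ (yJ t), ← a.2 _ (yJ t), MulAut.inv_apply_self])
    exact inv_mul_eq_one.1 this
  have mk : ∀ h ∈ Ns J, ∀ φ ∈ Fx Um, (∀ a, φ (X a) = j (h * x a * h⁻¹)) →
      (∀ a, φ (Y a) = j (h * y a * h⁻¹)) → Good J Um j h φ := fun h hn φ hφ e1 e2 => by
    refine ⟨hφ, fun w hw => ?_⟩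
    have m1 : MulOn J fun w => φ (j w) := fun a ha b hb => by
      simp only [hj a ha b hb, map_mul]
    have m2 : MulOn J fun w => j (h * w * h⁻¹) := fun a ha b hb => by
      simp only
      rw [← hj _ (mem_normalizer_conj hn ha) _ (mem_normalizer_conj hn hb)]
      congr 1; group
    refine MulOn.eqOn_closure m1 m2 gen.ge ?_ w (gen ▸ hw)
    rintro _ (⟨a, rfl⟩ | ⟨a, rfl⟩)
    · simp only [jx, e1]
    · simp only [jy, e2]
  have le : zpowers s ⊔ Λ ≤ Act J Um j := by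
    refine sup_le (zpowers_le.2 ⟨fr.lam.js.yNJ, ?_⟩) fun l hl => ⟨RzK.lamJ fr.lam hl, ?_⟩
    · obtain ⟨f, g, σ, f0, g0, s1, s2⟩ := fr.swp
      obtain ⟨τ, hτ, t1, t2⟩ := T.swp
      obtain ⟨μ, hμ, m1, m2⟩ := T.mon g f σ g0 f0
      refine ⟨μ * τ, mk s fr.lam.js.yNJ _ (mul_mem hμ hτ) (fun a => ?_) fun a => ?_⟩
      · rw [MulAut.mul_apply, t1, m2]
        simp only at s1
        rw [s1, jy]
        simp
      · rw [MulAut.mul_apply, t2, m1]
        simp only at s2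
        rw [s2, jx]
        simp
    · obtain ⟨α, β, σ, a0, b0, s1, s2⟩ := fr.mon l hl
      obtain ⟨μ, hμ, m1, m2⟩ := T.mon α β σ a0 b0
      refine ⟨μ, mk l (RzK.lamJ fr.lam hl) _ hμ (fun a => ?_) fun a => ?_⟩
      · simp only at s1
        rw [m1, s1, jx]
      · simp only at s2
        rw [m2, s2, jy]
  have ex : ∀ h : ↥(zpowers s ⊔ Λ), ∃ φ, Good J Um j h φ := fun h => (le h.2).2
  choose κ hκ using ex
  exact ⟨MonoidHom.mk' κ fun a b => uq _ _ _ (hκ (a * b)) ((hκ a).mul (hκ b) (le b.2).1),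
    fun h => (hκ h).1, fun h => (hκ h).2⟩

end Cfsg.Lib.HM
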