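import Cfsg.Agent.HM.JsF
import Cfsg.Agent.AB.Frame
import Cfsg.Agent.FT.Prod

/-! The complement in the model of `N_F(J)`. -/

set_option autoImplicit false

open scoped commutatorElement MatrixGroups

namespace Cfsg.Lib.HM

open Cfsg Subgroup
open Cfsg.Lib.Fus hiding cj IsSylowIn
open Cfsg.Lib.Trans (cj IsSylowIn QDFrame)
open Cfsg.Lib.Gold (Ns Cs C1)
open Cfsg.Lib.Gomi (AB PosC ZZ E2)
open Cfsg.Lib.GCT (RB RQ WW QQ VV DD K0 MC)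
open Cfsg.Lib.Rank2 (SylEmb DFrame)
open Cfsg.Lib.Fus.Rk2 (FHas TwoCl Rigid autF pullE)

universe u

theorem st_Lam (_hJsF : St_JsF.{u}) (hCM : St_CM.{u}) : St_Lam.{u} := by
  rintro Γ _ _ S F A A' M y h hM ⟨g₁, m₁, g₂, m₂, t1, t2⟩
  have e : S ⊓ Ns (A ⊔ A') = S := inf_eq_left.2 h.nJ
  have syl : IsSylowIn 2 S M := e ▸ hM.syl
  have n0 : M ⊓ Ns A ≤ Ns A' := (inf_le_inf_right _ hM.nU).trans h.ab.Ns_inf_le
  have nM : M ≤ Ns (M ⊓ Ns A) := fun m hm => mem_normalizer_of_finite fun x hx =>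
    ⟨M.mul_mem (mul_mem hm hx.1) (inv_mem hm), (h.ab.cj_eq_or (hM.nU hm)).elim
      (fun k => (Ns A).mul_mem (mul_mem k hx.2) (inv_mem k)) fun k => k.2 ▸ conj_mem_Ns (n0 hx) m⟩
  have syl0 := syl.inf_normal_of_le nM inf_le_left
  rw [← inf_assoc, inf_eq_left.2 syl.le, JsFAux.inf_Ns h] at syl0
  obtain ⟨Λ, hΛ, eΛ, odd⟩ := Gomi.exists_compl (le_inf inf_le_right n0) syl0
  have nJ : Λ ≤ Ns (A ⊔ A') := (hΛ.trans inf_le_left).trans hM.nU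
  have sd : FT.SDProd (A ⊔ A') Λ (M ⊓ Ns A) := ⟨eΛ, nJ, Gold.inf_eq_bot_of_odd h.ab.isPGroup odd⟩
  have odd' := Gold.odd_card_cj odd y
  have e' : A ⊔ A' ⊔ cj y Λ = M ⊓ Ns A := by
    rw [← Gold.mem_Ns_iff.1 (nM (syl.le h.yS)), ← eΛ, Trans.cj_sup y (A ⊔ A'),
      Gold.mem_Ns_iff.1 h.yNJ]
  obtain ⟨k, hk, ek⟩ := FT.SDProd.exists_conj_eq
    ⟨e', ((le_sup_right.trans e'.le).trans inf_le_left).trans hM.nU,
      Gold.inf_eq_bot_of_odd h.ab.isPGroup odd'⟩ sd (Gold.coprime_of_odd h.ab.isPGroup odd')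
    (Gold.solv_of_two h.ab.isPGroup)
  rw [Trans.conj_smul_eq_cj, Trans.cj_cj, ← Gold.mem_Ns_iff] at ek
  have js := h.ch (mul_mem (h.le hk) h.yS) fun m => h.yJ ((mul_mem_cancel_left hk).1 m)
  generalize k * y = s at ek js
  have top : S ⊔ Λ = M := le_antisymm (sup_le syl.le (hΛ.trans inf_le_left)) fun m hm => by
    have l : M ⊓ Ns A ≤ S ⊔ Λ := eΛ ▸ sup_le_sup_right h.le _
    rcases h.ab.cj_eq_or (hM.nU hm) with k | k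
    · exact l ⟨hm, k⟩
    · exact (mul_mem_cancel_left (mem_sup_left h.yS)).1 (l ⟨mul_mem (syl.le h.yS) hm,
        Gold.mem_Ns_iff.2 (by rw [Trans.cj_mul, k.1, h.yB])⟩)
  have extJ : ∀ P g, A ⊔ A' ≤ P → R F P g → ∃ m ∈ M, ∀ p ∈ P, m * p * m⁻¹ = g * p * g⁻¹ :=
    fun P g hP r => hM.ext P g hP (r.le.trans e.ge) r (JsFAux.mem_Ns h (r.mono hP).cj_le)
  have ext0 : ∀ g ∈ Ns A, R F (A ⊔ A') g →
      ∃ j ∈ A ⊔ A', ∃ l ∈ Λ, ∀ p ∈ A ⊔ A', j * l * p * (j * l)⁻¹ = g * p * g⁻¹ := fun g hg r => by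
    obtain ⟨m, hm, em⟩ := extJ _ g le_rfl r
    obtain ⟨j, hj, l, hl, rfl⟩ := (Solv.Coprime.mem_sup_iff nJ).1 (eΛ.ge ⟨hm,
      mem_normalizer_of_finite fun a ha =>
        (em a (mem_sup_left ha)).symm ▸ Trans.mem_normalizer_conj hg ha⟩)
    exact ⟨j, hj, l, hl, em⟩
  have cJ : ∀ j ∈ A ⊔ A', (∀ l ∈ Λ, l * j = j * l) → j = 1 := fun x hx c => by
    have key : ∀ g ∈ Ns A ⊓ NF F (A ⊔ A'), ∃ j ∈ A ⊔ A', g * x * g⁻¹ = j * x * j⁻¹ := fun g hg => by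
      obtain ⟨j, hj, l, hl, em⟩ := ext0 g hg.1 ((mem_NF h.le).1 hg.2).2
      exact ⟨j, hj, by rw [← em x hx, mul_assoc j, c l hl]; group⟩
    obtain ⟨j₁, h₁, e₁⟩ := key g₁ m₁
    obtain ⟨j₂, h₂, e₂⟩ := key g₂ m₂
    have hz := t1 x hx (by rw [commutatorElement_def, e₁]; exact h.ab.comm_mem' h₁ hx)
    rw [← h.ab.comm_Z h₁ hz, mul_inv_cancel_right, mul_inv_eq_iff_eq_mul] at e₁
    rw [← h.ab.comm_Z h₂ hz, mul_inv_cancel_right, mul_inv_eq_iff_eq_mul] at e₂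
    exact t2 x hz e₁ e₂
  refine ⟨s, Λ, js, cJ _ js.yy fun l hl => ?_, odd, ek, hΛ.trans inf_le_right, hΛ.trans n0,
    top ▸ hCM hM (isCentric_self (isCentric_of_le (F := F) (JsFAux.centric h) le_sup_left h.le)),
    cJ, top ▸ fun m hm P hP => hM.mor m hm P (hP.trans e.ge), top ▸ extJ, ext0⟩
  refine commutatorElement_eq_one_iff_mul_comm.1 (eq_bot_iff.1 sd.inf
    ⟨(A ⊔ A').mul_mem (Trans.mem_normalizer_conj (nJ hl) js.yy) (inv_mem js.yy), ?_⟩ :)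
  have := mul_mem hl (Trans.mem_normalizer_conj (mul_mem ek ek) (inv_mem hl))
  rwa [← mul_assoc, ← mul_assoc] at this

end Cfsg.Lib.HM
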