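import Cfsg.Agent.HM.St
import Cfsg.Agent.AB.Frame

/-! The complement inside the model of `N_F(A)`. -/

set_option autoImplicit false

open scoped commutatorElement MatrixGroups

namespace Cfsg.Lib.HM

open Cfsg Subgroup
open Cfsg.Lib.Trans
open Cfsg.Lib.Gold
open Cfsg.Lib.Gomi

universe u

namespace LiftAux

variable {G : Type u} [Group G] {P H : Subgroup G}

theorem mem_Cs_sup (hH : H ≤ Ns P) {m : G} :
    m ∈ Cs P ⊔ H ↔ ∃ h ∈ H, ∀ j ∈ P, h * j * h⁻¹ = m * j * m⁻¹ := by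
  constructor
  · intro hm
    obtain ⟨c, hc, h, hh, rfl⟩ := Solv.exists_mul_of_mem_sup_of_le_normalizer
      (fun h hh => mem_Ns_Cs (hH hh)) hm
    refine ⟨h, hh, fun j hj => ?_⟩
    have := mem_Cs.1 hc _ (mem_normalizer_conj (hH hh) hj)
    calc h * j * h⁻¹ = h * j * h⁻¹ * c * c⁻¹ := by group
      _ = _ := by rw [this]; group
  · rintro ⟨h, hh, e⟩
    refine (mul_mem_cancel_left (mem_sup_right (inv_mem hh))).1 (mem_sup_left (mem_Cs.2 fun j hj => ?_))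
    calc j * (h⁻¹ * m) = h⁻¹ * (h * j * h⁻¹) * m := by group
      _ = _ := by rw [e j hj]; group

theorem pow_mem_Cs [Finite G] (hH : H ≤ Ns P) {m : G} (hm : m ∈ Cs P ⊔ H) :
    m ^ Nat.card H ∈ Cs P := by
  obtain ⟨h, hh, e⟩ := (mem_Cs_sup hH).1 hm
  have : ∀ n : ℕ, ∀ j ∈ P, h ^ n * j * (h ^ n)⁻¹ = m ^ n * j * (m ^ n)⁻¹ := fun n j hj => by
    induction n with
    | zero => simp
    | succ n ih =>
      have := e _ (mem_normalizer_conj (pow_mem (hH hh) n) hj)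
      calc _ = h * (h ^ n * j * (h ^ n)⁻¹) * h⁻¹ := by rw [pow_succ']; group
        _ = _ := by rw [this, ih, pow_succ']; group
  refine mem_Cs.2 fun j hj => ?_
  have h1 := this (Nat.card H) j hj
  rw [show h ^ Nat.card H = 1 from congrArg Subtype.val (pow_card_eq_one' (x := (⟨h, hh⟩ : H)))] at h1
  simpa [eq_mul_inv_iff_mul_eq] using h1

end LiftAux

open LiftAux in
theorem st_Lift : St_Lift.{u} := by
  intro Γ _ _ S F A A' M Λ s lam mdl cA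
  have ab := lam.js.ab
  have JT : A ⊔ A' ≤ S ⊓ Ns A := le_inf lam.js.le ab.S_le_Ns
  have JM : A ⊔ A' ≤ M := JT.trans mdl.syl.le
  have nJ : Λ ≤ Ns (A ⊔ A') := fun l hl => Bender.mem_Ns_sup (lam.nA hl) (lam.nB hl)
  have ZC : A ⊓ A' ≤ Cs (A ⊔ A') := ab.inf_Cs_S.ge.trans inf_le_right
  have n2 : M ⊓ (Cs (A ⊔ A') ⊔ Λ) ≤ Ns A ⊓ Ns A' := inf_le_right.trans (sup_le (le_inf
    ((Cs_anti le_sup_left).trans Cs_le_Ns) ((Cs_anti le_sup_right).trans Cs_le_Ns))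
    (le_inf lam.nA lam.nB))
  have pZ : IsPGroup 2 ↥(A ⊓ A') := Gold.isPGroup_of_sq fun a ha => ab.sqA a ha.1
  have syl : IsSylowIn 2 (A ⊓ A') (M ⊓ (Cs (A ⊔ A') ⊔ Λ)) := by
    refine isSylowIn_of_maximal (le_inf ((inf_le_left.trans le_sup_left).trans JM)
      (ZC.trans le_sup_left)) pZ fun Q hQ _ h p hp => ?_
    have h1 := pow_mem_Cs nJ (h hp).2
    have h2 : p ^ Nat.card Λ ∈ A ⊓ A' := ab.inf_Cs_S.le
      ⟨mem_sup_left (cA ⟨pow_mem (h hp).1 _, Cs_anti le_sup_left h1⟩), h1⟩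
    refine zpowers_le.2 h2 (mem_zpowers_pow_iff.2 ?_)
    obtain ⟨k, hk⟩ := IsPGroup.iff_orderOf.1 hQ ⟨p, hp⟩
    rw [← orderOf_coe] at hk
    rw [hk]
    exact (Nat.coprime_two_right.2 lam.odd).pow_right k
  obtain ⟨L, h1, h2, ho⟩ := exists_compl (A := A ⊓ A') (B := A ⊓ A')
    (fun m hm => ⟨mem_Ns_inf (n2 hm).1 (n2 hm).2, mem_Ns_inf (n2 hm).1 (n2 hm).2⟩)
    (by rwa [sup_idem])
  rw [sup_idem] at h2
  have nL : L ≤ Ns (A ⊔ A') := fun l hl => Bender.mem_Ns_sup (n2 (h1 hl)).1 (n2 (h1 hl)).2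
  refine ⟨L, h1.trans inf_le_left, ho, h1.trans n2, fun m hm => ?_, fun l hl => ?_,
    fun l hl => ((mem_Cs_sup nJ).1 (h1 hl).2).imp fun _ h => ⟨h.1, fun j hj => (h.2 j hj).symm⟩⟩
  · have h3 := mdl.nU hm.1
    obtain ⟨j, hj, l, hl, e⟩ := lam.ext0 m h3 (mdl.mor m hm.1 _ JT (by
      rw [mem_Ns_iff.1 (Bender.mem_Ns_sup h3 hm.2)]; exact lam.js.le))
    have h4 : j⁻¹ * m ∈ A ⊓ A' ⊔ L := h2.ge ⟨M.mul_mem (M.inv_mem (JM hj)) hm.1,
      (mem_Cs_sup nJ).2 ⟨l, hl, fun p hp => by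
        calc _ = j⁻¹ * (j * l * p * (j * l)⁻¹) * j := by group
          _ = _ := by rw [e p hp]; group⟩⟩
    exact (mul_mem_cancel_left (mem_sup_left (inv_mem hj))).1
      ((show A ⊓ A' ⊔ L ≤ A ⊔ A' ⊔ L from sup_le_sup_right inf_le_sup _) h4)
  · obtain ⟨m, hm, e⟩ := mdl.ext _ l le_sup_left JT (lam.morJ l (mem_sup_right hl) _ lam.js.le (by
      rw [mem_Ns_iff.1 (nJ hl)]; exact lam.js.le)) (lam.nA hl)
    have h4 : m ∈ A ⊓ A' ⊔ L := h2.ge ⟨hm, (mem_Cs_sup nJ).2 ⟨l, hl, fun p hp => (e p hp).symm⟩⟩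
    obtain ⟨l', hl', e'⟩ := (mem_Cs_sup nL).1
      ((show A ⊓ A' ⊔ L ≤ Cs (A ⊔ A') ⊔ L from sup_le_sup_right ZC _) h4)
    exact ⟨l', hl', fun j hj => (e' j hj).trans (e j hj)⟩

end Cfsg.Lib.HM
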