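import Cfsg.Agent.HM.St

/-! Minimal 2-fusion systems in the pushing-up case: the local analysis. -/

set_option autoImplicit false

namespace Cfsg.Lib.HM

open Cfsg Subgroup
open Cfsg.Lib.Fus hiding cj IsSylowIn
open Cfsg.Lib.Trans (cj IsSylowIn)
open Cfsg.Lib.Gold (Ns Cs C1)
open Cfsg.Lib.Gomi (AB)
open Cfsg.Lib.GCT (RB RQ WW QQ VV DD)

universe u

namespace LocAux

variable {Γ : Type u} [Group Γ] [Finite Γ] {S : Subgroup Γ} {F N : FusionSystem S} {U : Subgroup Γ}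

theorem round (hBig : St_Big.{u}) (hK : St_K.{u}) (hBlk : St_Blk.{u}) (hPair : St_Pair.{u})
    (mn : Min F) (hN : N.IsSaturated 2) (hle : N ≤ F) (as : AS F N) (mx : Mx F N U)
    (hU : ¬ S ≤ Ns U) :
    ∃ (q : ℕ) (M E B A : Subgroup Γ) (y : Γ), B = baumannSubgroupOf 2 (S ⊓ Ns U) ∧ A = QQ B E ∧
      Mdl F U M ∧ F.IsFullyNormalized U ∧ E ≤ M ∧ RQ q (B.subgroupOf M) (E.subgroupOf M) ∧
      RQ q B E ∧ y ∈ S ∧ y ∈ Ns (S ⊓ Ns U) ∧ (M ≤ Ns A → M ≤ Ns E) ∧ AB A (cj y A) ∧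
      A ⊔ cj y A = B ∧ cj y (cj y A) = A ∧ DD B E ⊓ cj y (DD B E) = ⊥ ∧ Nat.card (DD B E) ≤ q ∧
      Mx F N A ∧ S ⊓ Ns A = S ⊓ Ns U := by
  have : Fact (Nat.Prime 2) := ⟨Nat.prime_two⟩
  have fn := (hBig mn.toSat hle as mx).2
  obtain ⟨M, m⟩ := mn.mdl U mx.bad.1 fn
  have lt : S ⊓ Ns U < S ⊓ Ns (S ⊓ Ns U) := Trans.lt_inf_normalizer mn.two
    (lt_of_le_of_ne inf_le_left fun e => hU (inf_eq_left.1 e))
  obtain ⟨q, E, y, EM, hE, rm, r, hW, hy, hy', hn⟩ := hBlk (N := N) (Y := S ⊓ Ns (S ⊓ Ns U))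
    mx.bad.1 m (hK mn.toSat hN hle fn m mx.bad) lt.le inf_le_right fun V _ h b =>
      absurd ((Trans.card_le_of_le (le_inf inf_le_left h)).trans (mx.max V b))
        (not_le.2 (Trans.card_lt_of_lt lt))
  obtain ⟨ab, e, sw, nA, dd, dc⟩ := hPair mn.scl m EM r hW
    ((mem_NF inf_le_left).2 ⟨hy.2, R.of_mem F inf_le_left hy.1⟩) hy' _ _ rfl rfl
  have AT : QQ (baumannSubgroupOf 2 (S ⊓ Ns U)) E ≤ S ⊓ Ns U :=
    le_sup_left.trans (e.le.trans inf_le_left)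
  have bad : Bad F N (QQ (baumannSubgroupOf 2 (S ⊓ Ns U)) E) := by
    obtain ⟨g, hg, hg'⟩ := SetLike.not_le_iff_exists.1 hE
    have nO : g ∈ Ns (pCoreOf 2 M) := Local.le_normalizer_pCoreOf M (EM hg)
    have n1 : g ∈ Ns (QQ (baumannSubgroupOf 2 (S ⊓ Ns U)) E) := RB.nQ' (mem_sup_left hg)
    have hQ := sup_le (Local.pCoreOf_le_sylowIn m.syl) AT
    refine ⟨fun h => ab.nle (h.le.trans bot_le), AT.trans inf_le_left, _, g, le_sup_right,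
      le_inf (hQ.trans inf_le_left) (hQ.trans nA), n1, m.mor g (EM hg) _ hQ ?_,
      fun c => hg' ⟨nO, fun _ => c.mono le_sup_left⟩⟩
    rw [Trans.cj_sup, Trans.cj_eq_of_mem_normalizer nO, Trans.cj_eq_of_mem_normalizer n1]
    exact hQ.trans inf_le_left
  have eT := eq_of_le_of_card_le (le_inf inf_le_left nA) (mx.max _ bad)
  exact ⟨q, M, E, _, _, y, rfl, rfl, m, fn, EM, rm, r, hy.1, hy.2, hn, ab, e, sw, dd, dc,
    ⟨bad, fun P b => eT ▸ mx.max P b⟩, eT.symm⟩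

end LocAux

theorem st_Loc (hBig : St_Big.{u}) (hK : St_K.{u}) (hBlk : St_Blk.{u}) (hPair : St_Pair.{u}) :
    St_Loc.{u} := by
  intro Γ _ _ S F N U mn hN hle as mx hU
  obtain ⟨-, -, -, B, A, y, hB, -, -, -, -, -, -, -, -, -, ab, e, -, -, -, mx', eT⟩ :=
    LocAux.round hBig hK hBlk hPair mn hN hle as mx hU
  have hA : ¬ S ≤ Ns A := fun h => hU (inf_eq_left.1 (eT ▸ inf_eq_left.2 h))
  obtain ⟨q, M, E, B₁, A₁, y₁, hB₁, hA₁, m, fn, EM, rm, r, yS, yT, hn, ab₁, e₁, sw, dd, dc, -, -⟩ :=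
    LocAux.round hBig hK hBlk hPair mn hN hle as mx' hA
  have eB : B₁ = B := by rw [hB₁, hB, eT]
  have key : ∀ {X X' : Subgroup Γ}, AB X X' → X ⊔ X' = B → A ≤ X → A = X := fun ab' e' h =>
    le_antisymm h ((ab.le_or_le (le_sup_left.trans (e'.le.trans e.ge)) ab'.sqA).resolve_right
      fun c => ab.nle (h.trans c))
  have eA : A = A₁ := by
    rcases ab₁.le_or_le (le_sup_left.trans (e.le.trans (eB.ge.trans e₁.ge))) ab.sqA with h | h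
    · exact key ab₁ (e₁.trans eB) h
    have e2 := key ab₁.symm ((sup_comm _ _).trans (e₁.trans eB)) h
    obtain ⟨K, _, _, θ, ψ, -, r⟩ := r
    refine absurd (fun g hg => ?_) (r.nochar B₁ le_rfl (fun c => ab₁.nle
      (le_sup_left.trans (e₁.le.trans (c.le.trans bot_le)))) (by
        rw [subgroupOf_self]; infer_instance))
    refine Trans.cj_eq_self_iff.1 ?_
    rw [← e₁, Trans.cj_sup, ← e2, Trans.cj_eq_of_mem_normalizer (m.nU (EM hg)),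
      Trans.cj_eq_of_mem_normalizer (hA₁ ▸ r.nQ (mem_sup_left hg))]
  subst eA
  subst e₁
  exact ⟨q, A, cj y₁ A, M, E, y₁, ⟨m, fn, ab₁, EM, hn m.nU, r, rm, hA₁.symm, hB₁.symm, yS, rfl, sw,
    yT, dd, dc⟩, mx'.bad⟩

end Cfsg.Lib.HM
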