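import Cfsg.Agent.HM.St

/-! Minimal 2-fusion systems in the pushing-up case: the local analysis in final form. -/

set_option autoImplicit false

namespace Cfsg.Lib.HM

open Cfsg Subgroup
open Cfsg.Lib.GCT (DD)

universe u

theorem Cf.two_or {Γ : Type u} [Group Γ] {S : Subgroup Γ} {F : FusionSystem S}
    {q : ℕ} {A A' M E : Subgroup Γ} {y : Γ} (c : Cf F q A A' M E y) : q = 2 ∨ 2 < q := by
  obtain ⟨K, _, _, θ, ψ, rfl, -⟩ := c.rq
  have := Fintype.one_lt_card (α := K)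
  omega

theorem st_Loc2 (hLoc : St_Loc.{u}) (hTJ : St_TJ.{u}) (hTJ2 : St_TJ2.{u}) (hJs : St_Js.{u})
    (hMC : St_MC.{u}) : St_Loc2.{u} := by
  intro Γ _ _ S F N U m hN hle as mx hU
  obtain ⟨q, A, A', M, E, y, c, hb⟩ := hLoc m hN hle as mx hU
  refine ⟨A, A', y, hb, ?_⟩
  by_cases h : q = 2 ∧ DD (A ⊔ A') E = ⊥
  · exact Or.inr (hMC c m.two h.1 h.2).1
  · exact Or.inl (hJs c m.two (c.two_or.elim (hTJ2 c) (hTJ c m.scl)) h)

end Cfsg.Lib.HM
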