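import Cfsg.Agent.HM.St
import Cfsg.Agent.GCT.Two0

/-! Minimal 2-fusion systems in the pushing-up case: the maximal class case. -/

set_option autoImplicit false

open scoped commutatorElement

namespace Cfsg.Lib.HM

open Cfsg Subgroup Cfsg.Lib.Solv Cfsg.Lib.Trans Cfsg.Lib.Trans.TJ Cfsg.Lib.Trans.MP
  Cfsg.Lib.Trans.PU Cfsg.Lib.Trans.BB Cfsg.Lib.Local.MSS Cfsg.Lib.Gold
open Cfsg.Lib.Gomi (AB ZZ E2)
open Cfsg.Lib.GCT (RB RQ WW QQ VV DD K0)

universe u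

namespace MCAux

open Cfsg.Lib.Fus.Rk2 (FHas up upEquiv autF mem_autF)

variable {Γ : Type u} [Group Γ] {S : Subgroup Γ} {F : FusionSystem S}

theorem fHas_of_R {U : Subgroup S} {g : Γ} (hg : g ∈ Ns (up U)) (r : R F (up U) g)
    (ho : (orderOf g).Coprime 2) (hc : g ∉ Cs (up U)) : FHas F U := by
  let θ : Ns (up U) →* MulAut U :=
    (MulAut.congr (upEquiv U)).symm.toMonoidHom.comp (up U).normalizerMonoidHom
  have hθ : ∀ x : U, ((θ ⟨g, hg⟩ x : S) : Γ) = g * ((x : S) : Γ) * g⁻¹ := fun x => by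
    have : upEquiv U (θ ⟨g, hg⟩ x) = (up U).normalizerMonoidHom ⟨g, hg⟩ (upEquiv U x) :=
      (upEquiv U).apply_symm_apply _
    exact congrArg Subtype.val this
  refine ⟨θ ⟨g, hg⟩, mem_autF.2 ⟨_, r, fun x => (hθ x).symm⟩, ?_, fun h1 => hc ?_⟩
  · exact ho.coprime_dvd_left ((orderOf_map_dvd θ _).trans (by rw [← orderOf_coe]))
  · refine mem_centralizer_iff.2 ?_
    rintro _ ⟨x, hx, rfl⟩
    have := hθ ⟨x, hx⟩
    rw [h1] at this
    exact eq_mul_inv_iff_mul_eq.1 this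

end MCAux

theorem st_MC (hCA : St_CA.{u}) : St_MC.{u} := by
  intro Γ _ _ S F q A A' M E y c hS hq hD
  have hC := hCA c
  obtain ⟨K, _, _, θ, ψ, hK, r⟩ := c.rq
  obtain ⟨-, -, -, e1, e2, -⟩ := r.inf_eq (A' := A') (c.qA.symm ▸ c.ab) (by rw [c.qA])
  rw [c.qA, e1, hK, hq, hD, card_bot] at e2
  have hA : A ≤ S := c.mdl.le
  have hB : A' ≤ S := c.yA ▸ cj_le_iff.2 fun x hx => mul_mem (mul_mem c.yS (hA hx)) (inv_mem c.yS)
  have hc : S ⊓ Cs A ≤ A := fun x hx => hC ⟨c.mdl.syl.le ⟨hx.1, cent_le_norm _ hx.2⟩, hx.2⟩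
  have hJ : A ⊔ A' ≤ Ns A := sup_le le_normalizer c.ab.nA
  have l1 := GCT.Tw.two_mul_le (A := A ⊓ A') (X := A)
    (lt_of_le_of_ne inf_le_left fun e => c.ab.nle (e.ge.trans inf_le_right))
  have l2 := GCT.Tw.two_mul_le (A := A) (X := A ⊔ A')
    (lt_of_le_of_ne le_sup_left fun e => c.ab.nge (le_sup_right.trans e.ge))
  have l3 := GCT.Tw.two_mul_le (A := A ⊔ A') (X := S)
    (lt_of_le_of_ne (sup_le hA hB) fun e => c.ab.nle
      ((cj_eq_of_mem_normalizer (hJ (e.ge c.yS))).symm.trans c.yA).le)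
  refine ⟨GCT.mc_of_four hS hA e2 c.ab.sqA hc, by omega, A.subgroupOf S, ?_, fun x hx => ?_, ?_⟩
  · have e := subgroupOfEquivOfLe hA
    have h4 : Nat.card (A.subgroupOf S) = 4 := (Nat.card_congr e.toEquiv).trans e2
    have : Nontrivial (A.subgroupOf S) := Finite.one_lt_card_iff_nontrivial.1 (by omega)
    refine ⟨h4, (Monoid.exponent_eq_prime_iff Nat.prime_two).2 fun g hg => orderOf_eq_prime ?_ hg⟩
    rw [pow_two]
    exact Subtype.ext (Subtype.ext (c.ab.sqA _ g.2))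
  · exact hc ⟨x.2, mem_centralizer_iff.2 fun a ha =>
      congrArg Subtype.val (mem_centralizer_iff.1 hx ⟨a, hA ha⟩ ha)⟩
  · have : ∃ e ∈ E, (orderOf e).Coprime 2 ∧ e ∉ Cs A := by
      by_contra! h
      refine r.not_cent' (cent_symm ?_)
      refine le_trans ?_ (TJ.centralizer_anti (c.qA ▸ r.W_le_Q : WW E ≤ A))
      have h1 := r.res
      rw [← h1, Local.resOf_eq_closure, closure_le]
      intro g hg
      exact h g (h1.le (Local.mem_resOf hg.1 hg.2)) hg.2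
    obtain ⟨e, he, ho, hn⟩ := this
    have hN := c.mdl.nU (c.EM he)
    refine MCAux.fHas_of_R (g := e) ?_ ?_ ho ?_ <;> rw [Fus.Rk2.up_subgroupOf hA]
    · exact hN
    · exact c.mdl.mor e (c.EM he) A (le_inf hA le_normalizer) ((cj_eq_of_mem_normalizer hN).le.trans hA)
    · exact hn

end Cfsg.Lib.HM
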