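import Cfsg.Agent.HM.St
import Cfsg.Agent.HM.RzK

/-! Minimal 2-fusion systems: the model of the normalizer of J embeds in the automorphism group. -/

set_option autoImplicit false
set_option linter.unusedSectionVars false
set_option linter.unusedVariables false

open scoped commutatorElement MatrixGroups

namespace Cfsg.Lib.HM

open Cfsg Subgroup
open Cfsg.Lib.Fus hiding cj IsSylowIn
open Cfsg.Lib.Trans (cj IsSylowIn QDFrame)
open Cfsg.Lib.Gold (Ns Cs C1)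
open Cfsg.Lib.Gomi (AB PosC ZZ E2)
open Cfsg.Lib.GCT (RB RQ WW QQ VV DD K0 MC)
open Cfsg.Lib.Rank2 (SylEmb DFrame)
open Cfsg.Lib.Fus.Rk2 (FHas TwoCl Rigid autF pullE)

universe u

namespace MatchAux

open RzK Cfsg.Lib.Trans Cfsg.Lib.Gold

variable {Γ : Type u} [Group Γ] [Finite Γ] {S : Subgroup Γ} {F : FusionSystem S}
  {A A' Λ : Subgroup Γ} {s : Γ}

theorem dec' (h : Lam F A A' s Λ) {k : Γ} (hk : k ∈ zpowers s ⊔ Λ) : k ∈ Λ ∨ s * k ∈ Λ := by
  have ss : s⁻¹ = s := inv_eq_of_mul_eq_one_right h.ss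
  have cn : ∀ l ∈ Λ, s * l * s ∈ Λ := fun l hl => by
    have := mem_normalizer_conj h.sΛ hl
    rwa [ss] at this
  let W : Subgroup Γ :=
    { carrier := {k | k ∈ Λ ∨ s * k ∈ Λ}
      one_mem' := .inl (one_mem _)
      mul_mem' := by
        rintro a b (ha | ha) (hb | hb)
        · exact .inl (mul_mem ha hb)
        · refine .inr ?_
          have := mul_mem (cn a ha) hb
          rwa [show s * a * s * (s * b) = s * a * (s * s) * b by group, h.ss, mul_one,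
            mul_assoc] at this
        · exact .inr (by simpa [mul_assoc] using mul_mem ha hb)
        · refine .inl ?_
          have := mul_mem (cn _ ha) hb
          rwa [show s * (s * a) * s * (s * b) = (s * s) * a * (s * s) * b by group, h.ss, mul_one,
            one_mul] at this
      inv_mem' := by
        rintro a (ha | ha)
        · exact .inl (inv_mem ha)
        · refine .inr ?_
          have := cn _ (inv_mem ha)
          rwa [mul_inv_rev, ss, show s * (a⁻¹ * s) * s = s * a⁻¹ * (s * s) by group, h.ss,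
            mul_one] at this }
  have : zpowers s ⊔ Λ ≤ W :=
    sup_le (zpowers_le.2 (.inr (by rw [h.ss]; exact one_mem _))) fun l hl => .inl hl
  exact this hk

theorem disj (h : Lam F A A' s Λ) {k : Γ} (hk : k ∈ zpowers s ⊔ Λ) (hJ : k ∈ A ⊔ A') : k = 1 := by
  rcases dec' h hk with e | e
  · obtain ⟨n, hn⟩ := h.js.ab.isPGroup ⟨k, hJ⟩
    have h1 : orderOf k ∣ 2 ^ n := orderOf_dvd_of_pow_eq_one (congrArg Subtype.val hn)
    have h2 : orderOf k ∣ Nat.card Λ := Subgroup.orderOf_dvd_natCard Λ e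
    have h3 : (2 ^ n).Coprime (Nat.card Λ) := (Nat.coprime_two_left.2 h.odd).pow_left n
    exact orderOf_eq_one_iff.1 (Nat.eq_one_of_dvd_coprimes h3 h1 h2)
  · exact (sA h (by simpa using mul_mem (h.nA e) (inv_mem (h.js.ab.S_le_Ns hJ)))).elim

theorem dec (h : Lam F A A' s Λ) {k : Γ} (hk : k ∈ S ⊔ Λ) :
    ∃ w ∈ A ⊔ A', ∃ k' ∈ zpowers s ⊔ Λ, k = w * k' := by
  let W : Subgroup Γ :=
    { carrier := {k | ∃ w ∈ A ⊔ A', ∃ k' ∈ zpowers s ⊔ Λ, k = w * k'}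
      one_mem' := ⟨1, one_mem _, 1, one_mem _, by simp⟩
      mul_mem' := by
        rintro _ _ ⟨w, hw, k, hk, rfl⟩ ⟨w', hw', k', hk', rfl⟩
        exact ⟨_, mul_mem hw (mem_normalizer_conj (nJ' h hk) hw'), _, mul_mem hk hk', by group⟩
      inv_mem' := by
        rintro _ ⟨w, hw, k, hk, rfl⟩
        exact ⟨_, mem_normalizer_conj (nJ' h (inv_mem hk)) (inv_mem hw), _, inv_mem hk, by group⟩ }
  have : S ⊔ Λ ≤ W := by
    refine sup_le (fun t ht => ?_) fun l hl => ⟨1, one_mem _, l, mem_sup_right hl, by simp⟩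
    rcases h.js.dec t ht with e | e
    · exact ⟨t, e, 1, one_mem _, by simp⟩
    · exact ⟨_, mem_normalizer_conj h.js.yNJ e, s, mem_sup_left (mem_zpowers s), by group⟩
  exact this hk

theorem le' (h : Lam F A A' s Λ) : zpowers s ⊔ Λ ≤ S ⊔ Λ :=
  sup_le_sup_right (zpowers_le.2 h.js.yS) _

variable {L : Type} [Group L]

theorem exists_hom (h : Lam F A A' s Λ) {j : Γ → L} (hj : MulOn (A ⊔ A') j)
    (κ : ↥(zpowers s ⊔ Λ) →* MulAut L)
    (hκ : ∀ k : ↥(zpowers s ⊔ Λ), ∀ w ∈ A ⊔ A', κ k (j w) = j (k * w * (k : Γ)⁻¹)) :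
    ∃ ι : ↥(S ⊔ Λ) →* MulAut L, ∀ k : ↥(S ⊔ Λ), ∀ w ∈ A ⊔ A', ∀ k' : ↥(zpowers s ⊔ Λ),
      (k : Γ) = w * k' → ι k = MulAut.conj (j w) * κ k' := by
  have ex : ∀ k : ↥(S ⊔ Λ), ∃ φ : MulAut L, ∀ w ∈ A ⊔ A', ∀ k' : ↥(zpowers s ⊔ Λ),
      (k : Γ) = w * k' → φ = MulAut.conj (j w) * κ k' := fun k => by
    obtain ⟨w, hw, k', hk', e⟩ := dec h k.2
    refine ⟨MulAut.conj (j w) * κ ⟨k', hk'⟩, fun w₂ hw₂ k₂ e₂ => ?_⟩
    have e3 : w₂⁻¹ * w = k₂ * k'⁻¹ := by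
      rw [inv_mul_eq_iff_eq_mul, ← mul_assoc, ← e₂, e, mul_inv_cancel_right]
    have e4 : (k₂ : Γ) * k'⁻¹ = 1 :=
      disj h (mul_mem k₂.2 (inv_mem hk')) (e3 ▸ mul_mem (inv_mem hw₂) hw)
    obtain rfl : w₂ = w := inv_mul_eq_one.1 (e3.trans e4)
    obtain rfl : k₂ = ⟨k', hk'⟩ := Subtype.ext (mul_inv_eq_one.1 e4)
    rfl
  choose ι hι using ex
  refine ⟨MonoidHom.mk' ι fun a b => ?_, hι⟩
  obtain ⟨w, hw, k, hk, e⟩ := dec h a.2
  obtain ⟨w', hw', k', hk', e'⟩ := dec h b.2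
  have hw2 := mem_normalizer_conj (nJ' h hk) hw'
  rw [hι a w hw ⟨k, hk⟩ e, hι b w' hw' ⟨k', hk'⟩ e',
    hι (a * b) _ (mul_mem hw hw2) (⟨k, hk⟩ * ⟨k', hk'⟩) (by
      rw [coe_mul, e, e', coe_mul]; group), hj _ hw _ hw2, map_mul, map_mul,
    ← hκ ⟨k, hk⟩ w' hw']
  ext t
  simp

end MatchAux

open MatchAux RzK Cfsg.Lib.Trans Cfsg.Lib.Gold in
theorem st_Match (hRtB : St_RtB.{u}) (hRtG : St_RtG.{u}) (hRtHom : St_RtHom.{u})
    (hKap : St_Kap.{u}) : St_Match.{u} := by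
  intro Γ _ _ S F K _ _ m x y z v u s Λ fr hq L _ _ X Y Z V n Um T
  have hc := conj_inj T
  obtain ⟨j, hj, ji, jx, jy, jz, jv⟩ := hRtHom fr.rt T.rt fr.two
  obtain ⟨κ, κU, hκ⟩ := hKap fr hq T j hj jx jy
  obtain ⟨ι, hι⟩ := exists_hom fr.lam hj κ hκ
  have la := fr.lam
  have xJ : ∀ a, x a ∈ rA x z v ⊔ rA y z v := fun a => mem_sup_left (RtBAux.mx a)
  have yJ : ∀ a, y a ∈ rA x z v ⊔ rA y z v := fun a => mem_sup_right (RtBAux.mx a)
  have zJ : ∀ a, z a ∈ rA x z v ⊔ rA y z v := fun a => mem_sup_left (RtBAux.mz a)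
  have vJ : ∀ a, v a ∈ rA x z v ⊔ rA y z v := fun a => mem_sup_left (RtBAux.mv a)
  have iJ : ∀ w (hw : w ∈ rA x z v ⊔ rA y z v), ι ⟨w, JH la hw⟩ = MulAut.conj (j w) :=
    fun w hw => by rw [hι ⟨w, JH la hw⟩ w hw 1 (by simp), map_one, mul_one]
  refine ⟨ι, (injective_iff_map_eq_one ι).2 fun k e => ?_, fun a => ⟨_, (iJ _ (xJ a)).trans (by rw [jx])⟩,
    fun a => ⟨_, (iJ _ (yJ a)).trans (by rw [jy])⟩, fun a => ⟨_, (iJ _ (zJ a)).trans (by rw [jz])⟩,
    fun a => ⟨_, (iJ _ (vJ a)).trans (by rw [jv])⟩, fun l hl => ?_⟩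
  · have h1 : (k : Γ) ∈ Cs (rA x z v ⊔ rA y z v) := by
      refine mem_centralizer_iff.2 fun w hw => ?_
      have hw' := mem_normalizer_conj (nJ la k.2) hw
      have h2 : ι ⟨_, JH la hw'⟩ = ι ⟨w, JH la hw⟩ := by
        rw [show (⟨_, JH la hw'⟩ : ↥(S ⊔ Λ)) = k * ⟨w, JH la hw⟩ * k⁻¹ from rfl, map_mul, map_mul,
          map_inv, e]
        simp
      rw [iJ _ hw', iJ _ hw] at h2
      have h3 := ji hw' hw (hc h2)
      rw [← h3, inv_mul_cancel_right, h3]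
    have h2 := la.fai ⟨k.2, h1⟩
    have h3 := (iJ _ h2).symm.trans e
    rw [← map_one (MulAut.conj : L →* MulAut L), ← hj.map_one] at h3
    exact Subtype.ext (ji h2 (one_mem _) (hc h3))
  · obtain ⟨w, hw, h, hh, rfl, t, r, t0, r0, mx, my⟩ := T.nU l hl
    obtain ⟨a, b, c, d, rfl⟩ := (RtBAux.memJ T.rt.pos fr.two).1 hw
    have hw₀ := mul_mem (mul_mem (mul_mem (xJ a) (yJ b)) (zJ c)) (vJ d)
    have jw : j (x a * y b * z c * v d) = X a * Y b * Z c * V d := by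
      rw [hj _ (mul_mem (mul_mem (xJ a) (yJ b)) (zJ c)) _ (vJ d), hj _ (mul_mem (xJ a) (yJ b)) _ (zJ c),
        hj _ (xJ a) _ (yJ b), jx, jy, jz, jv]
    obtain ⟨f, g, σ, f0, g0, s1, s2⟩ := fr.swp
    simp only at s1 s2 mx my
    have ss : s⁻¹ = s := inv_eq_of_mul_eq_one_right la.ss
    have bk : ∀ w : Γ, s * (s * w * s⁻¹) * s⁻¹ = w := fun w => by
      rw [ss, show s * (s * w * s) * s = (s * s) * w * (s * s) by group, la.ss]; simp
    have i1 : ∀ a, g * σ (f * σ a ^ m) = a := fun a => x_inj fr.rt fr.two (by rw [← s2, ← s1, bk])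
    have i2 : ∀ a, f * σ (g * σ a) ^ m = a := fun a => y_inj fr.rt fr.two (by rw [← s1, ← s2, bk])
    obtain ⟨l₁, hl₁, a1, a2⟩ := fr.tor t t0
    obtain ⟨l₂, hl₂, b1, b2⟩ := fr.tor (σ.symm r) (by simpa using r0)
    simp only at a1 a2 b1 b2
    have hl₃ : l₁ * (s * l₂ * s⁻¹) ∈ Λ := mul_mem hl₁ (mem_normalizer_conj la.sΛ hl₂)
    have cj3 : ∀ w : Γ, l₁ * (s * l₂ * s⁻¹) * w * (l₁ * (s * l₂ * s⁻¹))⁻¹ =
        l₁ * (s * (l₂ * (s * w * s⁻¹) * l₂⁻¹) * s⁻¹) * l₁⁻¹ := fun w => by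
      rw [ss]; simp only [mul_inv_rev, ss]; group
    have k1 : κ ⟨_, mem_sup_right hl₃⟩ = MulAut.conj h := by
      have hU : MulAut.conj h ∈ Fx Um := fun g => (mem_normalizer_iff.1 hh g).symm
      refine (inv_mul_eq_one.1 (T.faith _ (mul_mem (inv_mem hU) (κU _)) (fun a => ?_)
        fun a => ?_)).symm
      · refine (MulAut.conj h).injective ?_
        rw [MulAut.mul_apply, MulAut.apply_inv_self, MulAut.conj_apply, mx, ← jx, hκ _ _ (xJ a), cj3,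
          s1, b2, s2, a1, jx]
        congr 1
        have := i1 a
        simp only [map_mul, map_pow, RingAut.one_apply, RingEquiv.apply_symm_apply] at this ⊢
        linear_combination (t⁻¹ * r ^ 2) * this
      · refine (MulAut.conj h).injective ?_
        rw [MulAut.mul_apply, MulAut.apply_inv_self, MulAut.conj_apply, my, ← jy, hκ _ _ (yJ a), cj3,
          s2, b1, s1, a2, jy]
        congr 1
        have := i2 a
        simp only [map_mul, map_pow, map_inv₀, mul_pow, RingAut.one_apply,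
          RingEquiv.apply_symm_apply] at this ⊢
        linear_combination (t ^ 2 * r⁻¹ ^ m) * this
    refine ⟨⟨_, mul_mem (JH la hw₀) (mem_sup_right hl₃)⟩,
      mul_mem (mem_sup_left hw₀) (mem_sup_right hl₃), ?_⟩
    rw [hι _ _ hw₀ ⟨_, mem_sup_right hl₃⟩ rfl, k1, jw, ← map_mul]

end Cfsg.Lib.HM
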