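import Cfsg.Agent.HM.Nm0
import Cfsg.Agent.Fus.Model
import Cfsg.Agent.Fus.Realize

/-! Models inside the ambient group. -/

set_option autoImplicit false

open scoped commutatorElement MatrixGroups

namespace Cfsg.Lib.HM

open Cfsg Subgroup
open Cfsg.Lib.Fus hiding cj IsSylowIn
open Cfsg.Lib.Trans (cj IsSylowIn QDFrame)
open Cfsg.Lib.Gold (Ns Cs C1)
open Cfsg.Lib.Gomi (AB PosC ZZ E2)
open Cfsg.Lib.GCT (RB RQ WW QQ VV DD K0 MC)
open Cfsg.Lib.Rank2 (SylEmb DFrame)
open Cfsg.Lib.Fus.Rk2 (FHas TwoCl Rigid autF pullE)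

universe u

theorem MdlAux.card_dvd {G : Type*} [Group G] [Finite G] {O : Subgroup G} [O.Normal] {n : ℕ}
    (hn : n ≠ 0) (h : Cs O ≤ O) (hd : Nat.card O ∣ n) : Nat.card G ∣ n * n.factorial := by
  let φ : G →* Equiv.Perm O := (MulAut.toPerm O).comp (MulAut.conjNormal (H := O))
  have k : φ.ker ≤ O := fun g hg => h (Gold.mem_Cs.2 fun x hx => by
    have := congrArg (fun e : Equiv.Perm O => (e ⟨x, hx⟩ : G)) hg
    change g * x * g⁻¹ = x at this
    rw [← this, inv_mul_cancel_right, this])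
  rw [← φ.ker.card_mul_index, index_ker]
  refine mul_dvd_mul ((card_dvd_of_le k).trans hd) ((card_subgroup_dvd_card _).trans ?_)
  rw [Nat.card_perm]
  exact Nat.factorial_dvd_factorial (Nat.le_of_dvd (Nat.pos_of_ne_zero hn) hd)

theorem st_Mdl : St_Mdl.{u} := by
  intro Γ _ _ S F s U hn hc
  obtain ⟨G, _, ι, hG⟩ := exists_model (s.two.to_le normalizerIn_le) hc
  have := hG.1
  have inj : Function.Injective ι := hG.2.1.1
  obtain ⟨f, hf, e⟩ := s.univ.emb _ normalizerIn_le G ι inj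
    (MdlAux.card_dvd Nat.card_pos.ne' hG.2.2.2 ((card_dvd_of_le (model_pCore_le_range hG)).trans
      ((card_range_dvd ι).trans (card_dvd_of_le normalizerIn_le))))
  have e' : ∀ x ∈ S ⊓ Ns U, f (extFun ι x) = x := fun x hx => by rw [extFun_of_mem ι hx, e]
  have UT : U ≤ S ⊓ Ns U := le_inf hn.1 le_normalizer
  have nU : f.range ≤ Ns U := by
    rintro _ ⟨g, rfl⟩
    refine mem_normalizer_of_finite fun x hx => ?_
    obtain ⟨x', hx', e1⟩ := (mem_img_extFun' ι UT).1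
      ((model_normal_img hG isNormal_normSys).conj_mem _ (mem_img_of_mem _ hx) g)
    rw [← e' x (UT hx), ← map_inv, ← map_mul, ← map_mul, ← e1, e' x' (UT hx')]
    exact hx'
  refine ⟨f.range, hn.1, nU, ?_, ?_, ?_, fun P g h1 h2 r hg => ?_⟩
  · obtain ⟨T, hT⟩ := hG.2.2.1
    have := (Trans.isSylowIn_top T).map f
    rwa [← MonoidHom.range_eq_map, hT, MonoidHom.map_range,
      show f.comp ι = (FusionSystem.normalizerIn S U).subtype from MonoidHom.ext e,
      range_subtype] at this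
  · rw [MonoidHom.range_eq_map, Local.charP_map_iff f hf, Local.charP_top_iff]
    exact hG.2.2.2
  · rintro _ ⟨g, rfl⟩ P hP hS
    have k : ∀ x ∈ P, f g * x * (f g)⁻¹ ∈ S ⊓ Ns U := Trans.cj_le_iff.1
      (le_inf hS (Trans.cj_le_of_mem_of_le (nU ⟨g, rfl⟩) (hP.trans inf_le_right)))
    refine ((mor_iff_of_realized hG.2.1).2 ⟨hP, k, g, fun x hx => hf ?_⟩).of_sub normSys_sub
    rw [e' _ (k x hx), map_mul, map_mul, map_inv, e' x (hP hx)]
  · obtain ⟨m, hm⟩ := (Mor.mor_normSys (hQ := hn.1) r h1 h2 (img_conj_eq hg)).exists_conj_of_realized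
      hG.2.1
    refine ⟨f m, ⟨m, rfl⟩, fun x hx => ?_⟩
    rw [← e' _ (Trans.cj_le_iff.1 (r.cj_le_inf h2 hg) x hx), hm x hx, map_mul, map_mul, map_inv,
      e' x (h2 hx)]

end Cfsg.Lib.HM
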