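import Cfsg.Agent.HM.St
import Cfsg.Agent.GCT.Kill
import Cfsg.Agent.AB.Weyl

/-! The centraliser of a field involution moves `Z`. -/

set_option autoImplicit false

open scoped commutatorElement MatrixGroups

namespace Cfsg.Lib.HM

open Cfsg Subgroup
open Cfsg.Lib.Fus hiding cj IsSylowIn
open Cfsg.Lib.Trans (cj IsSylowIn QDFrame)
open Cfsg.Lib.Gold (Ns Cs C1)
open Cfsg.Lib.Gomi (AB PosC ZZ E2)
open Cfsg.Lib.GCT (RB RQ WW QQ VV DD K0 MC)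
open Cfsg.Lib.Rank2 (SylEmb DFrame)
open Cfsg.Lib.Fus.Rk2 (FHas TwoCl Rigid autF pullE)

universe u

theorem st_Mov : St_Mov.{u} := by
  intro G _ _ K _ _ θ ψ A B D' c cA nA T hT hJ f hf hf' ff ⟨a, ha, ha', e⟩ H
  have P := c.par
  have ab := P.ab
  have h := P.hasPar
  have hA : ∀ g : G, g ∈ Ns A := fun g => nA ▸ mem_top g
  have hZ : ∀ g ∈ Ns B, g ∈ Ns (A ⊓ B) := fun g hg => Trans.cj_eq_self_iff.1 (by
    rw [Trans.cj_inf, Trans.cj_eq_of_mem_normalizer (hA g), Trans.cj_eq_of_mem_normalizer hg])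
  obtain ⟨l, hl, hz⟩ := h.exists_conj ha
  have hzA := Trans.mem_normalizer_conj (hA l) ha
  have hz' : l * a * l⁻¹ ∉ ZZ A B := fun h1 => ha' (by
    have := Trans.mem_normalizer_conj' (Gomi.Ns_le_Ns_ZZ (B := B) (hA l)) h1
    rw [show l⁻¹ * (l * a * l⁻¹) * l = a by group] at this
    exact (Gomi.ZZ_le ab this).2)
  have h1 : l * f * l⁻¹ ∈ Ns B := h.Ns_inf_le cA ⟨hA _, h.mem_Ns (hA _) ⟨hzA, hz⟩ hz' (by
    rw [show l * f * l⁻¹ * (l * a * l⁻¹) * (l * f * l⁻¹)⁻¹ = l * (f * a * f⁻¹) * l⁻¹ by group, e,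
      mul_inv_cancel_right]
    exact hz)⟩
  have h2 : l * f * l⁻¹ ∈ Ns (A ⊔ B) := Trans.cj_eq_self_iff.1 (by
    rw [Trans.cj_sup, Trans.cj_eq_of_mem_normalizer (hA _), Trans.cj_eq_of_mem_normalizer h1])
  have h3 : IsPGroup 2 (zpowers (l * f * l⁻¹)) := by
    rw [← Trans.cj_zpowers]
    exact Trans.isPGroup_cj (hT.isPGroup.to_le (zpowers_le.2 hf)) l
  have h4 : IsPGroup 2 ((A ⊔ B) ⊔ zpowers (l * f * l⁻¹) : Subgroup G) :=
    ab.isPGroup.to_sup_of_normal_left' h3 (zpowers_le.2 h2)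
  obtain ⟨g, -, hg⟩ := hT.exists_cj_le h4 le_top
  have h5 : g ∈ Ns (A ⊔ B) :=
    c.mem_Ns (((Trans.cj_mono g le_sup_left).trans hg).trans (c.le_Ns_J hT.isPGroup hJ))
  have h6 : g ∈ Ns (A ⊓ B) := hZ g (ab.Ns_inf_le ⟨h5, hA g⟩)
  have h7 : g * (l * f * l⁻¹) * g⁻¹ ∈ T :=
    Trans.cj_le_iff.1 hg _ (mem_sup_right (mem_zpowers _))
  have h8 : g * (l * f * l⁻¹) * g⁻¹ ∉ A ⊔ B := fun h9 => hf' (by
    have k1 := Trans.mem_normalizer_conj' h5 h9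
    rw [show g⁻¹ * (g * (l * f * l⁻¹) * g⁻¹) * g = l * f * l⁻¹ by group] at k1
    have k2 := mul_mem (mul_mem (inv_mem hl) (P.syl.le k1)) hl
    rw [show l⁻¹ * (l * f * l⁻¹) * l = f by group] at k2
    exact (P.syl.eq_inf hT.isPGroup hJ).le ⟨hf, k2⟩)
  obtain ⟨j, hj, e1⟩ := H _ h7 h8 (by
    rw [show g * (l * f * l⁻¹) * g⁻¹ * (g * (l * f * l⁻¹) * g⁻¹) =
      g * l * (f * f) * (g * l)⁻¹ by group, ff]; group)
  refine ⟨j * g * l, ?_, fun hk => ha' ?_⟩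
  · rw [← mul_inv_eq_iff_eq_mul]
    conv_rhs => rw [← e1]
    group
  · have k1 : l ∈ Ns (A ⊓ B) :=
      (mul_mem_cancel_left (mul_mem (ab.S_le_Ns_Z hj) h6)).1 hk
    have k2 := Trans.mem_normalizer_conj' k1 (show l * a * l⁻¹ ∈ A ⊓ B from ⟨hzA, hz⟩)
    rw [show l⁻¹ * (l * a * l⁻¹) * l = a by group] at k2
    exact k2.2

end Cfsg.Lib.HM
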