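import Cfsg.Agent.HM.St

/-! The exponent is odd. -/

set_option autoImplicit false

open scoped commutatorElement MatrixGroups

namespace Cfsg.Lib.HM

open Cfsg Subgroup
open Cfsg.Lib.Fus hiding cj IsSylowIn
open Cfsg.Lib.Trans (cj IsSylowIn QDFrame)
open Cfsg.Lib.Gold (Ns Cs C1)
open Cfsg.Lib.Gomi (AB PosC ZZ E2)

universe u

theorem st_Odd : St_Odd.{u} := by
  intro G _ K _ _ x y z v s f g σ h h2 hs hw
  have xinj : ∀ a b, x a = x b → a = b := fun a b e => by
    have k := h.pos.addX (a - b) b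
    rw [sub_add_cancel, e, mul_eq_right] at k
    refine sub_eq_zero.1 (h.inj (a - b) 0 0 0 ?_).1
    rw [k, Gomi.zero_of_add h.pos.addY, Gomi.zero_of_add h.pos.addZ, Gomi.zero_of_add h.pos.addV]
    simp
  have key : ∀ a, a = g * σ (f * σ a ^ 2) := fun a => xinj _ _ (by
    have k1 : s * x a * s⁻¹ = _ := hw.1 a
    have k2 : s * y (f * σ a ^ 2) * s⁻¹ = _ := hw.2 _
    rw [← k2, ← k1]
    calc x a = (s * s) * x a * (s * s)⁻¹ := by rw [hs]; group
      _ = _ := by group)
  have k1 : g * σ f = 1 := by simpa using (key 1).symm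
  have key' : ∀ a, a = σ (σ a) ^ 2 := fun a => by
    have := key a
    rwa [map_mul, ← mul_assoc, k1, one_mul, map_pow] at this
  have : CharP K 2 := (CharP.charP_iff_prime_eq_zero Nat.prime_two).2 h2
  obtain ⟨e, -, he⟩ := FiniteField.card K 2
  refine ⟨e, Nat.not_even_iff_odd.1 ?_, he⟩
  rintro ⟨k, hk⟩
  classical
  have h3 : 3 ∣ Fintype.card Kˣ := by
    rw [Fintype.card_units, he, hk, ← two_mul, pow_mul]
    exact Nat.sub_one_dvd_pow_sub_one 4 k
  have : Fact (Nat.Prime 3) := ⟨Nat.prime_three⟩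
  obtain ⟨w, hw⟩ := exists_prime_orderOf_dvd_card 3 h3
  have w3 : (w : K) ^ 3 = 1 := by
    rw [← Units.val_pow_eq_pow_val, ← hw, pow_orderOf_eq_one, Units.val_one]
  have w1 : (w : K) ≠ 1 := fun e => by
    rw [Units.val_eq_one.1 e, orderOf_one] at hw
    omega
  have w0 := w.ne_zero
  generalize (w : K) = w at w3 w1 w0
  have w2 : w ^ 2 + w + 1 = 0 := by
    refine (mul_eq_zero.1 (?_ : (w - 1) * _ = 0)).resolve_left (sub_ne_zero.2 w1)
    linear_combination w3
  have s2 : σ w ^ 2 + σ w + 1 = 0 := by simpa using congrArg σ w2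
  have s3 : σ (σ w) = w := by
    have : (σ w - w) * (σ w - w ^ 2) = 0 := by linear_combination s2 - σ w * w2 + w3
    rcases mul_eq_zero.1 this with e | e <;> rw [sub_eq_zero] at e
    · rw [e, e]
    · rw [e, map_pow, e]; linear_combination w * w3
  have k2 := key' w
  rw [s3, pow_two, eq_comm, mul_eq_left₀ w0] at k2
  exact w1 k2

end Cfsg.Lib.HM
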