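import Cfsg.Agent.HM.St
import Cfsg.Agent.GCT.Rb0

/-! One class of involutions in `A`. -/

set_option autoImplicit false

open scoped commutatorElement MatrixGroups

namespace Cfsg.Lib.HM

open Cfsg Subgroup
open Cfsg.Lib.Fus hiding cj IsSylowIn
open Cfsg.Lib.Trans (cj IsSylowIn QDFrame)
open Cfsg.Lib.Gold (Ns Cs C1)
open Cfsg.Lib.Gomi (AB PosC ZZ E2)
open Cfsg.Lib.GCT (RB RQ WW QQ VV DD K0 MC)
open Cfsg.Lib.Rank2 (SylEmb DFrame)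
open Cfsg.Lib.Fus.Rk2 (FHas TwoCl Rigid autF pullE)

universe u

theorem st_One (_hK0 : St_K0.{u}) : St_One.{u} := by
  intro Γ _ _ S F q A A' M E y c hA hZ z hz z1 a ha a1
  obtain ⟨K, _, _, θ, ψ, -, rb⟩ := c.rq
  obtain ⟨e1, -, -, e2, e3, -⟩ := rb.inf_eq (c.qA.symm ▸ c.ab) (by rw [c.qA])
  rw [← e1, c.qA, hZ] at e2 e3
  rw [hA] at e3
  have hq : Fintype.card K = 4 := by omega
  have hD : DD (A ⊔ A') E = ⊥ := eq_bot_of_card_eq _ (by rw [hq] at e2; omega)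
  have hW : WW E ⊓ Cs E = ⊥ := eq_bot_iff.2 ((inf_le_inf_right _ rb.W_le_B).trans hD.le)
  have eW : WW E = A := eq_of_le_of_card_ge (c.qA ▸ rb.W_le_Q) (by rw [rb.card_W hW, hq, hA]; rfl)
  obtain ⟨l, hl, e⟩ := rb.isConj hW (eW ▸ ha) a1 (eW ▸ hz) z1
  have hm := sup_le c.EM ((c.bau ▸ inf_le_left : A ⊔ A' ≤ _).trans c.mdl.syl.le) hl
  exact e ▸ (c.mdl.mor l hm A (le_inf c.mdl.le le_normalizer)
    ((Gold.mem_Ns_iff.1 (c.mdl.nU hm)).le.trans c.mdl.le)).isConjElt ha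

end Cfsg.Lib.HM
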