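import Cfsg.Agent.HM.St

/-! Minimal 2-fusion systems in the pushing-up case: a block and its conjugate. -/

set_option autoImplicit false

open scoped commutatorElement

namespace Cfsg.Lib.HM

open Cfsg Subgroup Cfsg.Lib.Solv Cfsg.Lib.Trans Cfsg.Lib.Trans.TJ Cfsg.Lib.Trans.MP
  Cfsg.Lib.Trans.PU Cfsg.Lib.Trans.BB Cfsg.Lib.Local.MSS Cfsg.Lib.Gold
open Cfsg.Lib.GCT (RB RQ WW QQ VV DD)

universe u

theorem st_Pair (hPairA : St_PairA.{u}) (hPairB : St_PairB.{u}) : St_Pair.{u} := by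
  intro Γ _ _ S F q U M E y scl m EM r hW hy hy' B A hB hA
  subst hA
  rw [← hB] at r
  have BT : B ≤ S ⊓ Ns U := hB ▸ bau_le _
  have nT : Ns (S ⊓ Ns U) ≤ Ns B := hB ▸ normalizer_le_bau _
  obtain ⟨y1, y2⟩ := (mem_NF inf_le_left).1 hy
  have yB := cj_eq_of_mem_normalizer (nT y1)
  have eW : WW (cj y E) = cj y (WW E) := RB.W_cj' y E
  have eQ : QQ B (cj y E) = cj y (QQ B E) := by rw [← RB.Q_cj, yB]
  have eD : DD B (cj y E) = cj y (DD B E) := by rw [← RB.D_cj, yB]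
  have l1 : Lc F B E := fun e he P hP hP' =>
    m.mor e (EM he) P (hP.trans BT) (hP'.trans (BT.trans inf_le_left))
  have l2 : Lc F B (cj y E) := by
    intro e' he' P hP hP'
    obtain ⟨e, he, rfl⟩ : ∃ e ∈ E, y * e * y⁻¹ = e' := he'
    have yB' := cj_eq_of_mem_normalizer (inv_mem (nT y1))
    have h1 : cj y⁻¹ P ≤ B := yB' ▸ cj_mono _ hP
    have h2 : cj e (cj y⁻¹ P) ≤ B := by
      have := cj_mono y⁻¹ hP'
      rwa [yB', ← cj_mul, show y⁻¹ * (y * e * y⁻¹) = e * y⁻¹ by group, cj_mul] at this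
    have := (l1 e he _ h1 h2).conj y2 (h1.trans BT) (h2.trans BT)
    rwa [Trans.cj_cj_inv] at this
  have r' := r.cj (nT y1)
  have dd := hPairA scl (BT.trans inf_le_left) r r' l1 l2 (eW ▸ hy')
  obtain ⟨ab, e, dc⟩ := hPairB r r' (eW ▸ hy') dd
  rw [eQ] at ab e
  rw [eD] at dd
  refine ⟨ab, e, ?_, fun s hs => ?_, dd, dc⟩
  · rcases ab.cj_eq_or (e.symm ▸ nT y1) with h | h
    · exact absurd (cj_eq_of_mem_normalizer h).ge ab.nle
    · exact h.2
  · have sB := nT (le_normalizer hs)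
    rcases ab.cj_eq_or (e.symm ▸ sB) with h | h
    · exact h
    obtain ⟨K, _, _, θ, ψ, -, r⟩ := r
    have h1 : cj s (WW E) ≤ B := cj_eq_of_mem_normalizer sB ▸ cj_mono s r.W_le_B
    have h2 : cj s (WW E) ≤ Cs B := fun w hw => omZ_le_centralizer (p := 2) B ((r.inf_eq ab e).1.le
      ⟨(r.mem_Q (h1 hw)).2 (hW s hs hw), h.1 ▸ cj_mono s r.W_le_Q hw⟩)
    refine absurd (fun w hw => ?_) r.not_cent
    have := mem_normalizer_conj (mem_Ns_Cs (inv_mem sB)) (h2 (conj_mem_cj.2 hw))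
    simpa [mul_assoc] using this

end Cfsg.Lib.HM
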