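import Cfsg.Agent.HM.St

/-! Minimal 2-fusion systems in the pushing-up case: two blocks have no common centraliser. -/

set_option autoImplicit false

open scoped commutatorElement

namespace Cfsg.Lib.HM

open Cfsg Subgroup Cfsg.Lib.Solv Cfsg.Lib.Trans Cfsg.Lib.Trans.TJ Cfsg.Lib.Trans.MP
  Cfsg.Lib.Trans.PU Cfsg.Lib.Trans.BB Cfsg.Lib.Local.MSS Cfsg.Lib.Gold
open Cfsg.Lib.Gomi (AB ZZ E2)
open Cfsg.Lib.GCT (RB RQ WW QQ VV DD K0)

universe u

theorem st_PairA (hClw : St_Clw.{u}) : St_PairA.{u} := by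
  intro Γ _ _ S F q q' B E E' scl BS rq rq' l l' h
  obtain ⟨K, _, _, θ, ψ, -, r⟩ := id rq
  obtain ⟨K', _, _, θ', ψ', -, r'⟩ := id rq'
  by_contra hP
  set P := DD B E ⊓ DD B E' with hP'
  have PB : P ≤ B := inf_le_left.trans inf_le_left
  have nB : B ≤ Ns P := norm_inf r.B_norm_D r'.B_norm_D
  have c1 : E ≤ Cs P := cent_symm (inf_le_left.trans inf_le_right)
  have c2 : E' ≤ Cs P := cent_symm (inf_le_right.trans inf_le_right)
  obtain ⟨X', X, x', x, -, hc, d1, d2⟩ := scl P hP (PB.trans BS) (fun X => X ⊓ B ≤ P) (by simp)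
    fun c => r.not_cent' fun w hw => (c ⟨⟨BS (r.W_le_B hw), nB (r.W_le_B hw)⟩, r.W_le_B hw⟩).1.2
  have zB : ∀ {y : Γ}, y ∈ B → P ⊔ zpowers y ≤ B := fun hy => sup_le PB (zpowers_le.2 hy)
  have nY : B ≤ Ns (X ⊓ B) := fun b hb => mem_normalizer_of_cj_le (cj_le_iff.2 fun y hy =>
    ⟨x.cl y hy.1 b (nB hb) (R.of_mem F ((zB hy.2).trans BS) (BS hb)),
      B.mul_mem (B.mul_mem hb hy.2) (B.inv_mem hb)⟩)
  have cl : ∀ {E₁ : Subgroup Γ}, Lc F B E₁ → E₁ ≤ Cs P → ∀ e ∈ E₁, ∀ y ∈ X ⊓ B, e * y * e⁻¹ ∈ B →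
      e * y * e⁻¹ ∈ X ⊓ B := fun l c e he y hy h =>
    ⟨x.cl y hy.1 e (cent_le_norm _ (c he)) (l e he _ (zB hy.2) (by
      rw [cj_sup, cj_eq_of_mem_centralizer (c he), cj_zpowers]; exact zB h)), h⟩
  rcases hClw rq inf_le_right nY (cl l c1) with a | a <;>
    rcases hClw rq' inf_le_right nY (cl l' c2) with b | b
  · exact d2 (le_inf a b)
  · exact h (b.trans (a.trans (inf_le_right.trans (TJ.centralizer_anti (pCoreOf_le E)))))
  · exact h (cent_symm (a.trans (b.trans (inf_le_right.trans (TJ.centralizer_anti (pCoreOf_le E'))))))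
  · obtain ⟨w, hw, hw'⟩ := SetLike.not_le_iff_exists.1 h
    exact r.not_cent fun v hv => r.reg (r'.W_le_B hw) (mt (r.mem_Q (r'.W_le_B hw)).1 hw')
      (r.W_le hv) (d1 ⟨hc (commutator_mem_commutator (b hw).1 (a hv).1),
        comm_mem_of_norm (le_normalizer (r'.W_le_B hw)) (r.W_le_B hv)⟩).1.2

end Cfsg.Lib.HM
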