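import Cfsg.Agent.HM.St

/-! Minimal 2-fusion systems in the pushing-up case: two blocks. -/

set_option autoImplicit false

open scoped commutatorElement

namespace Cfsg.Lib.HM

open Cfsg Subgroup Cfsg.Lib.Solv Cfsg.Lib.Trans Cfsg.Lib.Trans.TJ Cfsg.Lib.Trans.MP
  Cfsg.Lib.Trans.PU Cfsg.Lib.Trans.BB Cfsg.Lib.Local.MSS Cfsg.Lib.Gold
open Cfsg.Lib.GCT (RB RQ WW QQ VV DD)

universe u

theorem st_PairB : St_PairB.{u} := by
  intro G _ _ q q' B E E' ⟨F, _, _, θ, ψ, hq, r⟩ ⟨F', _, _, θ', ψ', hq', r'⟩ h h3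
  subst hq hq'
  have h1 : ¬ WW E' ≤ QQ B E := fun e => h fun x hx => (r.mem_Q (r'.W_le_B hx)).1 (e hx)
  have h2 : ¬ WW E ≤ QQ B E' := fun e => h (cent_symm fun x hx => (r'.mem_Q (r.W_le_B hx)).1 (e hx))
  obtain ⟨a1, a2, a3⟩ := r.crit r'.vx r'.syl h2
  obtain ⟨-, -, a4⟩ := r'.crit r.vx r.syl h1
  obtain ⟨b1, A', ab, e⟩ := r.pair_aux r' a1 a3 h3
  obtain ⟨b2, -⟩ := r'.pair_aux r a2 a4 ((inf_comm _ _).trans h3)
  have h4 : QQ B E' ≤ A' := (ab.le_or_le (r'.Q_le.trans e.ge) fun x hx => r'.sqV (b2 ▸ hx)).resolve_left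
    fun k => h1 (r'.W_le_Q.trans k)
  obtain rfl : A' = QQ B E' := le_antisymm (fun b hb => by
    obtain ⟨v, hv, y, hy, rfl⟩ := TJ.mem_sup_of_le_normalizer
      (r'.V_le.trans (le_sup_right.trans r.nQ)) (a2.ge (e.le (mem_sup_right hb)))
    exact mul_mem (vv_le _ hv) (vv_le _ (r'.Z_le ((r.inf_eq ab e).1.le
      ⟨hy, (mul_mem_cancel_left (h4 (vv_le _ hv))).1 hb⟩)))) h4
  obtain ⟨-, -, c1, -, -, c2⟩ := r.inf_eq ab e
  obtain ⟨-, -, -, -, c3, -⟩ := r'.inf_eq ab.symm ((sup_comm _ _).trans e)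
  have h5 : Fintype.card F' = Fintype.card F :=
    Nat.eq_of_mul_eq_mul_right Nat.card_pos (c3.symm.trans c2)
  refine ⟨ab, e, ?_⟩
  rw [← h5, ← r'.idxZ]
  exact GCT.card_le_relIndex c1 (le_bot_iff.1 (h3 ▸ fun x hx => ⟨hx.2, hx.2.1, hx.1⟩))

end Cfsg.Lib.HM
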