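import Cfsg.Agent.HM.H8two

/-! Large semidihedral groups: the quaternion subgroup has no odd automorphism. -/

set_option autoImplicit false

open scoped commutatorElement

namespace Cfsg.Lib.HM

open Cfsg Subgroup
open Cfsg.Lib.Fus hiding cj IsSylowIn
open Cfsg.Lib.Trans
open Cfsg.Lib.Gold (Ns)
open Cfsg.Lib.Fus.Rk2

universe u

theorem st_QDx : St_QDx.{u} := by
  rintro Γ _ _ S F k Fr scl univ h16 ⟨α, hα, ho, h1⟩
  obtain ⟨f, hf, ef⟩ := mem_autF.1 hα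
  obtain ⟨g, rg, eg⟩ := univ.exists_R hf
  have ha : ∀ x : QD.sub Fr 1 1, ((α x : S) : Γ) = g * (x : S) * g⁻¹ := fun x =>
    (ef x).symm.trans (eg _ (coe_mem_up.2 x.2))
  have oz := (QD.orderOf_r_eq_two Fr _).2 rfl
  have z2 : 2 * (2 : ZMod (2 ^ (k + 3))) ^ (k + 2) = 0 := (pow_succ' _ _).symm.trans QD.four_q
  have zQ : Fr.r (2 ^ (k + 2)) ∈ QD.sub Fr 1 1 :=
    (QD.r_mem_sub Fr).2 (by linear_combination 2 * z2)
  have nz : ∀ g : Γ, g * Fr.r (2 ^ (k + 2)) * g⁻¹ = Fr.r (2 ^ (k + 2)) →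
      g ∈ Ns (zpowers (Fr.r (2 ^ (k + 2)) : Γ)) := fun g e => mem_normalizer_fintype (by
    rintro - ⟨n, rfl⟩
    exact ⟨n, by rw [← conj_zpow, e]⟩)
  have sN : ∀ s : S, (s : Γ) ∈ Ns (zpowers (Fr.r (2 ^ (k + 2)) : Γ)) := fun s => nz s
    (mul_inv_eq_iff_eq_mul.2 (congrArg Subtype.val
      (mem_center_iff.1 ((QD.mem_center_r Fr _).2 z2) s) :))
  have PS : zpowers (Fr.r (2 ^ (k + 2)) : Γ) ≤ S := zpowers_le.2 (Fr.r _).2
  obtain ⟨X', X, -, cX, -, hc, d1, d2⟩ := scl _ (fun e => by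
      rw [zpowers_eq_bot, OneMemClass.coe_eq_one] at e
      rw [e, orderOf_one] at oz
      omega) PS (· ≤ zpowers (Fr.r (2 ^ (k + 2)) : Γ)) bot_le (fun e => by
    obtain ⟨n, e⟩ := e ⟨(Fr.s 0).2, sN _⟩
    exact Fr.r_ne_s _ _ ((Fr.r_zpow _ n).symm.trans (Subtype.ext e)))
  have XS : X ≤ S := cX.le.trans inf_le_left
  have : (X.subgroupOf S).Normal := ⟨fun x hx s =>
    cX.cl _ hx _ (sN s) (R.of_mem F (sup_le PS (zpowers_le.2 x.2)) s.2)⟩
  have ns : ∀ w, Fr.s w ∉ X.subgroupOf S := fun w hw => by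
    obtain ⟨n, e⟩ := d1 (hc (commutator_mem_commutator (Fr.sub_σ_mem_of_normal hw 1) hw))
    have e : Fr.r (2 ^ (k + 2)) ^ n = ⁅Fr.r (1 - (2 ^ (k + 2) - 1) * 1), Fr.s w⁆ := Subtype.ext e
    rw [commutatorElement_def, mul_assoc, mul_assoc, ← mul_assoc (Fr.s w), Fr.r_inv, Fr.s_conj_r,
      Fr.r_mul_r, Fr.r_zpow, Fr.r_inj, zsmul_eq_mul] at e
    have e8 : (2 : ZMod (2 ^ (k + 3))) ^ 3 = 0 := by
      linear_combination -2 * e + (n + 4 - 2 ^ (k + 2)) * z2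
    rcases k with _ | k
    · rw [QD.card_eq Fr] at h16
      omega
    · exact ZM.two_pow_ne_zero (by omega) e8
  have rX : ∀ u, Fr.r u ∈ QD.sub Fr 1 1 → Fr.r u ∈ X.subgroupOf S := fun u hu => by
    obtain ⟨y, hy, ny⟩ := SetLike.not_le_iff_exists.1 d2
    obtain ⟨i, -, -, e⟩ := ZM.exists_eq_tor (Fr.rPart (X.subgroupOf S))
    obtain ⟨v, ev⟩ | ⟨v, ev⟩ := Fr.cases ⟨y, XS hy⟩
    · have hv : v ∈ Fr.rPart (X.subgroupOf S) := Fr.mem_rPart.2 (ev ▸ hy)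
      rw [← Fr.mem_rPart, e, ZM.mem_tor]
      rw [e, ZM.mem_tor] at hv
      rw [QD.r_mem_sub] at hu
      rcases i with _ | _ | i
      all_goals first
        | linear_combination 2 ^ i * hu
        | refine absurd ?_ ny
      all_goals
        obtain rfl := congrArg Subtype.val ev
        rcases (ZM.two_mul_eq_zero_iff v).1
          (by first | linear_combination hv | linear_combination 2 * hv) with rfl | rfl
        · rw [Fr.r_zero]; exact one_mem _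
        · exact mem_zpowers _
    · exact absurd (ev ▸ hy) (ns v)
  have az : g * Fr.r (2 ^ (k + 2)) * g⁻¹ = Fr.r (2 ^ (k + 2)) := by
    have o := ((Subgroup.orderOf_coe _).trans (α.orderOf_eq ⟨_, zQ⟩)).trans
      ((Subgroup.orderOf_coe _).symm.trans oz)
    rw [← ha ⟨_, zQ⟩]
    have m := (α ⟨_, zQ⟩).2
    obtain ⟨v, ev⟩ | ⟨v, ev⟩ := Fr.cases (α ⟨_, zQ⟩) <;> rw [ev] at o m ⊢
    · rw [(QD.orderOf_r_eq_two Fr _).1 o]
    · obtain ⟨v, rfl⟩ := (QD.orderOf_s_eq_two_iff Fr _).1 o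
      obtain ⟨w, e⟩ := (ZM.two_pow_mul_eq_zero_iff (j := k + 1) (by omega) _).1
        ((QD.s_mem_sub Fr).1 m)
      exact absurd (by linear_combination e) (ZM.two_mul_ne_two_mul_add_one v (2 ^ k * w))
  have h32 : ∀ x : QD.sub Fr 1 1, x ^ 32 = 1 := fun x => by
    have := pow_card_eq_one' (x := x)
    rw [QD.card_sub Fr (by omega)] at this
    exact (pow_mul x 8 4).trans (by rw [show x ^ 8 = 1 from this, one_pow])
  have oi := (QD.orderOf_r_eq_four Fr _).2 (.inl rfl)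
  have iQ : Fr.r (2 ^ (k + 1)) ∈ QD.sub Fr 1 1 := (QD.r_mem_sub Fr).2 (by linear_combination z2)
  have ai : α ⟨_, iQ⟩ = ⟨_, iQ⟩ := by
    have o := ((Subgroup.orderOf_coe _).trans (α.orderOf_eq ⟨_, iQ⟩)).trans
      ((Subgroup.orderOf_coe _).symm.trans oi)
    have m : (α ⟨_, iQ⟩ : S) ∈ X.subgroupOf S := by
      rw [mem_subgroupOf, ha]
      exact cX.cl _ (rX _ iQ) g (nz g az) (rg.mono (sup_le (zpowers_le.2 (coe_mem_up.2 zQ))
        (zpowers_le.2 (coe_mem_up.2 iQ))))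
    obtain ⟨v, ev⟩ | ⟨v, ev⟩ := Fr.cases (α ⟨_, iQ⟩) <;> rw [ev] at o m
    · rcases (QD.orderOf_r_eq_four Fr _).1 o with rfl | rfl
      · exact Subtype.ext ev
      · have e : α ⟨_, iQ⟩ = (⟨_, iQ⟩ : QD.sub Fr 1 1)⁻¹ := Subtype.ext (ev.trans (Fr.r_inv _).symm)
        exact H8twoAux.rule h32 ho (map_one α) (by rw [e, map_inv, e, inv_inv, mul_one])
    · exact absurd m (ns v)
  have ar : ∀ (x : QD.sub Fr 1 1) u, x = Fr.r u → α x = x := fun x u e => by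
    obtain ⟨w, rfl⟩ := (ZM.two_pow_mul_eq_zero_iff (j := k + 1) (by omega) _).1
      ((QD.r_mem_sub Fr).1 (e ▸ x.2))
    have : x = ⟨_, iQ⟩ ^ w.val := Subtype.ext (by
      rw [e, coe_pow, Fr.r_pow, nsmul_eq_mul, ZMod.natCast_zmod_val, mul_comm])
    rw [this, map_pow, ai]
  refine h1 (MulEquiv.ext fun x => ?_)
  obtain ⟨u, e⟩ | ⟨u, e⟩ := Fr.cases x
  · exact ar x u e
  obtain ⟨v, ev⟩ | ⟨v, ev⟩ := Fr.cases (α x)
  · exact α.injective (ar _ v ev)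
  have := ar (x⁻¹ * α x) _ (by rw [coe_mul, coe_inv, e, ev, Fr.s_inv, Fr.s_mul_s])
  exact H8twoAux.rule h32 ho (f := x⁻¹ * α x * (x⁻¹ * α x)) (by rw [map_mul, this]) (by
    rw [map_mul, map_inv, inv_mul_eq_iff_eq_mul] at this
    rw [this]; group)

end Cfsg.Lib.HM
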