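import Cfsg.Agent.HM.St
import Cfsg.Agent.HM.RzK

/-! Minimal 2-fusion systems: elements that induce inner automorphisms. -/

set_option autoImplicit false
set_option linter.unusedSectionVars false
set_option linter.unusedVariables false

open scoped commutatorElement MatrixGroups

namespace Cfsg.Lib.HM

open Cfsg Subgroup
open Cfsg.Lib.Fus hiding cj IsSylowIn
open Cfsg.Lib.Trans (cj IsSylowIn QDFrame)
open Cfsg.Lib.Gold (Ns Cs C1)
open Cfsg.Lib.Gomi (AB PosC ZZ E2)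
open Cfsg.Lib.GCT (RB RQ WW QQ VV DD K0 MC)
open Cfsg.Lib.Rank2 (SylEmb DFrame)
open Cfsg.Lib.Fus.Rk2 (FHas TwoCl Rigid autF pullE)

universe u

open RzK Cfsg.Lib.Trans Cfsg.Lib.Gold in
theorem st_RealB : St_RealB.{u} := by
  intro Γ _ _ S F K _ _ m x y z v u s Λ fr hq L _ _ X Y Z V n Um T ι rz h l e
  have hc := conj_inj T
  have hn : (h : Γ) ∈ Ns (rA x z v ⊔ rA y z v) := nJ fr.lam h.2
  have hl : l ∈ Ns (rA X Z V ⊔ rA Y Z V) := by
    refine mem_normalizer_of_cj_le ((corJ rz).cj_le hc (corJ rz) fun a ha => ?_)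
    refine ⟨h * a * (h : Γ)⁻¹, mem_normalizer_conj hn ha, ?_⟩
    rw [(mulOn_extFun ι).map_conj h.2 (JH fr.lam ha), extFun_coe, e]
  obtain ⟨h₀, h1, h2⟩ := rz.nU l hl
  obtain rfl : h₀ = h := rz.inj (h2.trans e.symm)
  exact ⟨h1, fun hS => memJ_of fr.lam hS (nA0 fr.lam h1)⟩

end Cfsg.Lib.HM
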