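import Cfsg.Agent.HM.St
import Cfsg.Agent.Class.ReflThree

/-! The group that realises the system. -/

set_option autoImplicit false

open scoped commutatorElement MatrixGroups

namespace Cfsg.Lib.HM

open Cfsg Subgroup
open Cfsg.Lib.Trans (cj IsSylowIn)
open Cfsg.Lib.Gold (Ns Cs C1)
open Cfsg.Lib.Rank2 (SylEmb)

universe u

namespace RealCAux

theorem map_rA {G G' : Type*} [Group G] [Group G'] {K : Type} (f : G →* G') (x z v : K → G) :
    (rA x z v).map f = rA (f ∘ x) (f ∘ z) (f ∘ v) := by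
  simp only [rA, MonoidHom.map_closure, Set.image_union, Set.range_comp]

theorem idx {G H : Type*} [Group G] [Group H] (κ : H →* G) (I : Subgroup G) [I.Normal]
    (top : I ⊔ κ.range = ⊤) {J Λ : Subgroup H} (hJ : J.map κ ≤ I) (k : I.comap κ ≤ J ⊔ Λ) :
    (Λ.map κ ⊔ I).index = (J ⊔ Λ).index ∧ I.relIndex (Λ.map κ ⊔ I) ∣ Nat.card Λ := by
  have e : Λ.map κ ⊔ I = (Λ.map ((QuotientGroup.mk' I).comp κ)).comap (QuotientGroup.mk' I) := by
    rw [← map_map, comap_map_eq, QuotientGroup.ker_mk']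
  have k' : ((QuotientGroup.mk' I).comp κ).ker = I.comap κ := by
    rw [← MonoidHom.comap_ker, QuotientGroup.ker_mk']
  constructor
  · rw [e, index_comap_of_surjective _ (QuotientGroup.mk'_surjective I), index_map, k',
      MonoidHom.range_comp, (_ : κ.range.map _ = ⊤), index_top, mul_one]
    · congr 1
      exact le_antisymm (sup_le le_sup_right k)
        (sup_le (le_sup_of_le_right (map_le_iff_le_comap.1 hJ)) le_sup_left)
    · rw [← map_top_of_surjective _ (QuotientGroup.mk'_surjective I), ← top, Subgroup.map_sup,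
        QuotientGroup.map_mk'_self, bot_sup_eq]
  · rw [relIndex_sup_right, ← QuotientGroup.ker_mk' I, relIndex_ker, map_map]
    exact card_map_dvd _ _

theorem idx2 {G : Type*} [Group G] {S A A' Λ : Subgroup G} {s : G} (js : Js S A A' s)
    (ss : s * s = 1) (sΛ : s ∈ Ns Λ) (nA : Λ ≤ Ns A) :
    ((A ⊔ A') ⊔ Λ).relIndex (S ⊔ Λ) = 2 ∧ s ∉ A ⊔ A' := by
  have sN : s ∉ Ns A := fun h => js.ab.nle (js.yA ▸ (Gold.mem_Ns_iff.1 h).ge)
  refine ⟨?_, fun h => sN (js.ab.S_le_Ns h)⟩
  have e : S ⊔ Λ = ((A ⊔ A') ⊔ Λ) ⊔ zpowers s := by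
    refine le_antisymm (sup_le (fun t ht => (js.dec t ht).elim
      (fun h => mem_sup_left (mem_sup_left h)) fun h => ?_) (le_sup_of_le_left le_sup_right))
      (sup_le (sup_le_sup_right js.le _) (zpowers_le.2 (mem_sup_left js.yS)))
    exact (mul_mem_cancel_left (mem_sup_right (inv_mem (mem_zpowers s)))).1
      (mem_sup_left (mem_sup_left h))
  rw [e, Solv.PG.relIndex_sup_of_le_normalizer (zpowers_le.2 (Gold.mem_Ns_sup (Gold.mem_Ns_iff.2
    (by rw [Trans.cj_sup, js.yA, js.yB, sup_comm])) sΛ))]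
  refine ((Nat.dvd_prime Nat.prime_two).1 ((relIndex_dvd_card _ _).trans (by
    rw [Nat.card_zpowers]
    exact orderOf_dvd_of_pow_eq_one (by rw [sq, ss])))).resolve_left fun h => ?_
  exact sN (sup_le js.ab.S_le_Ns nA (relIndex_eq_one.1 h (mem_zpowers s)))

theorem core {G H L : Type*} [Group G] [Group H] [Group L] [Finite G] [Finite H] [Finite L]
    [IsSimpleGroup L] (nab : ¬ IsMulCommutative L) (hz : center L = ⊥) {c : L →* G} {κ : H →* G}
    (ci : Function.Injective c) (κi : Function.Injective κ) [c.range.Normal]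
    (top : c.range ⊔ κ.range = ⊤) (hC : centralizer (c.range : Set G) ≤ ⊥) {S J Λ : Subgroup H}
    {U : Subgroup L} (hU : IsSylowIn 2 U ⊤) (e1 : J.map κ = U.map c) (le : J ≤ S)
    (h3 : 2 ∣ J.relIndex S) (od : Odd (Nat.card Λ)) (k : c.range.comap κ ≤ J ⊔ Λ)
    (i0 : (J ⊔ Λ).index = 2) : ¬ 2 ∣ (S.map κ).index ∧
      Nonempty (↥(generalizedFittingSubgroup G) ≃* L) ∧
      generalizedFittingSubgroup G ≤ pResidual 2 G ∧
      Odd ((generalizedFittingSubgroup G).subgroupOf (pResidual 2 G)).index ∧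
      (pResidual 2 G).index = 2 := by
  obtain ⟨i1, i2⟩ := idx κ c.range top (e1 ▸ map_le_range _ _) k
  rw [i0] at i1
  have o := od.of_dvd_nat i2
  have eL := MonoidHom.ofInjective ci
  have hF : generalizedFittingSubgroup G = c.range := by
    rw [(Class.genFitting_eq_of_normal (Trans.IsQuasisimple.of_mulEquiv
      (Trans.isQuasisimple_of_isSimpleGroup nab) eL) (hC.trans bot_le)).1,
      sup_of_le_left (((center_le_centralizer _).trans hC).trans bot_le)]
  have hR : pResidual 2 G = Λ.map κ ⊔ c.range := by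
    have := normal_of_index_eq_two i1
    refine le_antisymm (Trans.pResidual_le_of_index_eq_pow _ (k := 1) i1) (sup_le
      (Trans.le_pResidual_of_coprime ?_) ?_)
    · rw [card_map_of_injective κi]
      exact Nat.coprime_two_right.2 od
    · rw [MonoidHom.range_eq_map, ← (Normal.eq_bot_or_eq_top (inferInstance :
        (pResidual 2 L).Normal)).resolve_left fun h =>
          (((Trans.pResidual_eq_bot_iff (p := 2)).1 h).bot_lt_center).ne' hz]
      exact Trans.map_pResidual_le c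
  refine ⟨fun d => ?_, hF ▸ ⟨eL.symm⟩, by rw [hF, hR]; exact le_sup_right,
    by rw [hF, hR]; exact o, hR ▸ i1⟩
  have h1 := relIndex_mul_index (map_mono (f := κ) le)
  have h2 := (hU.map c).not_dvd
  rw [← MonoidHom.range_eq_map] at h2
  rw [relIndex_map_map_of_injective _ _ κi, e1, ← relIndex_mul_index (map_le_range c U),
    ← relIndex_mul_index (le_sup_right : c.range ≤ _ ⊔ _), i1, ← mul_assoc] at h1
  have h4 := mul_dvd_mul h3 d
  rw [h1, Nat.mul_dvd_mul_iff_right two_pos, Nat.prime_two.dvd_mul] at h4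
  exact h4.elim h2 o.not_two_dvd_nat

end RealCAux

open RealCAux in
theorem st_RealC (hRealB : St_RealB.{u}) : St_RealC.{u} := by
  intro Γ _ _ S F K _ _ m x y z v u s Λ fr hK L _ _ X Y Z V n Um tg ι rz
  have hB := hRealB fr hK tg ι rz
  have js := fr.lam.js
  have := tg.simple
  have nab : ¬ IsMulCommutative L := fun h => by
    have e := tg.nX 1
    rw [h.is_comm.comm n, mul_inv_cancel_right] at e
    have a : ∀ {f : K → L}, (∀ a b, f a * f b = f (a + b)) → f 0 = 1 := fun h => by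
      simpa using h 0 0
    exact one_ne_zero (tg.rt.inj 1 0 (-1) 0 (by
      rw [a tg.rt.pos.addY, a tg.rt.pos.addV, e, mul_one, mul_one, tg.rt.pos.addZ, add_neg_cancel,
        a tg.rt.pos.addZ])).1
  have hz : center L = ⊥ := ((center L).normal_of_characteristic.eq_bot_or_eq_top).resolve_right
    fun h => nab ⟨⟨fun a b => mem_center_iff.1 (h.ge (mem_top b)) a⟩⟩
  let c : L →* GG ι := MulAut.conj.codRestrict _ fun l => mem_sup_left ⟨l, rfl⟩
  let κ : ↥(S ⊔ Λ) →* GG ι := ι.codRestrict _ fun l => mem_sup_right ⟨l, rfl⟩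
  have cj' : ∀ (g : GG ι) l, g * c l * g⁻¹ = c (g.1 l) := fun g l =>
    Subtype.ext (MulEquiv.ext fun a => by simp [c])
  have ci : Function.Injective c := (injective_iff_map_eq_one c).2 fun l h => hz.le
    (mem_center_iff.2 fun a =>
      (mul_inv_eq_iff_eq_mul.1 (DFunLike.congr_fun (congrArg Subtype.val h) a)).symm)
  have κi : Function.Injective κ := fun _ _ h => rz.inj (congrArg Subtype.val h)
  have : c.range.Normal := ⟨by rintro - ⟨l, rfl⟩ g; exact ⟨_, (cj' g l).symm⟩⟩
  have top : c.range ⊔ κ.range = ⊤ := map_injective (subtype_injective _) (by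
    rw [Subgroup.map_sup, ← MonoidHom.range_comp, ← MonoidHom.range_comp,
      ← MonoidHom.range_eq_map, range_subtype]; rfl)
  have JH : rA x z v ⊔ rA y z v ≤ S ⊔ Λ := js.le.trans le_sup_left
  have e1 : ((rA x z v ⊔ rA y z v).subgroupOf (S ⊔ Λ)).map κ = (rA X Z V ⊔ rA Y Z V).map c := by
    choose hx ex using rz.ix
    choose hy ey using rz.iy
    choose hz ez using rz.iz
    choose hv ev using rz.iv
    rw [(_ : (rA x z v ⊔ rA y z v).subgroupOf (S ⊔ Λ) = rA (fun a => ⟨_, hx a⟩) (fun a => ⟨_, hz a⟩)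
      (fun a => ⟨_, hv a⟩) ⊔ rA (fun a => ⟨_, hy a⟩) (fun a => ⟨_, hz a⟩) fun a => ⟨_, hv a⟩)]
    · simp only [Subgroup.map_sup, map_rA]
      congr 2 <;> funext a
      exacts [Subtype.ext (ex a), Subtype.ext (ez a), Subtype.ext (ev a), Subtype.ext (ey a),
        Subtype.ext (ez a), Subtype.ext (ev a)]
    · refine map_injective (subtype_injective _) ?_
      rw [map_subgroupOf_eq_of_le JH, Subgroup.map_sup, map_rA, map_rA]
      rfl
  obtain ⟨i0, sN⟩ := idx2 js fr.lam.ss fr.lam.sΛ fr.lam.nA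
  obtain ⟨k, hk⟩ := js.two.index ((rA x z v ⊔ rA y z v).subgroupOf S)
  obtain ⟨h1, h2⟩ := core nab hz ci κi top (fun g hg => Subtype.ext (MulEquiv.ext fun l =>
      ci (by rw [← cj', ← hg _ ⟨l, rfl⟩, mul_inv_cancel_right]; rfl)))
    (S := S.subgroupOf (S ⊔ Λ)) (Λ := Λ.subgroupOf (S ⊔ Λ)) tg.syl e1 (subgroupOf_mono _ js.le)
    (by
      rw [relIndex_subgroupOf le_sup_left, relIndex, hk]
      exact dvd_pow_self 2 fun e => sN (relIndex_eq_one.1 (hk.trans (by rw [e, pow_zero])) js.yS))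
    (by rw [Nat.card_congr (subgroupOfEquivOfLe le_sup_right).toEquiv]; exact fr.lam.odd)
    (fun h ⟨l, e⟩ => by
      rw [← subgroupOf_sup JH le_sup_right]
      exact (hB h l (congrArg Subtype.val e).symm).1)
    (by rw [← subgroupOf_sup JH le_sup_right]; exact i0)
  exact ⟨⟨κ.comp (inclusion le_sup_left), κi.comp (inclusion_injective _), by
    rwa [MonoidHom.range_comp, inclusion_range]⟩, fun _ => rfl, h2⟩

end Cfsg.Lib.HM
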