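import Cfsg.Agent.HM.St
import Cfsg.Agent.HM.RzK

/-! Minimal 2-fusion systems: the fusion on the overgroups of J. -/

set_option autoImplicit false
set_option linter.unusedSectionVars false
set_option linter.unusedVariables false

open scoped commutatorElement MatrixGroups

namespace Cfsg.Lib.HM

open Cfsg Subgroup
open Cfsg.Lib.Fus hiding cj IsSylowIn
open Cfsg.Lib.Trans (cj IsSylowIn QDFrame)
open Cfsg.Lib.Gold (Ns Cs C1)
open Cfsg.Lib.Gomi (AB PosC ZZ E2)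
open Cfsg.Lib.GCT (RB RQ WW QQ VV DD K0 MC)
open Cfsg.Lib.Rank2 (SylEmb DFrame)
open Cfsg.Lib.Fus.Rk2 (FHas TwoCl Rigid autF pullE)

universe u

open RzK Cfsg.Lib.Trans Cfsg.Lib.Gold in
theorem st_RealD (hRealB : St_RealB.{u}) (hJsF : St_JsF.{u}) : St_RealD.{u} := by
  intro Γ _ _ S F K _ _ m x y z v u s Λ fr hq L _ _ X Y Z V n Um T ι rz E hE
  have hc := conj_inj T
  have mu := mulOn_extFun ι
  have SH : S ≤ S ⊔ Λ := le_sup_left
  refine ⟨⟨fr.lam.js.le, fun P hP φ hφ t => ?_⟩, fun P g hP => ⟨fun r => ?_, fun r => ?_⟩⟩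
  · obtain ⟨h1, h2, γ, hγ, e⟩ := (mor_pull E hE).1 (mor_of_mem hφ)
    have e1 := e t t.2
    have h3 := h2 t t.2
    rw [extFun_coe] at e1 h3
    obtain ⟨b, -, e2⟩ := (corJ rz).1 t (hP t.2)
    refine (hRealB fr hq T ι rz ⟨φ t, SH h3⟩ (γ b) ?_).2 h3
    rw [← extFun_of_mem, e1, e2.2]
    ext w; simp
  · obtain ⟨h1, h2, γ, hγ, e⟩ := (mor_pull E hE).1 r
    obtain ⟨l, k, hk, rfl⟩ := exists_dec hγ
    have hg : g ∈ Ns (rA x z v ⊔ rA y z v) :=
      (hJsF (F := F) fr.lam.js).2.2.2.2.2.2.1 g (cj_le_iff.2 fun t ht => h2 t (hP ht))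
    have hl : l ∈ Ns (rA X Z V ⊔ rA Y Z V) := by
      refine mem_normalizer_of_cj_le ((corJ rz).cj_le hc (corJ rz) fun a ha => ?_)
      have ha' := mem_normalizer_conj (inv_mem (nJ fr.lam hk)) ha
      refine ⟨_, mem_normalizer_conj hg ha', ?_⟩
      have := e _ (hP ha')
      rw [this, mu.map_conj (inv_mem hk) (JH fr.lam ha), mu.map_inv hk]
      group
    obtain ⟨h₀, h3, h4⟩ := rz.nU l hl
    have hm := mul_mem h₀.2 hk
    have act : ∀ t ∈ P, (h₀ * k) * t * (h₀ * k : Γ)⁻¹ = g * t * g⁻¹ := fun t ht => by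
      refine injOn_extFun rz.inj (mul_mem (mul_mem hm (SH (h1 ht))) (inv_mem hm)) (SH (h2 t ht)) ?_
      have := e t ht
      rw [this, mu.map_conj hm (SH (h1 ht)), mu.map_mul h₀.2 hk, extFun_coe, h4]
    exact (fr.lam.morJ _ hm P h1 (cj_le_iff.2 fun t ht => act t ht ▸ h2 t ht)).congr act
  · obtain ⟨h, hh, e⟩ := fr.lam.extJ P g hP r
    refine (mor_pull E hE).2 ⟨r.le, fun t ht => r.maps ht, _, ext_mem hh, fun t ht => ?_⟩
    rw [← e t ht, mu.map_conj hh (SH (r.le ht))]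

end Cfsg.Lib.HM
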