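import Cfsg.Agent.HM.St
import Cfsg.Agent.HM.RzK

/-! Minimal 2-fusion systems: the automorphisms of A. -/

set_option autoImplicit false
set_option linter.unusedSectionVars false
set_option linter.unusedVariables false

open scoped commutatorElement MatrixGroups

namespace Cfsg.Lib.HM

open Cfsg Subgroup
open Cfsg.Lib.Fus hiding cj IsSylowIn
open Cfsg.Lib.Trans (cj IsSylowIn QDFrame)
open Cfsg.Lib.Gold (Ns Cs C1)
open Cfsg.Lib.Gomi (AB PosC ZZ E2)
open Cfsg.Lib.GCT (RB RQ WW QQ VV DD K0 MC)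
open Cfsg.Lib.Rank2 (SylEmb DFrame)
open Cfsg.Lib.Fus.Rk2 (FHas TwoCl Rigid autF pullE)

universe u

namespace RealEAux

open RzK Cfsg.Lib.Trans Cfsg.Lib.Gold

variable {Γ : Type u} [Group Γ] {L : Type} [Group L] {H : Subgroup Γ}

/-- the elements of `L` whose action on `A` is induced by an element of `N` -/
def Ind (ι : H →* MulAut L) (A N : Subgroup Γ) (hN : N ≤ Ns A) : Subgroup L where
  carrier := {l | ∃ k ∈ N, ∀ a ∈ A,
    extFun ι (k * a * k⁻¹) = MulAut.conj l * extFun ι a * (MulAut.conj l)⁻¹}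
  one_mem' := ⟨1, one_mem _, fun a _ => by simp⟩
  mul_mem' := by
    rintro l l' ⟨k, hk, e⟩ ⟨k', hk', e'⟩
    refine ⟨k * k', mul_mem hk hk', fun a ha => ?_⟩
    rw [show k * k' * a * (k * k')⁻¹ = k * (k' * a * k'⁻¹) * k⁻¹ by group,
      e _ (mem_normalizer_conj (hN hk') ha), e' a ha, map_mul]
    group
  inv_mem' := by
    rintro l ⟨k, hk, e⟩
    refine ⟨k⁻¹, inv_mem hk, fun a ha => ?_⟩
    have := e _ (mem_normalizer_conj (hN (inv_mem hk)) ha)
    rw [show k * (k⁻¹ * a * k⁻¹⁻¹) * k⁻¹ = a by group] at this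
    rw [this, map_inv]
    group

end RealEAux

open RealEAux RzK Cfsg.Lib.Trans Cfsg.Lib.Gold in
theorem st_RealE (hRtB : St_RtB.{0}) : St_RealE.{u} := by
  intro Γ _ _ S F K _ _ m x y z v u s Λ fr hq L _ _ X Y Z V n Um T ι rz E hE g hg
  have hc := conj_inj T
  have mu := mulOn_extFun ι
  have SH : S ≤ S ⊔ Λ := le_sup_left
  have abL : AB (rA X Z V) (rA Y Z V) := (hRtB T.rt fr.two).2.2.2.2
  have ab := fr.lam.js.ab
  have AS : rA x z v ≤ S := le_sup_left.trans fr.lam.js.le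
  have AH : rA x z v ≤ S ⊔ Λ := AS.trans SH
  have uA : u ∈ Ns (rA x z v) := by
    refine mem_normalizer_of_cj_le ?_
    rw [cj_le_iff_le_cj_inv]
    refine (closure_le _).2 ?_
    rintro _ ((⟨a, rfl⟩ | ⟨a, rfl⟩) | ⟨a, rfl⟩) <;> refine mem_cj_inv.2 ?_
    · rw [fr.ux]; exact RtBAux.mz a
    · rw [fr.uz]; exact RtBAux.mx a
    · rw [fr.uv]; exact RtBAux.mv a
  have un : ∀ a ∈ rA x z v,
      extFun ι (u * a * u⁻¹) = MulAut.conj n * extFun ι a * (MulAut.conj n)⁻¹ := by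
    have m1 : MulOn (rA x z v) fun a => extFun ι (u * a * u⁻¹) := fun a ha b hb => by
      simp only
      rw [← mu _ (AH (mem_normalizer_conj uA ha)) _ (AH (mem_normalizer_conj uA hb))]
      congr 1; group
    have m2 : MulOn (rA x z v) fun a => MulAut.conj n * extFun ι a * (MulAut.conj n)⁻¹ :=
      fun a ha b hb => by
        simp only
        rw [mu _ (AH ha) _ (AH hb)]; group
    refine MulOn.eqOn_closure m1 m2 le_rfl ?_
    rintro _ ((⟨a, rfl⟩ | ⟨a, rfl⟩) | ⟨a, rfl⟩)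
    · rw [fr.ux, (mem_Gr_of (rz.ix a)).2, (mem_Gr_of (rz.iz a)).2, ← T.nX, map_mul, map_mul, map_inv]
    · rw [fr.uz, (mem_Gr_of (rz.ix a)).2, (mem_Gr_of (rz.iz a)).2, ← T.nZ, map_mul, map_mul, map_inv]
    · rw [fr.uv, (mem_Gr_of (rz.iv a)).2, ← map_inv, ← map_mul, ← map_mul, T.nV]
  constructor
  · intro r
    obtain ⟨h1, h2, γ, hγ, e⟩ := (mor_pull E hE).1 r
    obtain ⟨l, k, hk, rfl⟩ := exists_dec hγ
    have key : ∀ a, k⁻¹ * a * k⁻¹⁻¹ ∈ rA x z v → a ∈ S ⊔ Λ → ∃ a' ∈ rA x z v,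
        extFun ι a' = MulAut.conj l * extFun ι a * (MulAut.conj l)⁻¹ := fun a ha ha' => by
      refine ⟨_, mem_normalizer_conj hg ha, ?_⟩
      rw [e _ ha, mu.map_conj (inv_mem hk) ha', mu.map_inv hk]
      group
    have kA : k ∈ Ns (rA x z v) := by
      refine (ab.cj_eq_or (nJ fr.lam hk)).resolve_right fun ⟨e1, e2⟩ => ?_
      have h3 : cj l (rA Y Z V) ≤ rA X Z V :=
        (corB rz).cj_le hc (corA rz) fun a ha => key a (by rw [inv_inv, ← mem_cj, e1]; exact ha)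
          (JH fr.lam (mem_sup_right ha))
      have h4 := abL.symm.cj_eq (AB.symm_syl T.syl) (mem_top l) (h3.trans le_sup_right)
      exact abL.symm.nle (h4 ▸ h3)
    have hl : l ∈ Ns (rA X Z V) := mem_normalizer_of_cj_le
      ((corA rz).cj_le hc (corA rz) fun a ha => key a (mem_normalizer_conj (inv_mem kA) ha) (AH ha))
    have le : zpowers n ⊔ Ns (rA X Z V ⊔ rA Y Z V) ≤ Ind ι (rA x z v) (NF F _) (NF_le F _) := by
      refine sup_le (zpowers_le.2 ⟨u, (mem_NF AS).2 ⟨uA, fr.uF⟩, un⟩) fun l' hl' => ?_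
      obtain ⟨h₀, h3, h4⟩ := rz.nU l' hl'
      exact ⟨h₀, nF fr.lam h₀.2 (nA0 fr.lam h3), fun a ha => by
        rw [mu.map_conj h₀.2 (AH ha), extFun_coe, h4]⟩
    obtain ⟨k', hk', e'⟩ := le (T.nA hl)
    have hm := mul_mem hk' (nF fr.lam hk kA)
    refine ((mem_NF AS).1 hm).2.congr fun t ht => ?_
    refine injOn_extFun rz.inj (AH (mem_normalizer_conj hm.1 ht)) (SH (h2 t ht)) ?_
    rw [show k' * k * t * (k' * k)⁻¹ = k' * (k * t * k⁻¹) * k'⁻¹ by group,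
      e' _ (mem_normalizer_conj kA ht), mu.map_conj hk (AH ht), e t ht]
    group
  · intro r
    obtain ⟨h, hh, e⟩ := fr.extA g hg r
    have le : zpowers u ⊔ (rA x z v ⊔ rA y z v) ⊔ Λ ≤ NF (pullE E) (rA x z v) := by
      refine sup_le (sup_le (zpowers_le.2 ((mem_NF AS).2 ⟨uA, ?_⟩)) fun t ht => ?_) fun l hl => ?_
      · exact (mor_pull E hE).2 ⟨AS, fun t ht => AS (mem_normalizer_conj uA ht), _, conj_mem n, un⟩
      · exact (mem_NF AS).2 ⟨ab.S_le_Ns ht, R.of_mem _ AS (fr.lam.js.le ht)⟩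
      · refine (mem_NF AS).2 ⟨fr.lam.nA hl, (mor_pull E hE).2 ⟨AS, fun t ht =>
          AS (mem_normalizer_conj (fr.lam.nA hl) ht), _, ext_mem (mem_sup_right hl), fun t ht => ?_⟩⟩
        rw [mu.map_conj (mem_sup_right hl) (AH ht)]
    exact ((mem_NF AS).1 (le hh)).2.congr e

end Cfsg.Lib.HM
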