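import Cfsg.Agent.HM.JsF

/-! The realised system is a subsystem. -/

set_option autoImplicit false

open scoped commutatorElement MatrixGroups

namespace Cfsg.Lib.HM

open Cfsg Subgroup
open Cfsg.Lib.Fus hiding cj IsSylowIn
open Cfsg.Lib.Trans (cj IsSylowIn QDFrame)
open Cfsg.Lib.Gold (Ns Cs C1)
open Cfsg.Lib.Gomi (AB PosC ZZ E2)
open Cfsg.Lib.GCT (RB RQ WW QQ VV DD K0 MC)
open Cfsg.Lib.Rank2 (SylEmb DFrame)
open Cfsg.Lib.Fus.Rk2 (FHas TwoCl Rigid autF pullE)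

universe u

theorem st_RlLe (hEss0 : St_Ess0.{u}) (hEssJ : St_EssJ.{u}) : St_RlLe.{u} := by
  intro Γ _ _ S F N A A' y h hU rl
  refine sub_of_alperin_cr h.two rl.sat (E := F) fun Q _ hc hr _ f i => ?_
  obtain ⟨g, r, e⟩ := hU.exists_R i.mor
  have n : g ∈ Ns Q := mem_normalizer_of_finite fun x hx => e x hx ▸ i.maps hx
  refine Mor.congr (?_ : R F Q g) fun x hx => (e x hx).symm
  by_cases hQ : Q ≤ A ⊔ A'
  · rcases hEss0 h hQ hc hr with rfl | rfl | rfl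
    · exact (rl.aa g n).1 r
    · exact JsFAux.swap h (fun g hg => (rl.aa g hg).1) n r
    · exact (rl.jj _ g le_rfl).1 r
  · exact (rl.jj _ g (hEssJ h rl.sc hQ hc hr)).1 r

end Cfsg.Lib.HM
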