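import Cfsg.Agent.HM.RtB

/-! Generation by the simple root subgroups. -/

set_option autoImplicit false

open scoped commutatorElement MatrixGroups

namespace Cfsg.Lib.HM

open Cfsg Subgroup
open Cfsg.Lib.Fus hiding cj IsSylowIn
open Cfsg.Lib.Trans (cj IsSylowIn QDFrame)
open Cfsg.Lib.Gold (Ns Cs C1)
open Cfsg.Lib.Gomi (AB PosC ZZ E2)
open Cfsg.Lib.GCT (RB RQ WW QQ VV DD K0 MC)
open Cfsg.Lib.Rank2 (SylEmb DFrame)
open Cfsg.Lib.Fus.Rk2 (FHas TwoCl Rigid autF pullE)

universe u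

open RtBAux in
theorem st_RtG (hRtB : St_RtB.{u}) : St_RtG.{u} := by
  intro G _ _ K _ _ m x y z v h h2 hq
  have p := h.pos
  have : CharP K 2 := CharTwo.of_one_ne_zero_of_two_eq_zero one_ne_zero h2
  obtain ⟨-, -, -, hZ, -⟩ := hRtB h h2
  have cm : ∀ a b, ⁅x a, y b⁆ = z (a * b) * v (a ^ 2 * b) := fun a b => by
    rw [commutatorElement_def, p.comm]; group
  obtain ⟨a, a0, a1⟩ : ∃ a : K, a ≠ 0 ∧ a ≠ 1 := by
    classical
    by_contra! hc
    have : (Finset.univ : Finset K) ⊆ {0, 1} := fun a _ => by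
      by_cases e : a = 0 <;> simp [e, hc a]
    have := (Finset.card_le_card this).trans (Finset.card_le_two)
    rw [Finset.card_univ] at this
    omega
  have gen : ∀ H : Subgroup G, (∀ a b, ⁅x a, y b⁆ ∈ H) → (∀ d, v d ∈ H) ∧ ∀ c, z c ∈ H := by
    intro H hH
    have hv : ∀ d, v d ∈ H := fun d => by
      have n : a ^ 2 + a ≠ 0 := by
        rw [show a ^ 2 + a = a * (a - 1) by linear_combination a * h2]
        exact mul_ne_zero a0 (sub_ne_zero.2 a1)
      have := mul_mem (hH a (d / (a ^ 2 + a))) (hH 1 (a * (d / (a ^ 2 + a))))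
      rwa [cm, cm, one_mul, mul_assoc, ← mul_assoc (v _), ← p.zv, mul_assoc, ← mul_assoc,
        Gomi.sq_of_add p.addZ, one_mul, p.addV,
        show a ^ 2 * (d / (a ^ 2 + a)) + 1 ^ 2 * (a * (d / (a ^ 2 + a))) = d by
          rw [one_pow, one_mul, ← add_mul, mul_div_cancel₀ _ n]] at this
    refine ⟨hv, fun c => ?_⟩
    have := hH 1 c
    rwa [cm, one_mul, mul_mem_cancel_right (hv _)] at this
  refine ⟨le_antisymm ?_ ((closure_le _).2 ?_), fun j hj => ?_, ?_⟩
  · have mx' : ∀ a, x a ∈ closure (Set.range x ∪ Set.range y) :=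
      fun a => subset_closure (.inl ⟨a, rfl⟩)
    have my' : ∀ a, y a ∈ closure (Set.range x ∪ Set.range y) :=
      fun a => subset_closure (.inr ⟨a, rfl⟩)
    obtain ⟨hv, hz⟩ := gen (closure (Set.range x ∪ Set.range y)) fun a b =>
      mul_mem (mul_mem (mul_mem (mx' a) (my' b)) (inv_mem (mx' a))) (inv_mem (my' b))
    intro j hj
    obtain ⟨a, b, c, d, rfl⟩ := (memJ p h2).1 hj
    exact mul_mem (mul_mem (mul_mem (mx' a) (my' b)) (hz c)) (hv d)
  · rintro _ (⟨a, rfl⟩ | ⟨a, rfl⟩)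
    exacts [mem_sup_left (mx a), mem_sup_right (mx a)]
  · obtain ⟨hv, hz⟩ := gen ⁅rA x z v, rA y z v⁆ fun a b => commutator_mem_commutator (mx a) (mx b)
    obtain ⟨c, d, rfl⟩ := (hZ j).1 hj
    exact mul_mem (hz c) (hv d)
  · have := Nat.card_le_card_of_injective
      (fun w : K × ↥(rA x z v ⊓ rA y z v) => (⟨x w.1 * w.2, mul_mem (mx _) w.2.2.1⟩ : rA x z v))
      (by
        rintro ⟨a, w, hw⟩ ⟨a', w', hw'⟩ e
        have e' : x a * w = x a' * w' := congrArg Subtype.val e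
        obtain ⟨c, d, rfl⟩ := (hZ w).1 hw
        obtain ⟨c', d', rfl⟩ := (hZ w').1 hw'
        obtain rfl : a = a' := (uniq h h2 (a := a) (b := 0) (c := c) (d := d) (a' := a') (b' := 0)
          (c' := c') (d' := d') (by simpa [Gomi.zero_of_add p.addY, mul_assoc] using e')).1
        exact Prod.ext rfl (Subtype.ext (mul_left_cancel e')))
    rw [Nat.card_prod, Nat.card_eq_fintype_card] at this
    have := Nat.card_pos (α := ↥(rA x z v ⊓ rA y z v))
    nlinarith

end Cfsg.Lib.HM
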