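import Cfsg.Agent.HM.RtB

/-! Isomorphism of root groups. -/

set_option autoImplicit false

open scoped commutatorElement MatrixGroups

namespace Cfsg.Lib.HM

open Cfsg Subgroup
open Cfsg.Lib.Fus hiding cj IsSylowIn
open Cfsg.Lib.Trans (cj IsSylowIn QDFrame)
open Cfsg.Lib.Gold (Ns Cs C1)
open Cfsg.Lib.Gomi (AB PosC ZZ E2)
open Cfsg.Lib.GCT (RB RQ WW QQ VV DD K0 MC)
open Cfsg.Lib.Rank2 (SylEmb DFrame)
open Cfsg.Lib.Fus.Rk2 (FHas TwoCl Rigid autF pullE)

universe u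

open RtBAux in
theorem st_RtHom (_hRtB : St_RtB.{u}) : St_RtHom.{u} := by
  classical
  intro G _ L _ K _ m x y z v X Y Z V h H h2
  have : CharP K 2 := CharTwo.of_one_ne_zero_of_two_eq_zero one_ne_zero h2
  have p := h.pos
  have P := H.pos
  have vV : ∀ e, v e = 1 ↔ V e = 1 := fun e => by
    rcases h.typ with ⟨m1, h1⟩ | ⟨m1, h1⟩ <;> rcases H.typ with ⟨m2, h3⟩ | ⟨m2, h3⟩
    · simp [h1, h3]
    · omega
    · omega
    · exact ⟨fun k => h1 e k ▸ Gomi.zero_of_add P.addV, fun k => h3 e k ▸ Gomi.zero_of_add p.addV⟩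
  have cv : ∀ d d', V (d + d') = 1 → V d = V d' := fun d d' e =>
    mul_right_cancel ((P.addV d d').trans (e.trans (Gomi.sq_of_add P.addV d').symm))
  have cv' : ∀ d d', v (d + d') = 1 → v d = v d' := fun d d' e =>
    mul_right_cancel ((p.addV d d').trans (e.trans (Gomi.sq_of_add p.addV d').symm))
  obtain ⟨j, hj⟩ : ∃ j : G → L, ∀ a b c d, j (x a * y b * z c * v d) = X a * Y b * Z c * V d := by
    refine ⟨fun g => if k : ∃ t : K × K × K × K, g = x t.1 * y t.2.1 * z t.2.2.1 * v t.2.2.2 then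
      X k.choose.1 * Y k.choose.2.1 * Z k.choose.2.2.1 * V k.choose.2.2.2 else 1,
      fun a b c d => ?_⟩
    have k : ∃ t : K × K × K × K, x a * y b * z c * v d =
      x t.1 * y t.2.1 * z t.2.2.1 * v t.2.2.2 := ⟨(a, b, c, d), rfl⟩
    obtain ⟨e1, e2, e3, e4⟩ := uniq h h2 k.choose_spec
    simp only [dif_pos k]
    rw [← e1, ← e2, ← e3, ← cv _ _ ((vV _).1 e4)]
  have x0 := Gomi.zero_of_add p.addX
  have y0 := Gomi.zero_of_add p.addY
  have z0 := Gomi.zero_of_add p.addZ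
  have v0 := Gomi.zero_of_add p.addV
  have X0 := Gomi.zero_of_add P.addX
  have Y0 := Gomi.zero_of_add P.addY
  have Z0 := Gomi.zero_of_add P.addZ
  have V0 := Gomi.zero_of_add P.addV
  refine ⟨j, fun g hg k hk => ?_, fun g hg k hk e => ?_, fun a => by simpa [*] using hj a 0 0 0,
    fun a => by simpa [*] using hj 0 a 0 0, fun a => by simpa [*] using hj 0 0 a 0,
    fun a => by simpa [*] using hj 0 0 0 a⟩
  · obtain ⟨a, b, c, d, rfl⟩ := (memJ p h2).1 hg
    obtain ⟨a', b', c', d', rfl⟩ := (memJ p h2).1 hk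
    rw [mul p h2, hj, hj, hj, mul P h2]
  · obtain ⟨a, b, c, d, rfl⟩ := (memJ p h2).1 hg
    obtain ⟨a', b', c', d', rfl⟩ := (memJ p h2).1 hk
    rw [hj, hj] at e
    obtain ⟨rfl, rfl, rfl, e4⟩ := uniq H h2 e
    rw [cv' _ _ ((vV _).2 e4)]

end Cfsg.Lib.HM
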