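import Cfsg.Agent.HM.Nm0

/-! Closed chains from solvability. -/

set_option autoImplicit false

open scoped commutatorElement MatrixGroups

namespace Cfsg.Lib.HM

open Cfsg Subgroup
open Cfsg.Lib.Fus hiding cj IsSylowIn
open Cfsg.Lib.Trans (cj IsSylowIn QDFrame)
open Cfsg.Lib.Gold (Ns Cs C1)
open Cfsg.Lib.Gomi (AB PosC ZZ E2)
open Cfsg.Lib.GCT (RB RQ WW QQ VV DD K0 MC)
open Cfsg.Lib.Rank2 (SylEmb DFrame)
open Cfsg.Lib.Fus.Rk2 (FHas TwoCl Rigid autF pullE)

universe u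

theorem st_Scl : St_Scl.{u} := by
  intro Γ _ _ S F s hm P h1 hP D d0 d1
  obtain ⟨h, r, n⟩ := s.exists_fn hP
  have ch := (isSolvable_iff_abChain (s.two.to_le normalizerIn_le) (normSys_saturated s.two s.sat n)).1
    (hm _ (mt Trans.cj_eq_bot.1 h1) n _ (isNormalizerSystem_normSys F _ n.1))
  have PT : P ≤ S ⊓ Ns P := le_inf hP le_normalizer
  have cl : ∀ X, (normSys F _ n.1).StronglyClosed X → Cl F P (S ⊓ Ns P ⊓ cj h⁻¹ X) := by
    refine fun X hX => ⟨inf_le_left, fun x hx g hg rg => ?_⟩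
    have k : P ⊔ zpowers x ≤ S ⊓ Ns P := sup_le PT (zpowers_le.2 hx.1)
    have k' := rg.cj_le_inf k hg
    have xm : x ∈ P ⊔ zpowers x := mem_sup_right (mem_zpowers x)
    refine ⟨Trans.cj_le_iff.1 k' x xm, Trans.mem_cj_inv.2 ?_⟩
    have := (Mor.mor_normSys (hQ := n.1) (rg.conj r k k') (Trans.cj_mono h le_sup_left)
      ((Trans.cj_mono h k).trans r.cj_norm_le) (img_conj_eq (conj_mem_Ns hg h))).mem_of_stronglyClosed
      hX (Trans.cj_le_iff.1 le_rfl x xm) (Trans.mem_cj_inv.1 hx.2)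
    convert this using 1
    group
  have key : ∀ X, AbChain (normSys F _ n.1) X → D (S ⊓ Ns P ⊓ cj h⁻¹ X) →
      ∃ X' X, Cl F P X' ∧ Cl F P X ∧ X' ≤ X ∧ ⁅X, X⁆ ≤ X' ∧ D X' ∧ ¬ D X := by
    intro X hX
    induction hX with
    | top =>
      exact fun d => absurd (inf_eq_left.2 (Trans.cj_le_iff_le_cj_inv.1 r.cj_norm_le) ▸
        (d : D (S ⊓ Ns P ⊓ cj h⁻¹ (S ⊓ Ns (cj h P))))) d1
    | @step X X' h1 h2 h3 h4 ih =>
      intro d
      by_cases d' : D (S ⊓ Ns P ⊓ cj h⁻¹ X')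
      · exact ih d'
      refine ⟨_, _, cl X h1, cl X' h4.stronglyClosed, inf_le_inf_left _ (Trans.cj_mono _ h2),
        le_inf ((commutator_mono inf_le_left inf_le_left).trans (commutator_le_self _))
          ((commutator_mono inf_le_right inf_le_right).trans ?_), d, d'⟩
      rw [← Trans.cj_commutator]
      exact Trans.cj_mono _ h3
  exact key ⊥ ch (by rwa [Trans.cj_bot, inf_bot_eq])

end Cfsg.Lib.HM
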