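import Cfsg.Agent.HM.St

/-! Minimal 2-fusion systems in the pushing-up case: no field automorphisms. -/

set_option autoImplicit false

open scoped commutatorElement

namespace Cfsg.Lib.HM

open Cfsg Subgroup Cfsg.Lib.Solv Cfsg.Lib.Trans Cfsg.Lib.Trans.TJ Cfsg.Lib.Trans.MP
  Cfsg.Lib.Trans.PU Cfsg.Lib.Trans.BB Cfsg.Lib.Local.MSS Cfsg.Lib.Gold
open Cfsg.Lib.Gomi (AB ZZ E2)
open Cfsg.Lib.GCT (RB RQ WW QQ VV DD K0)

universe u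

theorem st_TJ (hFld : St_Fld.{u}) : St_TJ.{u} := by
  intro Γ _ _ S F q A A' M E y c scl hq
  obtain ⟨f1, f2, f3⟩ := hFld c hq
  by_contra hT
  obtain ⟨f, hf, hf', ff⟩ := f1 hT
  have ab := c.ab
  have JT : A ⊔ A' ≤ S ⊓ Ns A := c.bau ▸ bau_le _
  have JS := JT.trans inf_le_left
  have yJ : y ∈ Ns (A ⊔ A') := cj_eq_self_iff.1 (by rw [cj_sup, c.yA, c.yB, sup_comm])
  have cA : ∀ {a}, a ∈ A → y * a * y⁻¹ ∈ A' := fun h => c.yA ▸ conj_mem_cj.2 h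
  have cB : ∀ {a}, a ∈ A' → y * a * y⁻¹ ∈ A := fun h => c.yB ▸ conj_mem_cj.2 h
  have dA : ∀ {a}, a ∈ A → y⁻¹ * a * y ∈ A' := fun h => mem_cj.1 (c.yB.ge h)
  have dB : ∀ {a}, a ∈ A' → y⁻¹ * a * y ∈ A := fun h => mem_cj.1 (c.yA.ge h)
  obtain ⟨⟨a, ha, ha', fa⟩, k, hk, kf, k1⟩ := f2 f hf hf' ff
  obtain ⟨⟨a', hb, hb', fb⟩, k', hk', kf', k2⟩ := f2 (y⁻¹ * f * y) (mem_normalizer_conj' c.yT hf)
    (fun h => hf' (by simpa [mul_assoc] using mem_normalizer_conj yJ h))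
    (by rw [show y⁻¹ * f * y * (y⁻¹ * f * y) = y⁻¹ * (f * f) * y by group, ff]; group)
  obtain ⟨b, hb, hb', fb⟩ : ∃ b ∈ A', b ∉ A ∧ f * b = b * f :=
    ⟨y * a' * y⁻¹, cA hb, fun h => hb' (by simpa [mul_assoc] using dA h), by
      calc f * (y * a' * y⁻¹) = y * (y⁻¹ * f * y * a') * y⁻¹ := by group
        _ = _ := by rw [fb]; group⟩
  have nP : ∀ {g t : Γ}, g * t = t * g → g ∈ Ns (zpowers t) := fun {g t} h =>
    cj_eq_self_iff.1 (by rw [cj_zpowers, h, mul_inv_cancel_right])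
  have PS : zpowers f ≤ S ⊓ Ns A := zpowers_le.2 hf
  obtain ⟨X', X, -, x, -, hc, d1, d2⟩ := scl (zpowers f) (fun h => hf' (by
    rw [zpowers_eq_bot.1 h]; exact one_mem _)) (PS.trans inf_le_left) (fun X => X ⊓ (A ⊔ A') = ⊥)
    (by simp) fun h => ha' (by
      rw [mem_bot.1 (h.le ⟨⟨JS (mem_sup_left ha), nP fa.symm⟩, mem_sup_left ha⟩)]; exact one_mem _)
  have zS : ∀ {w : Γ}, w ∈ A ⊔ A' → zpowers f ⊔ zpowers w ≤ S ⊓ Ns A := fun h =>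
    sup_le PS (zpowers_le.2 (JT h))
  have cm : ∀ {g w : Γ}, g ∈ A ⊔ A' → f * g = g * f → w ∈ X → w ∈ A ⊔ A' → ⁅g, w⁆ ∈ X :=
    fun hg e h1 h2 => X.mul_mem (x.cl _ h1 _ (nP e.symm)
      (R.of_mem F ((zS h2).trans inf_le_left) (JS hg))) (X.inv_mem h1)
  have cm' : ∀ {g w : Γ}, g ∈ A ⊔ A' → f * g = g * f → w ∈ X → w ∈ A ⊔ A' → ⁅w, g⁆ ∈ X :=
    fun hg e h1 h2 => by rw [← commutatorElement_inv]; exact X.inv_mem (cm hg e h1 h2)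
  have ne : ∀ {u v : Γ}, u ∈ A → u ∉ A' → v ∈ A' → v ∉ A → ⁅u, v⁆ ≠ 1 := fun h1 h2 h3 h4 e =>
    (ab.mem_or_mem h1 h3 (commutatorElement_eq_one_iff_mul_comm.1 e)).elim h2 h4
  have s1 : ∃ w ∈ X, w ∈ A ⊓ A' ∧ w ≠ 1 := by
    obtain ⟨⟨u, hu⟩, u1⟩ := ne_bot_iff_exists_ne_one.1 d2
    replace u1 : u ≠ 1 := fun e => u1 (Subtype.ext e)
    by_cases h : u * u = 1
    · by_cases h1 : u ∈ A <;> by_cases h2 : u ∈ A'
      · exact ⟨u, hu.1, ⟨h1, h2⟩, u1⟩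
      · exact ⟨_, cm' (mem_sup_right hb) fb hu.1 hu.2, ab.comm_mem h1 hb, ne h1 h2 hb hb'⟩
      · exact ⟨_, cm (mem_sup_left ha) fa hu.1 hu.2, ab.comm_mem ha h2, ne ha ha' h2 h1⟩
      · exact ((ab.inv u hu.2 h).elim h1 h2).elim
    · exact ⟨u * u, X.mul_mem hu.1 hu.1, ab.sq_mem hu.2, h⟩
  have s2 : ∀ w ∈ X, w ∈ A ⊓ A' → w ∉ DD (A ⊔ A') E → ∃ u ∈ X, u ∈ A ∧ u ∉ A' := fun w h1 h2 h3 =>
    have h4 := mem_normalizer_conj (c.mdl.nU hk) h2.1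
    ⟨_, x.cl w h1 k (nP kf) (c.mdl.mor k hk _ (zS (mem_sup_left h2.1)) (by
      rw [cj_sup, cj_eq_of_mem_normalizer (nP kf), cj_zpowers]
      exact (zS (mem_sup_left h4)).trans inf_le_left)), h4, k1 w h2 h3⟩
  have s3 : ∀ w ∈ X, w ∈ A ⊓ A' → w ∉ cj y (DD (A ⊔ A') E) → ∃ u ∈ X, u ∈ A' ∧ u ∉ A := by
    intro w h1 h2 h3
    have h4 : y⁻¹ * w * y ∈ A ⊓ A' := ⟨dB h2.2, dA h2.1⟩
    have h5 := mem_normalizer_conj (c.mdl.nU hk') h4.1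
    have l1 : ∀ {v : Γ}, v ∈ A → zpowers (y⁻¹ * f * y) ⊔ zpowers v ≤ S ⊓ Ns A := fun h =>
      sup_le (zpowers_le.2 (mem_normalizer_conj' c.yT hf)) (zpowers_le.2 (JT (mem_sup_left h)))
    have l2 : cj k' (zpowers (y⁻¹ * f * y) ⊔ zpowers (y⁻¹ * w * y)) ≤ S := by
      rw [cj_sup, cj_eq_of_mem_normalizer (nP kf'), cj_zpowers]
      exact (l1 h5).trans inf_le_left
    have r := (c.mdl.mor k' hk' _ (l1 h4.1) l2).conj (R.of_mem F le_rfl c.yS)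
      ((l1 h4.1).trans inf_le_left) l2
    rw [cj_sup, cj_zpowers, cj_zpowers, show y * (y⁻¹ * f * y) * y⁻¹ = f by group,
      show y * (y⁻¹ * w * y) * y⁻¹ = w by group] at r
    have e : y * k' * y⁻¹ * w * (y * k' * y⁻¹)⁻¹ = y * (k' * (y⁻¹ * w * y) * k'⁻¹) * y⁻¹ := by group
    refine ⟨_, x.cl w h1 _ (nP ?_) r, e ▸ cA h5, fun h => k2 _ h4 (mt mem_cj.2 h3) ?_⟩
    · calc y * k' * y⁻¹ * f = y * (k' * (y⁻¹ * f * y)) * y⁻¹ := by group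
        _ = _ := by rw [kf']; group
    · rw [e] at h
      simpa [mul_assoc] using dA h
  have s4 : (∃ u ∈ X, u ∈ A ∧ u ∉ A') → ∃ u ∈ X, u ∈ A' ∧ u ∉ A := fun ⟨u, h1, h2, h3⟩ => by
    refine s3 _ (cm' (mem_sup_right hb) fb h1 (mem_sup_left h2)) (ab.comm_mem h2 hb) fun h => ?_
    have : ⁅y⁻¹ * b * y, y⁻¹ * u * y⁆ ∈ DD (A ⊔ A') E := by
      convert Subgroup.inv_mem _ (mem_cj.1 h) using 1
      simp only [commutatorElement_def]; group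
    rcases f3 _ (dB hb) _ (dA h2) this with h | h
    · exact hb' (by simpa [mul_assoc] using cB h)
    · exact h3 (by simpa [mul_assoc] using cA h)
  have s5 : (∃ u ∈ X, u ∈ A' ∧ u ∉ A) → ∃ u ∈ X, u ∈ A ∧ u ∉ A' := fun ⟨u, h1, h2, h3⟩ =>
    s2 _ (cm (mem_sup_left ha) fa h1 (mem_sup_right h2)) (ab.comm_mem ha h2) fun h =>
      (f3 _ ha _ h2 h).elim ha' h3
  have s6 : ∃ u ∈ X, u ∈ A ∧ u ∉ A' := by
    obtain ⟨w, h1, h2, h3⟩ := s1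
    by_cases h : w ∈ DD (A ⊔ A') E
    · exact s5 (s3 w h1 h2 fun h' => h3 (mem_bot.1 (c.dd.le ⟨h, h'⟩)))
    · exact s2 w h1 h2 h
  obtain ⟨v, v1, v2, v3⟩ := s4 s6
  obtain ⟨u, u1, u2, u3⟩ := s6
  exact ne u2 u3 v2 v3 (mem_bot.1 (d1.le ⟨hc (commutator_mem_commutator u1 v1),
    mem_sup_left (ab.comm_mem u2 v2).1⟩))

end Cfsg.Lib.HM
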