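import Cfsg.Agent.HM.St
import Cfsg.Agent.GCT.Two0

/-! The case `q = 2`: `N_S(A) = J`. -/

set_option autoImplicit false

open scoped commutatorElement MatrixGroups

namespace Cfsg.Lib.HM

open Cfsg Subgroup
open Cfsg.Lib.Fus hiding cj IsSylowIn
open Cfsg.Lib.Trans (cj IsSylowIn QDFrame)
open Cfsg.Lib.Gold (Ns Cs C1)
open Cfsg.Lib.Gomi (AB PosC ZZ E2)

universe u

open Cfsg.Lib.GCT (RB RQ WW QQ VV DD)

open Cfsg.Lib.Trans Cfsg.Lib.Gold in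
theorem st_TJ2 (hCA : St_CA.{u}) : St_TJ2.{u} := by
  intro Γ _ _ S F q A A' M E y c hq t ht
  have hC := hCA c
  obtain ⟨K, _, _, θ, ψ, hK, r⟩ := c.rq
  have h2 := hK.trans hq
  have hT := c.mdl.syl.le
  have hJT : A ⊔ A' ≤ S ⊓ Ns A := c.bau ▸ TJ.bau_le _
  have nJ : S ⊓ Ns A ≤ Ns (A ⊔ A') := c.bau ▸ le_normalizer.trans (TJ.normalizer_le_bau _)
  have nW : M ≤ Ns (WW E) := c.nE.trans (Local.normalizer_le_normalizer_pCoreOf E)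
  have fD : ∀ s ∈ S ⊓ Ns A, ∀ d ∈ DD (A ⊔ A') E, d * s = s * d := fun s hs d hd =>
    GCT.Tw.fix_of (GCT.Tw.eq_of_card_le_two (hq ▸ c.dc))
      (mem_Ns_inf (nJ hs) (mem_Ns_Cs (c.nE (hT hs)))) hd
  have fZ : ∀ s ∈ S ⊓ Ns A, ∀ w ∈ WW E ⊓ Cs (A ⊔ A'), w * s = s * w := fun s hs w hw =>
    GCT.Tw.fix_of (r.wz_eq h2) (mem_Ns_inf (nW (hT hs)) (mem_Ns_Cs (nJ hs))) hw
  obtain ⟨w, hw, hw'⟩ := SetLike.not_le_iff_exists.1 r.not_cent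
  have fin : ∀ s ∈ S ⊓ Ns A, w * s = s * w → s ∈ A ⊔ A' := fun s hs e => by
    refine mem_sup_left (hC ⟨hT hs, mem_Cs.2 fun a ha => ?_⟩)
    obtain ⟨w', hw1, d, hd, rfl⟩ := r.dec a (c.qA.ge ha)
    have k : w' * s = s * w' := by
      by_cases k : w' ∈ Cs (A ⊔ A')
      · exact fZ s hs w' ⟨hw1, k⟩
      · have k1 := fZ s hs _ ⟨mul_mem hw hw1, r.idxW2 h2 w hw w' hw1 hw' k⟩
        rw [mul_assoc, ← mul_assoc s, ← e, mul_assoc] at k1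
        exact mul_left_cancel k1
    rw [mul_assoc, fD s hs d hd, ← mul_assoc, k, mul_assoc]
  by_cases e : w * t = t * w
  · exact fin t ht e
  obtain ⟨b, hb, hb'⟩ := c.ab.exists_B
  have hbJ : b ∈ A ⊔ A' := mem_sup_right hb
  have k1 : ⁅b, w⁆ ≠ 1 := fun k => hw' (r.cent_of hbJ (c.qA.symm ▸ hb') hw
    (commutatorElement_eq_one_iff_mul_comm.1 k))
  have k2 : ⁅t, w⁆ ∈ WW E ⊓ Cs (A ⊔ A') := by
    have k3 := mem_normalizer_conj (nW (hT ht)) hw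
    have k4 : t * w * t⁻¹ ∉ Cs (A ⊔ A') := fun k => hw' (by
      simpa [mul_assoc] using mem_normalizer_conj' (mem_Ns_Cs (nJ ht)) k)
    exact ⟨(WW E).mul_mem k3 ((WW E).inv_mem hw),
      r.idxW2 h2 _ k3 _ (inv_mem hw) k4 fun k => hw' (inv_mem_iff.1 k)⟩
  have k3 := r.wz_eq h2 _ k2 _ (r.comm_W hbJ hw)
    (fun k => e (commutatorElement_eq_one_iff_mul_comm.1 k).symm) k1
  have k4 := fin (b⁻¹ * t) (mul_mem (inv_mem (hJT hbJ)) ht) (by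
    have k5 : t * w * t⁻¹ = b * w * b⁻¹ := mul_right_cancel k3
    calc w * (b⁻¹ * t) = b⁻¹ * (b * w * b⁻¹) * t := by group
      _ = _ := by rw [← k5]; group)
  exact (mul_mem_cancel_left (inv_mem hbJ)).1 k4

end Cfsg.Lib.HM
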