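import Cfsg.Agent.HM.St

/-! Minimal 2-fusion systems in the pushing-up case: a largest bad subgroup is not normal. -/

set_option autoImplicit false

namespace Cfsg.Lib.HM

open Cfsg Subgroup
open Cfsg.Lib.Fus hiding cj IsSylowIn
open Cfsg.Lib.Trans (cj IsSylowIn)
open Cfsg.Lib.Gold (Ns Cs C1)

universe u

namespace TopAux

variable {Γ : Type u} [Group Γ] [Finite Γ] {S : Subgroup Γ} {F : FusionSystem S}

/-- An odd power of an `F`-automorphism of `S` is inner. -/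
theorem odd_inner (st : Sat F) {y : Γ} (hy : y ∈ NF F S) :
    ∃ k, ∃ s ∈ S, ∀ x ∈ S, y ^ (2 * k + 1) * x * (y ^ (2 * k + 1))⁻¹ = s * x * s⁻¹ := by
  have : Fact (Nat.Prime 2) := ⟨Nat.prime_two⟩
  obtain ⟨k, j, h1, h2⟩ := exists_pow_ppart (p := 2) y 1
  obtain ⟨n, r⟩ := (mem_NF le_rfl).1 (pow_mem hy k)
  have h3 : conjAut S (y ^ k) n ∈ F.autGroup S := Mor.mem_autGroup r fun _ => rfl
  have h4 : conjAut S (y ^ k) n ^ 2 ^ j = 1 := by
    have := map_pow S.normalizerMonoidHom ⟨y ^ k, n⟩ (2 ^ j)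
    rw [conjAut, ← this, show (⟨y ^ k, n⟩ : normalizer (S : Set Γ)) ^ 2 ^ j = 1 from
      Subtype.ext h1, map_one]
  obtain ⟨s, hs, e⟩ := mem_inn_iff.1 ((sat_aut_top st.two st.sat).le_of_normalizes
    (zpowers_le.2 h3) (isPGroup_zpowers_of_pow h4) (by rw [normalizer_eq_top]; exact le_top)
    (mem_zpowers _))
  refine ⟨k / 2, s, hs, fun x hx => ?_⟩
  have : 2 * (k / 2) + 1 = k := by
    unfold Nat.ModEq at h2
    omega
  rw [this]
  exact e ⟨x, hx⟩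

end TopAux

theorem st_Top (hK : St_K.{u}) (hBlk : St_Blk.{u}) (hPair : St_Pair.{u}) : St_Top.{u} := by
  intro Γ _ _ S F N U mn hN hle hp mx hU
  have fn : F.IsFullyNormalized U := isFullyNormalized_of_le_normalizer mx.bad.2.1 hU
  obtain ⟨M, m⟩ := mn.mdl U mx.bad.1 fn
  have eT : S ⊓ Ns U = S := inf_eq_left.2 hU
  have h1 : S ≤ NF F S := fun s hs => (mem_NF le_rfl).2 ⟨le_normalizer hs, R.of_mem F le_rfl hs⟩
  obtain ⟨q, E, y, EM, -, -, r, hW, hy, hy', -⟩ := hBlk (Y := NF F S) mx.bad.1 m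
    (hK mn.toSat hN hle fn m mx.bad) (eT.le.trans h1) (by rw [eT]; exact NF_le F S)
    fun V _ h => hp V h
  obtain ⟨ab, e, sw, nA, -⟩ := hPair mn.scl m EM r hW (by rwa [eT]) hy' _ _ rfl rfl
  generalize GCT.QQ (baumannSubgroupOf 2 (S ⊓ Ns U)) E = A at ab e sw nA
  have AS : A ≤ S := le_sup_left.trans (e.le.trans (inf_le_left.trans inf_le_left))
  obtain ⟨k, s, hs, h⟩ := TopAux.odd_inner mn.toSat hy
  have y2 : y ^ 2 ∈ Ns A := Trans.cj_eq_self_iff.1 (by rw [sq, Trans.cj_mul, sw])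
  have y3 : y ^ (2 * k + 1) ∈ Ns A := Trans.mem_normalizer_of_cj_le (Trans.cj_le_iff.2 fun a ha => by
    rw [h a (AS ha)]
    exact Trans.mem_normalizer_conj (nA (eT.ge hs)) ha)
  rw [pow_succ, pow_mul, mul_mem_cancel_left (pow_mem y2 k)] at y3
  exact ab.nle (Trans.cj_eq_of_mem_normalizer y3).ge

end Cfsg.Lib.HM
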