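import Cfsg.Agent.HM.Nm0
import Cfsg.Agent.AB.ParFacts

/-! Two tori. -/

set_option autoImplicit false

open scoped commutatorElement MatrixGroups

namespace Cfsg.Lib.HM

open Cfsg Subgroup
open Cfsg.Lib.Fus hiding cj IsSylowIn
open Cfsg.Lib.Trans (cj IsSylowIn QDFrame)
open Cfsg.Lib.Gold (Ns Cs C1)
open Cfsg.Lib.Gomi (AB PosC ZZ E2)
open Cfsg.Lib.GCT (RB RQ WW QQ VV DD K0 MC)
open Cfsg.Lib.Rank2 (SylEmb DFrame)
open Cfsg.Lib.Fus.Rk2 (FHas TwoCl Rigid autF pullE)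

universe u

theorem st_Tor (hK0 : St_K0.{u}) : St_Tor.{u} := by
  intro Γ _ _ S F q A A' M E y c hq
  obtain ⟨K, _, _, θ, ψ, hK, k, zz⟩ := hK0 c hq
  obtain ⟨t, ht, -, f1, f2, f3⟩ := Gomi.HasPar.exists_fpf ⟨θ, ψ, k.par⟩ (hK ▸ hq)
  have JT : A ⊔ A' ≤ S ⊓ Ns A := c.bau ▸ inf_le_left
  have JM := JT.trans c.mdl.syl.le
  have JS := JT.trans inf_le_left
  have n1 := c.mdl.nU t.2
  have n2 : (t : Γ) ∈ Ns A' := mem_normalizer_of_finite fun b hb =>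
    mem_subgroupOf.1 (Trans.mem_normalizer_conj (x := ⟨b, JM (mem_sup_right hb)⟩) ht.2 hb)
  have nJ := Gold.mem_Ns_sup n1 n2
  have m : (t : Γ) ∈ NF F (A ⊔ A') := (mem_NF JS).2
    ⟨nJ, c.mdl.mor t t.2 _ JT ((Gold.mem_Ns_iff.1 nJ).le.trans JS)⟩
  have my : y ∈ NF F (A ⊔ A') := (mem_NF JS).2
    ⟨Gold.mem_Ns_iff.2 (by rw [Trans.cj_sup, c.yA, c.yB, sup_comm]), R.of_mem F JS c.yS⟩
  have fx : ∀ z ∈ A, t * z = z * t → z ∈ DD (A ⊔ A') E := fun z hz e => by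
    have := f1 ⟨z, JM (mem_sup_left hz)⟩ hz (by
      rw [commutatorElement_eq_one_iff_mul_comm.2 (Subtype.ext e)]; exact one_mem _)
    rwa [zz] at this
  refine ⟨t, ⟨n1, m⟩, y * t * y⁻¹, ⟨c.yB ▸ conj_mem_Ns n2 y,
    (NF F _).mul_mem (mul_mem my m) (inv_mem my)⟩,
    fun j hj e => ?_, fun z hz e1 e2 => ?_⟩
  · obtain ⟨a, ha, b, hb, rfl⟩ := c.ab.mem_sup.1 hj
    have k1 : ⁅(t : Γ), a⁆ ∈ A := mul_mem (Trans.mem_normalizer_conj n1 ha) (inv_mem ha)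
    have k2 : ⁅(t : Γ), b⁆ ∈ A' := mul_mem (Trans.mem_normalizer_conj n2 hb) (inv_mem hb)
    rw [show ⁅(t : Γ), a * b⁆ = ⁅(t : Γ), a⁆ * (a * ⁅(t : Γ), b⁆ * a⁻¹) by
      simp only [commutatorElement_def]; group] at e
    have k3 := (mul_mem_cancel_right (Trans.mem_normalizer_conj (c.ab.nB ha) k2)).1 e.2
    have k4 := (mul_mem_cancel_left ha).1 ((mul_mem_cancel_right (inv_mem ha)).1
      ((mul_mem_cancel_left k1).1 e.1))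
    exact ⟨mul_mem ha (f3 ⟨b, JM (mem_sup_right hb)⟩ hb k4),
      mul_mem (f2 ⟨a, JM (mem_sup_left ha)⟩ ha k3) hb⟩
  · refine (eq_bot_iff.1 c.dd ⟨fx z hz.1 e1, Trans.mem_cj.2 (fx _ (Trans.mem_cj.1 (c.yA ▸ hz.2)) ?_)⟩ :)
    calc t * (y⁻¹ * z * y) = y⁻¹ * (y * t * y⁻¹ * z) * y := by group
      _ = _ := by rw [e2]; group

end Cfsg.Lib.HM
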