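import Cfsg.Agent.HM.St

/-! Minimal 2-fusion systems in the pushing-up case: a large ambient group. -/

set_option autoImplicit false

namespace Cfsg.Lib.HM

open Cfsg Subgroup
open Cfsg.Lib.Fus hiding cj IsSylowIn

universe u

namespace UnivAux

variable {Y A P : Type*} [Group P]

/-- no element other than the identity fixes a point -/
def Free (ρ : P →* Equiv.Perm Y) : Prop := ∀ x y, ρ x y = y → x = 1

theorem Free_eq_1' : type_of% @Free.eq_1 := @Free.eq_1

/-- a multiple of the regular action -/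
def reg (e : A × P ≃ Y) : P →* Equiv.Perm Y where
  toFun m := e.symm.trans ((Equiv.prodCongr (Equiv.refl A) (Equiv.mulLeft m)).trans e)
  map_one' := by ext y; simp
  map_mul' a b := by ext y; simp [Prod.map]

theorem reg_eq_1' : type_of% @reg.eq_1 := @reg.eq_1

theorem reg_apply (e : A × P ≃ Y) (m : P) (a : A) (x : P) : reg e m (e (a, x)) = e (a, m * x) := by
  simp [reg]

theorem reg_free (e : A × P ≃ Y) : Free (reg e) := fun m y h => by
  obtain ⟨⟨a, x⟩, rfl⟩ := e.surjective y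
  rw [reg_apply] at h
  simpa using e.injective h

theorem Free.inj [Nonempty Y] {ρ : P →* Equiv.Perm Y} (h : Free ρ) : Function.Injective ρ :=
  (injective_iff_map_eq_one ρ).2 fun x hx => h x (Classical.arbitrary Y) (by rw [hx]; rfl)

theorem coord [Finite Y] {ρ : P →* Equiv.Perm Y} (h : Free ρ) :
    ∃ (n : ℕ) (e : Fin n × P ≃ Y), ∀ m a x, ρ m (e (a, x)) = e (a, m * x) := by
  let s : Setoid Y := ⟨fun a b => ∃ x, ρ x a = b, fun a => ⟨1, by simp⟩,
    fun ⟨x, hx⟩ => ⟨x⁻¹, by rw [← hx]; simp⟩, fun ⟨x, hx⟩ ⟨y, hy⟩ => ⟨y * x, by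
      rw [map_mul, Equiv.Perm.mul_apply, hx, hy]⟩⟩
  let f : Quotient s × P → Y := fun p => ρ p.2 p.1.out
  have hf : Function.Bijective f := by
    refine ⟨fun ⟨o, x⟩ ⟨o', x'⟩ e => ?_, fun y => ?_⟩
    · have e1 : ρ (x'⁻¹ * x) o.out = o'.out := by
        rw [map_mul, Equiv.Perm.mul_apply]
        change ρ x o.out = ρ x' o'.out at e
        rw [e]; simp
      obtain rfl : o = o' := by
        rw [← o.out_eq, ← o'.out_eq]
        exact Quotient.sound ⟨_, e1⟩
      rw [(inv_mul_eq_one.1 (h _ _ e1))]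
    · obtain ⟨x, hx⟩ : s.r (Quotient.mk s y).out y := Quotient.exact (Quotient.out_eq _)
      exact ⟨⟨Quotient.mk s y, x⟩, hx⟩
  obtain ⟨n, ⟨b⟩⟩ := Finite.exists_equiv_fin (Quotient s)
  refine ⟨n, (Equiv.prodCongr b.symm (Equiv.refl P)).trans (Equiv.ofBijective f hf),
    fun m a x => ?_⟩
  change ρ m (ρ x _) = ρ (m * x) _
  rw [map_mul]
  rfl

theorem key [Finite Y] [Finite P] {ρ₁ ρ₂ : P →* Equiv.Perm Y} (h₁ : Free ρ₁) (h₂ : Free ρ₂) :
    ∃ g : Equiv.Perm Y, ∀ x, ρ₂ x = g * ρ₁ x * g⁻¹ := by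
  obtain ⟨n₁, e₁, r₁⟩ := coord h₁
  obtain ⟨n₂, e₂, r₂⟩ := coord h₂
  obtain rfl : n₁ = n₂ := by
    have := Nat.card_congr (e₁.trans e₂.symm)
    simp only [Nat.card_prod, Nat.card_eq_fintype_card, Fintype.card_fin] at this
    exact Nat.eq_of_mul_eq_mul_right Nat.card_pos this
  refine ⟨e₁.symm.trans e₂, fun x => Equiv.ext fun y => ?_⟩
  obtain ⟨⟨a, z⟩, rfl⟩ := e₂.surjective y
  rw [r₂]
  change _ = e₂ (e₁.symm (ρ₁ x (e₁ (e₂.symm (e₂ (a, z))))))
  rw [e₂.symm_apply_apply, r₁, e₁.symm_apply_apply]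

end UnivAux

open UnivAux in
theorem st_Univ : St_Univ.{u} := by
  intro X _ _
  let Y := Fin (Nat.card X).factorial × X
  have : Nonempty Y := ⟨⟨⟨0, Nat.factorial_pos _⟩, 1⟩⟩
  let i : X →* Equiv.Perm Y := reg (Equiv.refl Y)
  have hi : Free i := reg_free _
  have hS : ∀ g ∈ i.range, ∀ y, g y = y → g = 1 := by
    rintro _ ⟨x, rfl⟩ y hy
    rw [hi x y hy, map_one]
  have hsub : ∀ T ≤ i.range, Free T.subtype := fun T hT x y hy =>
    Subtype.ext (hS _ (hT x.2) y hy)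
  refine ⟨Equiv.Perm Y, inferInstance, inferInstance, i, hi.inj, fun P hP f hf hinj hm => ?_,
    fun T hT M _ _ j hj hd => ?_⟩
  · obtain ⟨g, hg⟩ := key (hsub P hP) (ρ₂ := hf.toHom) fun x y hy =>
      Subtype.ext (hinj x.2 P.one_mem ((hS _ (hm _ x.2) y hy).trans hf.map_one.symm))
    exact ⟨g, fun x hx => hg ⟨x, hx⟩⟩
  · have hc : Nat.card i.range = Nat.card X :=
      (Nat.card_congr (MonoidHom.ofInjective hi.inj).toEquiv).symm
    rw [hc] at hd
    obtain ⟨k, hk⟩ := hd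
    obtain ⟨e⟩ : Nonempty (Fin k × M ≃ Y) := Finite.card_eq.1 (by
      simp only [Y, Nat.card_prod, Nat.card_eq_fintype_card, Fintype.card_fin]
      rw [mul_comm, ← hk, mul_comm])
    obtain ⟨g, hg⟩ := key (ρ₁ := (reg e).comp j)
      (fun x y hy => hj ((reg_free e _ y hy).trans (map_one j).symm)) (hsub T hT)
    refine ⟨(MulAut.conj g).toMonoidHom.comp (reg e),
      (MulAut.conj g).injective.comp (reg_free e).inj, fun t => (hg t).symm⟩

end Cfsg.Lib.HM
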