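import Cfsg.Agent.HM.St
import Cfsg.Agent.AB.Weyl
import Cfsg.Agent.GCT.Eg1

/-! Coordinates inside the model of `N_F(A)`. -/

set_option autoImplicit false

open scoped commutatorElement MatrixGroups

namespace Cfsg.Lib.HM

open Cfsg Subgroup
open Cfsg.Lib.Trans (cj IsSylowIn)
open Cfsg.Lib.Gold (Ns Cs C1)
open Cfsg.Lib.Gomi

universe u

theorem st_Wg : St_Wg.{u} := by
  intro G _ _ K _ _ θ ψ A B D' c cA nA Λ ho hΛ hB hC
  have P := c.par
  have hD : Λ ≤ Ns A ⊓ Ns B := le_inf (nA ▸ le_top) hΛ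
  have h1 : LL A B ⊓ Ns B ≤ (A ⊔ B) ⊔ Λ := inf_le_right.trans hB
  obtain ⟨u, uL, uu, uD, uM⟩ := P.exists_weyl cA h1 hD ho hC
  obtain ⟨Y, s, hY⟩ : ∃ Y, Side A B Λ Y u ∧ (ZZ A B ≠ ⊥ → Y = D') := by
    by_cases h : ZZ A B = ⊥
    · exact ⟨A ⊓ B, ⟨uL, uu, uD, uM, le_rfl, hD.trans (inf_normalizer_le_normalizer_inf),
        fun y _ hy => mem_bot.1 (h ▸ hy), le_sup_left⟩, fun e => absurd h e⟩
    · exact ⟨D', ⟨uL, uu, uD, uM, c.dle, hD.trans c.dn, fun y hy hy' => mem_bot.1 (c.dd ▸ ⟨hy', hy⟩),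
        c.le_sup_D h⟩, fun _ => rfl⟩
  obtain ⟨k1, k2, -⟩ := exists_param (P.U_le s) (P.U_cov s) (P.U_triv s) (fun v => ψ v 1)
    (fun a ha b hb => P.add ha hb 1) P.memB
    fun t => (P.exists_psi 0 t).imp fun v h => ⟨h.1, h.2.2⟩
  choose x hx ex using k1
  have c0 := P.c_ne s
  have xA := fun a => P.U_le s (hx a)
  have zY : ∀ a, u * x a * u ∈ Y := fun a => s.mem_cj.1 (hx a)
  have zZ := fun a => s.Yle (zY a)
  have ez : ∀ a, θ u 1 0 * ψ (u * x a * u) 0 = a := fun a => (P.psi_U s (hx a)).symm.trans (ex a)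
  have cu : ∀ w, u * (u * w * u) * u = w := fun w => by
    rw [← mul_assoc, ← mul_assoc, uu, one_mul, mul_assoc, uu, mul_one]
  have aU : ∀ v ∈ cj u Y, v = x (ψ v 1) := fun v hv => k2 _ hv _ (hx _) (ex _).symm
  have aY : ∀ w ∈ Y, ∃ a, u * x a * u = w := fun w hw =>
    ⟨_, by rw [← aU (u * w * u) (s.mem_cj.2 (by rwa [cu])), cu]⟩
  have ax : ∀ a b, x a * x b = x (a + b) := fun a b =>
    k2 _ (mul_mem (hx a) (hx b)) _ (hx _) (by rw [P.add (xA a) (xA b), ex, ex, ex])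
  have LC : LL A B ≤ Cs (ZZ A B) := le_centralizer_iff.1 ZZ_le_Cs
  refine ⟨u, x, fun a => u * x a * u, fun b => θ u 1 0 * θ b 0 1,
    { two := P.two
      addx := ax
      addz := fun a b => ?_
      xA := xA
      zZ := zZ
      Dle := ZZ_le P.ab
      xinj := fun a h => (ex a).symm.trans ((P.memB _ (xA a)).1 h)
      zinj := fun a h => by rw [← ez a, (P.mem_ZZ' (zZ a)).1 h, mul_zero]
      decA := fun a ha => ⟨ψ a 1, ?_⟩
      decZ := fun w hw => ⟨θ u 1 0 * ψ w 0, ?_⟩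
      padd := fun b hb b' hb' => by rw [P.addB hb hb', mul_add]
      pker := fun b hb => by rw [mul_eq_zero, P.memA hb, or_iff_right c0]
      psur := fun t => ?_
      comm := fun a b hb => ?_
      nx := fun l hl a => ⟨_, aU _ ((s.D_le hl _).1 (hx a))⟩
      nz := fun l hl a => (aY _ ((s.DY hl _).1 (zY a))).imp fun _ h => h.symm
      nD := (hD.trans inf_le_left).trans Ns_le_Ns_ZZ
      tor := fun t ht => ?_
      ux := fun a => by rw [s.inv]
      uz := fun a => by rw [s.inv, cu]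
      uD := LC uL }, eq_top_iff.2 fun g _ => ?_, fun h => hY h ▸ ⟨zY, aY⟩⟩
  · rw [← ax, ← mul_assoc, ← mul_assoc, mul_assoc _ u u, uu, mul_one, mul_assoc u]
  · rw [P.memB _ (mul_mem (inv_mem (xA _)) ha), P.add (inv_mem (xA _)) ha, P.psi_inv (xA _), ex,
      P.add_eq_zero]
  · rw [P.mem_ZZ' (mul_mem (inv_mem (zZ _)) hw), P.add (inv_mem (zZ _).1) hw.1,
      P.psi_inv (zZ _).1, P.add_eq_zero]
    exact mul_left_cancel₀ c0 (ez _)
  · obtain ⟨b, hb, e⟩ := P.exists_B (t / θ u 1 0)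
    exact ⟨b, hb, by rw [e, mul_div_cancel₀ _ c0]⟩
  · have h2 := P.ab.comm_mem (xA a) hb
    rw [P.mem_ZZ' (mul_mem h2 (zZ _)), P.add h2.1 (zZ _).1, P.psi_comm (xA a) hb, ex,
      P.add_eq_zero]
    exact mul_left_cancel₀ c0 (by rw [ez]; ring)
  · obtain ⟨d, hd, hd', e⟩ := P.exists_torus_D h1 hD ht
    refine ⟨d, hd, fun a => ?_, fun b hb => ?_, LC hd'.1⟩
    · rw [aU _ ((s.D_le hd _).1 (hx a)), P.actA hd' (xA a), e, ex]
    · rw [P.actB hd' hb, e]; ring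
  · obtain ⟨l, hl, m, hm, rfl⟩ := P.hasPar.frattini (nA.ge (mem_top g))
    exact mul_mem (P.LL_le_of cA (le_sup_right.trans le_sup_left) uL uM
      (mem_sup_left (mem_sup_left (mem_zpowers u))) hl)
      ((hB.trans (sup_le_sup_right le_sup_right _)) hm.2)

end Cfsg.Lib.HM
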