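import Cfsg.Agent.HM.JsK
import Cfsg.Agent.HM.K0
import Cfsg.Agent.HM.Lift

/-! Coordinates in the fusion system. -/

set_option autoImplicit false

open scoped commutatorElement MatrixGroups

namespace Cfsg.Lib.HM

open Cfsg Subgroup
open Cfsg.Lib.Trans
open Cfsg.Lib.Gold
open Cfsg.Lib.Gomi
open Cfsg.Lib.GCT (DD)

universe u

open K0Aux LiftAux in
theorem st_Wy (hK0 : St_K0.{u}) (hCA : St_CA.{u}) (hLift : St_Lift.{u}) (hWg : St_Wg.{u}) :
    St_Wy.{u} := by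
  intro Γ _ _ S F q A A' M E y c hq s Λ lam
  classical
  have cA := hCA c
  obtain ⟨L, LM, ho, nL, hB, l1, l2⟩ := hLift lam c.mdl cA
  obtain ⟨K, _, _, θ, ψ, hK, k0, eZ⟩ := hK0 c hq
  have ab := c.ab
  have JT : A ⊔ A' ≤ S ⊓ Ns A := le_inf lam.js.le ab.S_le_Ns
  have JM : A ⊔ A' ≤ M := JT.trans c.mdl.syl.le
  have AM := le_sup_left.trans JM
  have BM := le_sup_right.trans JM
  have eS := subgroupOf_sup AM BM
  obtain ⟨u, x, z, p, w, gen, hD⟩ := hWg k0 (fun g hg => cA ⟨g.2, (cs_iff AM).1 hg⟩)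
    (eq_top_iff.2 fun g _ => ns_of (c.mdl.nU g.2)) (L.subgroupOf M)
    (by rwa [Nat.card_congr (subgroupOfEquivOfLe LM).toEquiv]) (fun g hg => ns_of (nL hg).2)
    (fun g hg => by
      rw [← eS, ← subgroupOf_sup JM LM]
      exact hB ⟨g.2, ns_up BM hg⟩)
    fun a ha h => Subtype.ext (lam.cJ a (mem_sup_left ha) fun l hl => by
      obtain ⟨l', hl', e⟩ := l1 l hl
      have h1 : l' * a = a * l' := congrArg Subtype.val (h ⟨l', LM hl'⟩ hl')
      rw [← mul_inv_eq_iff_eq_mul, ← e a (mem_sup_left ha), h1, mul_inv_cancel_right])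
  rw [eZ] at w hD
  have DJ : DD (A ⊔ A') E ≤ A ⊔ A' := inf_le_left
  have DM := DJ.trans JM
  have DZ : DD (A ⊔ A') E ≤ A ⊓ A' := fun d hd => @w.Dle ⟨d, DM hd⟩ hd
  have xJ : ∀ a, (x a : Γ) ∈ A ⊔ A' := fun a => mem_sup_left (w.xA a)
  have zJ : ∀ a, (z a : Γ) ∈ A ⊔ A' := fun a => mem_sup_left (w.zZ a).1
  have ux : ∀ a, (u : Γ) * x a * (u : Γ)⁻¹ = z a := fun a => congrArg Subtype.val (w.ux a)
  have pe : ∀ g : M, (if h : (g : Γ) ∈ M then p ⟨g, h⟩ else 0) = p g := fun g => dif_pos g.2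
  refine ⟨K, inferInstance, inferInstance, u, fun a => x a, fun a => z a,
    fun g => if h : g ∈ M then p ⟨g, h⟩ else 0, hK,
    { two := w.two
      addx := fun a b => congrArg Subtype.val (w.addx a b)
      addz := fun a b => congrArg Subtype.val (w.addz a b)
      xA := w.xA
      zZ := w.zZ
      Dle := DZ
      xinj := w.xinj
      zinj := w.zinj
      decA := fun a ha => w.decA ⟨a, AM ha⟩ ha
      decZ := fun a ha => w.decZ ⟨a, AM ha.1⟩ ha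
      padd := fun b hb b' hb' => ?_
      pker := fun b hb => by rw [dif_pos (BM hb)]; exact w.pker ⟨b, BM hb⟩ hb
      psur := fun t => ?_
      comm := fun a b hb => by rw [dif_pos (BM hb)]; exact w.comm a ⟨b, BM hb⟩ hb
      nx := fun l hl a => ?_
      nz := fun l hl a => ?_
      nD := fun l hl => ?_
      tor := fun t ht => ?_
      ux := ux
      uz := fun a => congrArg Subtype.val (w.uz a)
      uD := (cs_iff DM).1 w.uD
      sD := ?_
      uF := c.mdl.mor u u.2 A (le_sup_left.trans JT) (by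
        rw [mem_Ns_iff.1 (c.mdl.nU u.2)]; exact c.mdl.le)
      extA := fun g hg r => ?_ }⟩
  · rw [dif_pos (BM hb), dif_pos (BM hb'), dif_pos (BM (mul_mem hb hb'))]
    exact w.padd ⟨b, BM hb⟩ hb ⟨b', BM hb'⟩ hb'
  · obtain ⟨b, hb, e⟩ := w.psur t
    exact ⟨b, hb, (pe b).trans e⟩
  · obtain ⟨l', hl', e⟩ := l1 l hl
    obtain ⟨a', e'⟩ := w.nx ⟨l', LM hl'⟩ hl' a
    exact ⟨a', (e _ (xJ a)).symm.trans (congrArg Subtype.val e')⟩
  · obtain ⟨l', hl', e⟩ := l1 l hl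
    obtain ⟨a', e'⟩ := w.nz ⟨l', LM hl'⟩ hl' a
    exact ⟨a', (e _ (zJ a)).symm.trans (congrArg Subtype.val e')⟩
  · obtain ⟨l', hl', e⟩ := l1 l hl
    have h1 : l' ∈ Ns (DD (A ⊔ A') E) := ns_up DM (@w.nD ⟨l', LM hl'⟩ hl')
    exact mem_normalizer_of_cj_le (cj_le_iff.2 fun d hd => e d (DJ hd) ▸ mem_normalizer_conj h1 hd)
  · obtain ⟨l', hl', e1, e2, e3⟩ := w.tor t ht
    obtain ⟨l, hl, e⟩ := l2 l' hl'
    replace e := fun j hj => (e j hj).symm
    refine ⟨l, hl, fun a => (e _ (xJ a)).trans (congrArg Subtype.val (e1 a)), fun b hb => ?_,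
      mem_Cs.2 fun d hd => ?_⟩
    · rw [e b (mem_sup_right hb), dif_pos (BM hb)]
      exact (pe (l' * ⟨b, BM hb⟩ * l'⁻¹)).trans (e2 ⟨b, BM hb⟩ hb)
    · rw [eq_comm, ← mul_inv_eq_iff_eq_mul, e d (DJ hd), ← mem_Cs.1 ((cs_iff DM).1 e3) d hd,
        mul_inv_cancel_right]
  · refine (em _).imp_right fun h => ?_
    obtain ⟨h1, h2⟩ := hD fun e => h (eq_bot_iff.2 fun d hd =>
      congrArg Subtype.val (mem_bot.1 (e.le (show (⟨d, DM hd⟩ : M) ∈ _ from hd))))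
    have yJ : y ∉ A ⊔ A' := fun e => ab.nle ((mem_Ns_iff.1 (ab.S_le_Ns e)).symm.trans c.yA).le
    have act : ∀ d ∈ DD (A ⊔ A') E, y * d * y⁻¹ = s * d * s⁻¹ := fun d hd =>
      lam.js.actZ c.yS yJ (DZ hd)
    refine ⟨fun d hd => ?_, fun a => ?_⟩
    · obtain ⟨a, e⟩ := h2 ⟨y * d * y⁻¹, AM (mem_normalizer_conj (lam.js.nZ c.yS) (DZ hd)).1⟩
        (conj_mem_cj.2 hd)
      exact ⟨a, (act d hd).symm.trans (congrArg Subtype.val e).symm⟩
    · have h3 : y⁻¹ * z a * y ∈ DD (A ⊔ A') E := mem_cj.1 (h1 a)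
      have h4 := act _ h3
      have h5 : s * z a * s⁻¹ = y⁻¹ * z a * y := by
        calc s * z a * s⁻¹ = s * (y * (y⁻¹ * z a * y) * y⁻¹) * s⁻¹ := by group
          _ = (s * s) * (y⁻¹ * z a * y) * (s * s)⁻¹ := by rw [h4]; group
          _ = _ := by rw [lam.ss]; group
      exact h5 ▸ h3
  · obtain ⟨m, hm, e⟩ := c.mdl.ext A g le_rfl (le_sup_left.trans JT) r hg
    have nH : zpowers (u : Γ) ⊔ (A ⊔ A') ⊔ Λ ≤ Ns A :=
      sup_le (sup_le (zpowers_le.2 (c.mdl.nU u.2)) ab.S_le_Ns) lam.nA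
    have h1 : (⊤ : Subgroup M) ≤ (Cs A ⊔ (zpowers (u : Γ) ⊔ (A ⊔ A') ⊔ Λ)).subgroupOf M := by
      rw [← gen, ← eS]
      refine sup_le (sup_le (zpowers_le.2 (mem_sup_right (mem_sup_left (mem_sup_left
        (mem_zpowers _))))) fun g hg => mem_sup_right (mem_sup_left (mem_sup_right hg)))
        fun g hg => ?_
      obtain ⟨l, hl, e⟩ := l2 g hg
      exact (mem_Cs_sup nH).2 ⟨l, mem_sup_right hl, fun a ha => (e a (mem_sup_left ha)).symm⟩
    obtain ⟨h, hh, e'⟩ := (mem_Cs_sup nH).1 (h1 (mem_top (⟨m, hm⟩ : M)))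
    exact ⟨h, hh, fun a ha => (e' a ha).trans (e a ha)⟩

end Cfsg.Lib.HM
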