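import Cfsg.Agent.HM.RtB
import Cfsg.Agent.AB.Auto

/-! The root subgroups. -/

set_option autoImplicit false

open scoped commutatorElement MatrixGroups

namespace Cfsg.Lib.HM

open Cfsg Subgroup
open Cfsg.Lib.Fus hiding cj IsSylowIn
open Cfsg.Lib.Trans (cj IsSylowIn QDFrame)
open Cfsg.Lib.Gold (Ns Cs C1)
open Cfsg.Lib.Gomi (AB PosC ZZ E2)
open Cfsg.Lib.GCT (RB RQ WW QQ VV DD K0 MC)
open Cfsg.Lib.Rank2 (SylEmb DFrame)
open Cfsg.Lib.Fus.Rk2 (FHas TwoCl Rigid autF pullE)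

universe u

open RtBAux in
theorem st_Rt : St_Rt.{u} := by
  intro G _ _ K _ _ A A' D Λ s u x z p W ab _ ss hs sΛ hD _
  have h2 := W.two
  have : CharP K 2 := CharTwo.of_one_ne_zero_of_two_eq_zero one_ne_zero h2
  have si : s⁻¹ = s := inv_eq_of_mul_eq_one_right ss
  have s2 : ∀ g : G, s * (s * g * s⁻¹) * s⁻¹ = g := fun g => by
    rw [si, ← mul_assoc, ← mul_assoc, ss, one_mul, mul_assoc, ss, mul_one]
  have sA : ∀ a ∈ A, s * a * s⁻¹ ∈ A' := fun a ha => hs ▸ Trans.conj_mem_cj.2 ha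
  obtain ⟨φ, hφ⟩ : ∃ φ : K → K, ∀ a, φ a = p (s * x a * s⁻¹) := ⟨_, fun _ => rfl⟩
  have φa : ∀ a b, φ (a + b) = φ a + φ b := fun a b => by
    rw [hφ, hφ, hφ, ← W.addx, ← conj_mul, W.padd _ (sA _ (W.xA a)) _ (sA _ (W.xA b))]
  have φ0 : ∀ a, φ a = 0 → a = 0 := fun a e =>
    W.xinj a (s2 (x a) ▸ sA _ ((W.pker _ (sA _ (W.xA a))).1 ((hφ a).symm.trans e)))
  have φi : Function.Injective φ := fun a b e => CharTwo.add_eq_zero.1
    (φ0 _ (by rw [φa, e, CharTwo.add_self_eq_zero]))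
  obtain ⟨γ, φγ⟩ := (Finite.injective_iff_surjective.1 φi).hasRightInverse
  have γφ : ∀ a, γ (φ a) = a := fun a => φi (φγ _)
  obtain ⟨y, hy⟩ : ∃ y : K → G, ∀ b, y b = s * x (γ b) * s⁻¹ := ⟨_, fun _ => rfl⟩
  have yB : ∀ b, y b ∈ A' := fun b => hy b ▸ sA _ (W.xA _)
  have py : ∀ b, p (y b) = b := fun b => by rw [hy, ← hφ, φγ]
  have sx : ∀ a, s * x a * s⁻¹ = y (φ a) := fun a => by rw [hy, γφ]
  have sy : ∀ b, s * y b * s⁻¹ = x (γ b) := fun b => by rw [hy, s2]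
  have addy : ∀ a b, y a * y b = y (a + b) := fun a b => by
    rw [hy, hy, hy, conj_mul, W.addx]
    congr 3
    exact φi (by rw [φa, φγ, φγ, φγ])
  have cZ : ∀ {w w' : G}, w ∈ A ⊓ A' → w' ∈ A ⊓ A' → w * w' = w' * w := fun a b => ab.commA a.1 b.1
  have un : ∀ {a a' : K} {d d' : G}, d ∈ D → d' ∈ D → z a * d = z a' * d' → a = a' ∧ d = d' :=
    fun {a a' d d'} hd hd' e => by
      have : z (a' + a) = d' * d⁻¹ := by
        rw [← W.addz, eq_mul_inv_iff_mul_eq, mul_assoc, e, ← mul_assoc, Gomi.sq_of_add W.addz, one_mul]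
      obtain rfl := CharTwo.add_eq_zero.1 (W.zinj _ (this ▸ mul_mem hd' (inv_mem hd)))
      exact ⟨rfl, mul_left_cancel e⟩
  obtain ⟨δ, hδ⟩ : ∃ δ : K → K → G, ∀ a b, δ a b = ⁅x a, y b⁆ * z (a * b) := ⟨_, fun _ _ => rfl⟩
  have δD : ∀ a b, δ a b ∈ D := fun a b => by
    have := W.comm a _ (yB b)
    rwa [py, ← hδ] at this
  have cm : ∀ a b, ⁅x a, y b⁆ ∈ A ⊓ A' := fun a b => ab.comm_mem (W.xA a) (yB b)
  have cδ : ∀ a b, ⁅x a, y b⁆ = z (a * b) * δ a b := fun a b => by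
    rw [hδ, cZ (cm a b) (W.zZ _), ← mul_assoc, Gomi.sq_of_add W.addz, one_mul]
  have addv : ∀ a b, δ 1 a * δ 1 b = δ 1 (a + b) := fun a b => by
    have : ⁅x 1, y a * y b⁆ = ⁅x 1, y a⁆ * ⁅x 1, y b⁆ := by
      calc _ = ⁅x 1, y a⁆ * (y a * ⁅x 1, y b⁆) * (y a)⁻¹ := by
            simp only [commutatorElement_def]; group
        _ = _ := by rw [← ab.comm_Z (mem_sup_right (yB a)) (cm 1 b)]; group
    rw [hδ, hδ, hδ, ← addy, this, mul_add, ← W.addz, mul_assoc, mul_assoc,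
      ← mul_assoc (z _), cZ (W.zZ _) (cm 1 b), mul_assoc]
  have δv : ∀ a b, δ a b = δ 1 (a ^ 2 * b) := fun a b => by
    by_cases a0 : a = 0
    · rw [a0, hδ, Gomi.zero_of_add W.addx, zero_mul, Gomi.zero_of_add W.addz, zero_pow two_ne_zero,
        zero_mul, Gomi.zero_of_add addv]
      simp
    obtain ⟨l, hl, lx, lp, lD⟩ := W.tor a a0
    have ly : l * y b * l⁻¹ = y (a ^ 2 * b) := by
      obtain ⟨a', e⟩ := W.nx _ (Trans.mem_normalizer_conj' sΛ hl) (γ b)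
      have e1 : l * y b * l⁻¹ = y (φ a') := by rw [← sx, ← e, hy]; group
      have := lp _ (yB b)
      rw [e1, py, py] at this
      rw [e1, this]
    obtain ⟨a', e⟩ := W.nz l hl (a * b)
    have : z a' * δ a b = z (1 * (a ^ 2 * b)) * δ 1 (a ^ 2 * b) := by
      rw [← cδ, ← ly, ← inv_mul_cancel₀ a0, ← lx, ← conjugate_commutatorElement, cδ, ← e]
      simp only [mul_assoc, Gold.mem_Cs.1 (inv_mem lD) _ (δD a b)]
    exact (un (δD _ _) (δD _ _) this).2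
  have cv : ∀ a b, ⁅x a, y b⁆ = z (a * b) * δ 1 (a ^ 2 * b) := fun a b => by rw [cδ, δv]
  have vZ : ∀ d, δ 1 d ∈ A ⊓ A' := fun d => W.Dle (δD 1 d)
  have pos : PosC x y z (δ 1) := ⟨W.addx, addy, W.addz, addv,
    fun a b => by rw [← cv, commutatorElement_def]; group,
    fun a c => ab.commA (W.xA a) (W.zZ c).1, fun a c => ab.symm.commA (yB a) (W.zZ c).2,
    fun a c => ab.commA (W.xA a) (vZ c).1, fun a c => ab.symm.commA (yB a) (vZ c).2,
    fun a c => cZ (W.zZ a) (vZ c)⟩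
  have inj : ∀ a b c d, x a * y b * z c * δ 1 d = 1 → a = 0 ∧ b = 0 ∧ c = 0 ∧ δ 1 d = 1 := by
    intro a b c d e
    have m := mul_mem (W.zZ c) (vZ d)
    rw [mul_assoc, mul_assoc] at e
    obtain rfl := W.xinj a (eq_inv_of_mul_eq_one_left e ▸ inv_mem (mul_mem (yB b) m.2))
    rw [Gomi.zero_of_add W.addx, one_mul] at e
    obtain rfl : b = 0 := (py b).symm.trans ((W.pker _ (yB b)).2
      (eq_inv_of_mul_eq_one_left e ▸ inv_mem m.1))
    rw [Gomi.zero_of_add addy, one_mul] at e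
    obtain rfl := W.zinj c (eq_inv_of_mul_eq_one_left e ▸ inv_mem (δD 1 d))
    rw [Gomi.zero_of_add W.addz, one_mul] at e
    exact ⟨rfl, rfl, rfl, e⟩
  have rel : ∀ a b, s * z (a * b) * s⁻¹ * (s * δ 1 (a ^ 2 * b) * s⁻¹) =
      z (γ b * φ a) * δ 1 (γ b ^ 2 * φ a) := fun a b => by
    rw [conj_mul, ← cv, ← cv, conjugate_commutatorElement, sx, sy, ← commutatorElement_inv,
      inv_eq_of_mul_eq_one_right (ab.sqA _ (cm _ _).1)]
  have f1 : φ 1 ≠ 0 := fun e => one_ne_zero (φ0 1 e)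
  have γ0 : ∀ d, γ d = 0 → d = 0 := fun d e => by
    have := φa 0 0
    rw [add_zero, left_eq_add] at this
    rw [← φγ d, e, this]
  have g1 : γ 1 ≠ 0 := fun e => one_ne_zero (γ0 1 e)
  have fin : (∀ d ∈ D, ∃ b, δ 1 b = d) → rA x z (δ 1) = A ∧ rA y z (δ 1) = A' := fun on => by
    have zl : ∀ x' : K → G, A ⊓ A' ≤ rA x' z (δ 1) := fun x' w hw => by
      obtain ⟨t, ht⟩ := W.decZ w hw
      obtain ⟨b, hb⟩ := on _ ht
      exact (mul_mem_cancel_left (inv_mem (mz t))).1 (hb ▸ mv b)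
    refine ⟨le_antisymm ((closure_le _).2 ?_) fun a ha => ?_,
      le_antisymm ((closure_le _).2 ?_) fun b hb => ?_⟩
    · rintro _ ((⟨a, rfl⟩ | ⟨a, rfl⟩) | ⟨a, rfl⟩)
      exacts [W.xA a, (W.zZ a).1, (vZ a).1]
    · obtain ⟨t, ht⟩ := W.decA a ha
      exact (mul_mem_cancel_left (inv_mem (mx t))).1
        (zl x (mem_inf.2 ⟨mul_mem (inv_mem (W.xA t)) ha, ht⟩))
    · rintro _ ((⟨a, rfl⟩ | ⟨a, rfl⟩) | ⟨a, rfl⟩)
      exacts [yB a, (W.zZ a).2, (vZ a).2]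
    · have m := mul_mem (inv_mem (yB (p b))) hb
      have := W.padd _ (yB (p b)) _ m
      rw [mul_inv_cancel_left, py, left_eq_add] at this
      exact (mul_mem_cancel_left (inv_mem (mx (p b)))).1 (zl y ⟨(W.pker _ m).1 this, m⟩)
  rcases hD with rfl | ⟨hD, hD'⟩
  · have v1 : ∀ d, δ 1 d = 1 := fun d => δD 1 d
    obtain ⟨e1, e2⟩ := fin fun d hd => ⟨0, (v1 0).trans (mem_bot.1 hd).symm⟩
    obtain ⟨σ, k1, k2, -⟩ := Gomi.exists_ringAut_of_autotopy (f := φ) (g := γ)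
      (k := fun c => γ c * φ 1) φa (fun a b => by
        have k1 := rel a b
        have k2 := rel 1 (a * b)
        rw [v1, v1] at k1 k2
        rw [one_mul, k1] at k2
        exact (un (one_mem _) (one_mem _) k2).1.symm.trans (mul_comm _ _)) f1 g1
    exact ⟨1, y, δ 1, ⟨pos, inj, .inl ⟨rfl, v1⟩⟩, e1, e2, δD 1, py, fun b => ⟨_, hy b⟩,
      fun a => ⟨_, sx a⟩, φ 1, γ 1, σ, f1, g1, fun a => by rw [pow_one, ← k1]; exact sx a,
      fun b => by rw [← k2]; exact sy b⟩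
  · have sv : ∀ a b, s * δ 1 (a ^ 2 * b) * s⁻¹ = z (γ b * φ a) := fun a b => by
      obtain ⟨a', e⟩ := hD _ (δD 1 (a ^ 2 * b))
      have := rel a b
      rw [e, cZ (W.Dle (hD' _)) (W.zZ _)] at this
      rw [e, (un (hD' _) (δD _ _) this).1]
    have sv1 : ∀ b, s * δ 1 b * s⁻¹ = z (γ b * φ 1) := fun b => by rw [← sv, one_pow, one_mul]
    obtain ⟨e1, e2⟩ := fin fun d hd => by
      obtain ⟨a, e⟩ := hD d hd
      refine ⟨φ (a / φ 1), ?_⟩
      have := sv1 (φ (a / φ 1))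
      rw [γφ, div_mul_cancel₀ _ f1, ← e] at this
      simpa using this
    have : ExpChar K 2 := .prime Nat.prime_two
    have ρ2 : ∀ a, (frobeniusEquiv K 2).symm a ^ 2 = a := fun a =>
      (frobeniusEquiv K 2).apply_symm_apply a
    obtain ⟨σ, k1, k2, -⟩ := Gomi.exists_ringAut_of_autotopy
      (f := fun a => φ ((frobeniusEquiv K 2).symm a)) (g := γ)
      (k := fun c => γ c * φ 1) (fun a b => by rw [map_add, φa]) (fun a b => by
        have k1 := sv ((frobeniusEquiv K 2).symm a) b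
        rw [ρ2, sv1] at k1
        exact (un (one_mem _) (one_mem _) (congrArg (· * 1) k1)).1.trans (mul_comm _ _))
      (by rwa [map_one]) g1
    refine ⟨2, y, δ 1, ⟨pos, inj, .inr ⟨rfl, fun d e => ?_⟩⟩, e1, e2, δD 1, py, fun b => ⟨_, hy b⟩,
      fun a => ⟨_, sx a⟩, φ 1, γ 1, σ, f1, g1, fun a => ?_, fun b => by rw [← k2]; exact sy b⟩
    · have := sv1 d
      rw [e, mul_one, mul_inv_cancel] at this
      exact γ0 d ((mul_eq_zero.1 (W.zinj _ (this ▸ one_mem D))).resolve_right f1)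
    · have := k1 (frobeniusEquiv K 2 a)
      simp only [RingEquiv.symm_apply_apply, map_one] at this
      rw [← map_pow]
      exact (sx a).trans (congrArg y this)

end Cfsg.Lib.HM
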