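import Cfsg.Agent.HM.Defs
import Cfsg.Agent.Fus.Rk2Quat
import Cfsg.Agent.AutL34.Five

/-! Minimal 2-fusion systems in the pushing-up case: the statements of the steps. -/

set_option autoImplicit false

open scoped commutatorElement MatrixGroups

namespace Cfsg.Lib.HM

open Cfsg Subgroup
open Cfsg.Lib.Fus hiding cj IsSylowIn
open Cfsg.Lib.Trans (cj IsSylowIn QDFrame)
open Cfsg.Lib.Gold (Ns Cs C1)
open Cfsg.Lib.Gomi (AB PosC ZZ E2)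
open Cfsg.Lib.GCT (RB RQ WW QQ VV DD K0 MC)
open Cfsg.Lib.Rank2 (SylEmb DFrame)
open Cfsg.Lib.Fus.Rk2 (FHas TwoCl Rigid autF pullE)

universe u

/-- A large ambient group exists. -/
def St_Univ : Prop :=
  ∀ (X : Type u) [Group X] [Finite X], ∃ (Γ : Type u) (_ : Group Γ) (_ : Finite Γ) (i : X →* Γ),
    Function.Injective i ∧ Univ i.range

/-- Models inside the ambient group. -/
def St_Mdl : Prop :=
  ∀ {Γ : Type u} [Group Γ] [Finite Γ] {S : Subgroup Γ} {F : FusionSystem S}, Sat F →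
    ∀ (U : Subgroup Γ) (hn : F.IsFullyNormalized U), (normSys F U hn.1).IsConstrained 2 →
    ∃ M, Mdl F U M

/-- Chains of strongly closed subgroups. -/
def St_Scl : Prop :=
  ∀ {Γ : Type u} [Group Γ] [Finite Γ] {S : Subgroup Γ} {F : FusionSystem S}, Sat F → HMin F → SCL F

/-- The hypothesis on the parabolics. -/
def St_HP : Prop :=
  ∀ {Γ : Type u} [Group Γ] [Finite Γ] {S : Subgroup Γ} {F N : FusionSystem S}, Sat F → HPar F N → HP F N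

/-- Transport of the hypotheses. -/
def St_Fwd : Prop :=
  ∀ {Ω Γ : Type u} [Group Ω] [Group Γ] {S : Subgroup Ω} [Finite S] {F N : FusionSystem S}
    (i : S →* Γ), Function.Injective i → IsPGroup 2 S → F.IsSaturated 2 → HMin F →
    N.IsSaturated 2 → N ≤ F → N ≠ F → HPar F N →
    ∃ F' N' : FusionSystem i.range, F'.IsSaturated 2 ∧ HMin F' ∧ N'.IsSaturated 2 ∧ N' ≤ F' ∧
      N' ≠ F' ∧ HPar F' N' ∧ FImg F F' (extFun i)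

/-- Transport of the conclusion. -/
def St_Back : Prop :=
  ∀ {Ω Γ : Type u} [Group Ω] [Group Γ] {S : Subgroup Ω} [Finite S] {F : FusionSystem S}
    (i : S →* Γ) {F' : FusionSystem i.range}, Function.Injective i → IsPGroup 2 S →
    FImg F F' (extFun i) → Concl F' → Goal F

/-- A bad subgroup exists. -/
def St_ExMx : Prop :=
  ∀ {Γ : Type u} [Group Γ] [Finite Γ] {S : Subgroup Γ} {F N : FusionSystem S}, Sat F → N ≤ F → N ≠ F →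
    ∃ U, Mx F N U

/-- Maps on large subgroups lie in `N`. -/
def St_Big : Prop :=
  ∀ {Γ : Type u} [Group Γ] [Finite Γ] {S : Subgroup Γ} {F N : FusionSystem S} {U : Subgroup Γ},
    Sat F → N ≤ F → AS F N → Mx F N U →
    (∀ (Q : Subgroup Γ) (g : Γ), Nat.card ↥(S ⊓ Ns U) ≤ Nat.card Q → R F Q g → R N Q g) ∧ F.IsFullyNormalized U

/-- A map that lies in `N` on a centric subgroup lies in `N`. -/
def St_Cen : Prop :=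
  ∀ {Γ : Type u} [Group Γ] [Finite Γ] {S : Subgroup Γ} {F N : FusionSystem S} {P Q : Subgroup Γ} {g : Γ},
    Sat F → N.IsSaturated 2 → N ≤ F → F.IsCentric P → P ≤ Q → R F Q g → R N P g → R N Q g

/-- The model of a bad subgroup is not contained in `N`. -/
def St_K : Prop :=
  ∀ {Γ : Type u} [Group Γ] [Finite Γ] {S : Subgroup Γ} {F N : FusionSystem S} {U M : Subgroup Γ},
    Sat F → N.IsSaturated 2 → N ≤ F → F.IsFullyNormalized U → Mdl F U M → Bad F N U →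
    ¬ M ≤ NF N (pCoreOf 2 M)

/-- A rank one block in the model. -/
def St_Blk : Prop :=
  ∀ {Γ : Type u} [Group Γ] [Finite Γ] {S : Subgroup Γ} {F N : FusionSystem S} {U M Y : Subgroup Γ},
    U ≠ ⊥ → Mdl F U M → ¬ M ≤ NF N (pCoreOf 2 M) → S ⊓ Ns U ≤ Y → Y ≤ Ns (S ⊓ Ns U) →
    (∀ V, V ≤ S ⊓ Ns U → Y ≤ Ns V → ¬ Bad F N V) →
    ∃ (q : ℕ) (E : Subgroup Γ) (y : Γ), E ≤ M ∧ ¬ E ≤ NF N (pCoreOf 2 M) ∧
      RQ q ((baumannSubgroupOf 2 (S ⊓ Ns U)).subgroupOf M) (E.subgroupOf M) ∧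
      RQ q (baumannSubgroupOf 2 (S ⊓ Ns U)) E ∧ (∀ s ∈ S ⊓ Ns U, cj s (WW E) ≤ Cs (WW E)) ∧
      y ∈ Y ∧ ¬ cj y (WW E) ≤ Cs (WW E) ∧
      (M ≤ Ns (QQ (baumannSubgroupOf 2 (S ⊓ Ns U)) E) → M ≤ Ns E)

/-- Closed subgroups of `B`. -/
def St_Clw : Prop :=
  ∀ {G : Type u} [Group G] [Finite G] {q : ℕ} {B E Y : Subgroup G}, RQ q B E → Y ≤ B → B ≤ Ns Y →
    (∀ e ∈ E, ∀ x ∈ Y, e * x * e⁻¹ ∈ B → e * x * e⁻¹ ∈ Y) → Y ≤ DD B E ∨ WW E ≤ Y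

/-- Two blocks have no common centraliser in `B`. -/
def St_PairA : Prop :=
  ∀ {Γ : Type u} [Group Γ] [Finite Γ] {S : Subgroup Γ} {F : FusionSystem S} {q q' : ℕ}
    {B E E' : Subgroup Γ}, SCL F → B ≤ S → RQ q B E → RQ q' B E' → Lc F B E → Lc F B E' →
    ¬ WW E' ≤ Cs (WW E) → DD B E ⊓ DD B E' = ⊥

/-- Two blocks. -/
def St_PairB : Prop :=
  ∀ {G : Type u} [Group G] [Finite G] {q q' : ℕ} {B E E' : Subgroup G}, RQ q B E → RQ q' B E' →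
    ¬ WW E' ≤ Cs (WW E) → DD B E ⊓ DD B E' = ⊥ →
    AB (QQ B E) (QQ B E') ∧ QQ B E ⊔ QQ B E' = B ∧ Nat.card (DD B E) ≤ q

/-- A block and its conjugate. -/
def St_Pair : Prop :=
  ∀ {Γ : Type u} [Group Γ] [Finite Γ] {S : Subgroup Γ} {F : FusionSystem S} {q : ℕ}
    {U M E : Subgroup Γ} {y : Γ}, SCL F → Mdl F U M → E ≤ M →
    RQ q (baumannSubgroupOf 2 (S ⊓ Ns U)) E → (∀ s ∈ S ⊓ Ns U, cj s (WW E) ≤ Cs (WW E)) →
    y ∈ NF F (S ⊓ Ns U) → ¬ cj y (WW E) ≤ Cs (WW E) →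
    ∀ B A, B = baumannSubgroupOf 2 (S ⊓ Ns U) → A = QQ B E →
      AB A (cj y A) ∧ A ⊔ cj y A = B ∧ cj y (cj y A) = A ∧ S ⊓ Ns U ≤ Ns A ∧
        DD B E ⊓ cj y (DD B E) = ⊥ ∧ Nat.card (DD B E) ≤ q

/-- The local analysis. -/
def St_Loc : Prop :=
  ∀ {Γ : Type u} [Group Γ] [Finite Γ] {S : Subgroup Γ} {F N : FusionSystem S} {U : Subgroup Γ},
    Min F → N.IsSaturated 2 → N ≤ F → AS F N → Mx F N U → ¬ S ≤ Ns U →
    ∃ q A A' M E y, Cf F q A A' M E y ∧ Bad F N A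

/-- A largest bad subgroup is not normal in `S`. -/
def St_Top : Prop :=
  ∀ {Γ : Type u} [Group Γ] [Finite Γ] {S : Subgroup Γ} {F N : FusionSystem S} {U : Subgroup Γ},
    Min F → N.IsSaturated 2 → N ≤ F → HP F N → Mx F N U → ¬ S ≤ Ns U

/-- Self-centralising subgroups are self-centralising in their models. -/
def St_CM : Prop :=
  ∀ {Γ : Type u} [Group Γ] [Finite Γ] {S : Subgroup Γ} {F : FusionSystem S}
    {U M : Subgroup Γ}, Mdl F U M → S ⊓ Cs U ≤ U → M ⊓ Cs U ≤ U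

/-- `A` is self-centralising in its model. -/
def St_CA : Prop :=
  ∀ {Γ : Type u} [Group Γ] [Finite Γ] {S : Subgroup Γ} {F : FusionSystem S}
    {q : ℕ} {A A' M E : Subgroup Γ} {y : Γ}, Cf F q A A' M E y →
    M ⊓ Cs A ≤ A

/-- `D` and `D ^ y` are invariant. -/
def St_Inv : Prop :=
  ∀ {Γ : Type u} [Group Γ] [Finite Γ] {S : Subgroup Γ} {F : FusionSystem S}
    {q : ℕ} {A A' M E : Subgroup Γ} {y : Γ}, Cf F q A A' M E y →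
    Ns A ⊓ NF F (A ⊔ A') ≤ Ns (DD (A ⊔ A') E) ⊓ Ns (cj y (DD (A ⊔ A') E))

/-- The configuration `K0` inside the model. -/
def St_K0 : Prop :=
  ∀ {Γ : Type u} [Group Γ] [Finite Γ] {S : Subgroup Γ} {F : FusionSystem S}
    {q : ℕ} {A A' M E : Subgroup Γ} {y : Γ}, Cf F q A A' M E y →
    2 < q → ∃ (K : Type) (_ : Field K) (_ : Fintype K) (θ : M → SL(2, K)) (ψ : M → Fin 2 → K),
      Fintype.card K = q ∧
      K0 (A.subgroupOf M) (A'.subgroupOf M) ((cj y (DD (A ⊔ A') E)).subgroupOf M) θ ψ ∧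
      ZZ (A.subgroupOf M) (A'.subgroupOf M) = (DD (A ⊔ A') E).subgroupOf M

/-- Field automorphisms act freely. -/
def St_Free : Prop :=
  ∀ {G : Type u} [Group G] [Finite G] {K : Type} [Field K] [Fintype K] {θ : G → SL(2, K)}
    {ψ : G → Fin 2 → K} {A B D' : Subgroup G}, K0 A B D' θ ψ →
    ∀ x ∈ Ns A ⊓ Ns B, E2 x → x ∉ A ⊔ B → x * x ∈ A ⊔ B →
    (∀ a ∈ A, ⁅x, a⁆ ∈ B → ∃ a₁ ∈ A, ⁅x, a₁⁆ * a ∈ B) ∧
    (∀ b ∈ B, ⁅x, b⁆ ∈ A → ∃ b₁ ∈ B, ⁅x, b₁⁆ * b ∈ A) ∧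
    ∀ Y ≤ A ⊓ B, x ∈ Ns Y → Y ⊓ ZZ A B = ⊥ → A ⊓ B ≤ Y ⊔ ZZ A B →
      ∀ w ∈ Y, x * w = w * x → ∃ w₁ ∈ Y, ⁅x, w₁⁆ = w

/-- Involutions outside `J`. -/
def St_Invo : Prop :=
  ∀ {G : Type u} [Group G] [Finite G] {K : Type} [Field K] [Fintype K] {θ : G → SL(2, K)}
    {ψ : G → Fin 2 → K} {A B D' : Subgroup G}, K0 A B D' θ ψ →
    ∀ T : Subgroup G, IsPGroup 2 T → A ⊔ B ≤ T → T ≤ Ns A →
    (∀ x ∈ T, x ∉ A ⊔ B → x * x ∈ A ⊔ B → ∀ w ∈ A ⊓ B, x * w = w * x → ∃ w₁ ∈ A ⊓ B, ⁅x, w₁⁆ = w) →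
    (¬ T ≤ A ⊔ B → ∃ f ∈ T, f ∉ A ⊔ B ∧ f * f = 1) ∧
    ∀ f ∈ T, f ∉ A ⊔ B → f * f = 1 → (∃ a ∈ A, a ∉ B ∧ f * a = a * f) ∧
      (∃ b ∈ B, b ∉ A ∧ f * b = b * f) ∧
      ∀ f' ∈ T, f' ∉ A ⊔ B → f' * f' = 1 → ∃ j ∈ A ⊔ B, j * f' * j⁻¹ = f

/-- The centraliser of a field involution moves `Z`. -/
def St_Mov : Prop :=
  ∀ {G : Type u} [Group G] [Finite G] {K : Type} [Field K] [Fintype K] {θ : G → SL(2, K)}
    {ψ : G → Fin 2 → K} {A B D' : Subgroup G}, K0 A B D' θ ψ →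
    Cs A ≤ A → Ns A = ⊤ → ∀ T : Subgroup G, IsSylowIn 2 T ⊤ → A ⊔ B ≤ T →
    ∀ f ∈ T, f ∉ A ⊔ B → f * f = 1 → (∃ a ∈ A, a ∉ B ∧ f * a = a * f) →
    (∀ f' ∈ T, f' ∉ A ⊔ B → f' * f' = 1 → ∃ j ∈ A ⊔ B, j * f' * j⁻¹ = f) →
    ∃ k, k * f = f * k ∧ k ∉ Ns (A ⊓ B)

/-- What is known about involutions of `T` outside `J`. -/
def St_Fld : Prop :=
  ∀ {Γ : Type u} [Group Γ] [Finite Γ] {S : Subgroup Γ} {F : FusionSystem S}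
    {q : ℕ} {A A' M E : Subgroup Γ} {y : Γ}, Cf F q A A' M E y →
    2 < q →
    (¬ S ⊓ Ns A ≤ A ⊔ A' → ∃ f ∈ S ⊓ Ns A, f ∉ A ⊔ A' ∧ f * f = 1) ∧
    (∀ f ∈ S ⊓ Ns A, f ∉ A ⊔ A' → f * f = 1 → (∃ a ∈ A, a ∉ A' ∧ f * a = a * f) ∧
      ∃ k ∈ M, k * f = f * k ∧ ∀ w ∈ A ⊓ A', w ∉ DD (A ⊔ A') E → k * w * k⁻¹ ∉ A') ∧
    ∀ a ∈ A, ∀ b ∈ A', ⁅a, b⁆ ∈ DD (A ⊔ A') E → a ∈ A' ∨ b ∈ A

/-- No field automorphisms. -/
def St_TJ : Prop :=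
  ∀ {Γ : Type u} [Group Γ] [Finite Γ] {S : Subgroup Γ} {F : FusionSystem S}
    {q : ℕ} {A A' M E : Subgroup Γ} {y : Γ}, Cf F q A A' M E y →
    SCL F → 2 < q → S ⊓ Ns A ≤ A ⊔ A'

/-- The case `q = 2`. -/
def St_TJ2 : Prop :=
  ∀ {Γ : Type u} [Group Γ] [Finite Γ] {S : Subgroup Γ} {F : FusionSystem S}
    {q : ℕ} {A A' M E : Subgroup Γ} {y : Γ}, Cf F q A A' M E y →
    q = 2 → S ⊓ Ns A ≤ A ⊔ A'

/-- The structure of `S`. -/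
def St_Js : Prop :=
  ∀ {Γ : Type u} [Group Γ] [Finite Γ] {S : Subgroup Γ} {F : FusionSystem S}
    {q : ℕ} {A A' M E : Subgroup Γ} {y : Γ}, Cf F q A A' M E y →
    IsPGroup 2 S → S ⊓ Ns A ≤ A ⊔ A' → ¬ (q = 2 ∧ DD (A ⊔ A') E = ⊥) → Js S A A' y

/-- The maximal class case. -/
def St_MC : Prop :=
  ∀ {Γ : Type u} [Group Γ] [Finite Γ] {S : Subgroup Γ} {F : FusionSystem S}
    {q : ℕ} {A A' M E : Subgroup Γ} {y : Γ}, Cf F q A A' M E y →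
    IsPGroup 2 S → q = 2 → DD (A ⊔ A') E = ⊥ →
    MC S ∧ 16 ≤ Nat.card S ∧
      ∃ U : Subgroup S, IsKleinFour U ∧ centralizer (U : Set S) ≤ U ∧ FHas F U

/-- Dihedral Sylow subgroups. -/
def St_Dih : Prop :=
  ∀ {Γ : Type u} [Group Γ] [Finite Γ] {S : Subgroup Γ} {F : FusionSystem S}, IsPGroup 2 S → F.IsSaturated 2 →
    (∃ m : ℕ, Nonempty (S ≃* DihedralGroup m)) → 16 ≤ Nat.card S →
    (∃ U : Subgroup S, IsKleinFour U ∧ centralizer (U : Set S) ≤ U ∧ FHas F U) → Concl F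

/-- The group `L₂(r²).2` with semidihedral Sylow subgroups. -/
def St_QDk : Prop :=
  ∀ {X : Type u} [Group X] {k : ℕ} (Fr : QDFrame X k),
    ∃ (G : Type) (_ : Group G) (_ : Finite G) (E : SylEmb X G),
      E.Has (Trans.QD.sub Fr 0 0) ∧ ¬ E.Has (Trans.QD.sub Fr 1 1) ∧
      ∃ (K : Type) (_ : Field K) (_ : Fintype K) (r : ℕ), Odd r ∧ Fintype.card K = r ^ 2 ∧
        ∃ L : Subgroup G, L.Normal ∧ L.index = 2 ∧ centralizer (L : Set G) = ⊥ ∧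
          Nonempty (↥L ≃* PSL(2, K))

/-- The group `L₃(3)`. -/
def St_QD3 : Prop :=
  ∀ {X : Type u} [Group X], IsQuasiDihedral X → Nat.card X = 16 →
    Nonempty (SylEmb X PSL(3, ZMod 3)) ∧ ∀ H : Subgroup PSL(3, ZMod 3), H.index ≠ 2

/-- Large semidihedral groups. -/
def St_QDx : Prop :=
  ∀ {Γ : Type u} [Group Γ] [Finite Γ] {S : Subgroup Γ} {F : FusionSystem S} {k : ℕ} (Fr : QDFrame S k),
    SCL F → Univ S → 16 < Nat.card S → ¬ FHas F (Trans.QD.sub Fr 1 1)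

/-- Semidihedral Sylow subgroups. -/
def St_QD : Prop :=
  ∀ {Γ : Type u} [Group Γ] [Finite Γ] {S : Subgroup Γ} {F : FusionSystem S}, Min F → IsQuasiDihedral S →
    (∃ U : Subgroup S, IsKleinFour U ∧ centralizer (U : Set S) ≤ U ∧ FHas F U) → Concl F

/-- The normal form of `S` of order 32. -/
def St_H8a : Prop :=
  ∀ {Γ : Type u} [Group Γ] [Finite Γ] {S : Subgroup Γ} {F : FusionSystem S}
    {q : ℕ} {A A' M E : Subgroup Γ} {y : Γ}, Cf F q A A' M E y →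
    Js S A A' y → q = 2 → DD (A ⊔ A') E ≠ ⊥ →
    ∃ r w d : S, HF r w d ∧ ∃ g : Γ, R F (A8 (r : Γ) w d) g ∧ Al (r : Γ) w d g

/-- The presentation of the holomorph. -/
def St_H8hom : Prop :=
  ∀ {X : Type u} [Group X] {G : Type} [Group G] {r w d : X} {r' w' d' : G},
    HF r w d → HR r' w' d' → ∃ j : X →* G, Function.Injective j ∧ j r = r' ∧ j w = w' ∧ j d = d'

/-- The candidates for essential subgroups. -/
def St_H8two : Prop :=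
  ∀ {X : Type u} [Group X] {r w d : X}, HF r w d → TwoCl (A8 r w d) (R8 r w d)

/-- Automorphisms of `Q₈ ∘ Z₄`. -/
def St_H8rig : Prop :=
  ∀ {X : Type u} [Group X] {r w d : X}, HF r w d → Rigid (R8 r w d)

/-- An odd automorphism of `Q₈ ∘ Z₄` forces `Q₈ ≤ O²(G)`. -/
def St_H8res : Prop :=
  ∀ {X : Type u} [Group X] {r w d : X}, HF r w d →
    ∀ {G : Type} [Group G] [Finite G] (E : SylEmb X G), E.Has (R8 r w d) →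
      ∀ H : Subgroup G, H.index = 2 → E.j (r * d * w) ∈ H

/-- Subgroups of `GL₃(2)` of twice odd order. -/
def St_GL32 : Prop :=
  ∀ {V : Type u} [Group V], Nat.card V = 8 → (∀ v : V, v * v = 1) →
    ∀ X : Subgroup (MulAut V), ¬ 4 ∣ Nat.card X → 2 ∣ Nat.card X → ∀ α ∈ X, orderOf α = 3 →
      ∀ β ∈ X, (orderOf β).Coprime 2 → β ∈ zpowers α

/-- The automorphisms of `A₈`. -/
def St_H8odd : Prop :=
  ∀ {Γ : Type u} [Group Γ] [Finite Γ] {S : Subgroup Γ} {F N : FusionSystem S} {r w d : S} {g : Γ},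
    IsPGroup 2 S → F.IsSaturated 2 → HF r w d → Al (r : Γ) w d g → R F (A8 (r : Γ) w d) g →
    R N (A8 (r : Γ) w d) g → Rk2.OddLe F N (A8 r w d)

/-- The group `Aut(A₆)`. -/
def St_H8A : Prop :=
  Nat.card (MulAut ↥(alternatingGroup (Fin 6))) = 1440 ∧
    ∃ r w d g : MulAut ↥(alternatingGroup (Fin 6)), HR r w d ∧ Al r w d g ∧
      ∃ H : Subgroup (MulAut ↥(alternatingGroup (Fin 6))), H.index = 2 ∧ r * d * w ∉ H

/-- The order of `Aut(L₃(3))`. -/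
def St_H8Lc : Prop :=
  Nat.card (MulAut PSL(3, ZMod 3)) = 11232

/-- The group `Aut(L₃(3))`. -/
def St_H8L : Prop :=
  ∃ r w d g h : MulAut PSL(3, ZMod 3), HR r w d ∧ Al r w d g ∧
      h ∈ Ns (R8 r w d) ∧ (orderOf h).Coprime 2 ∧ h ∉ Cs (R8 r w d)

/-- Sylow subgroups of order 32. -/
def St_H8 : Prop :=
  ∀ {Γ : Type u} [Group Γ] [Finite Γ] {S : Subgroup Γ} {F : FusionSystem S} {r w d : S} {g : Γ},
    IsPGroup 2 S → F.IsSaturated 2 → HF r w d → Al (r : Γ) w d g → R F (A8 (r : Γ) w d) g → Concl F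

/-- Fusion facts that hold in every system over `S`. -/
def St_JsF : Prop :=
  ∀ {Γ : Type u} [Group Γ] [Finite Γ] {S : Subgroup Γ} {F : FusionSystem S}
    {A A' : Subgroup Γ} {y : Γ}, Js S A A' y →
    F.IsCentric A ∧ F.IsFullyNormalized A ∧ F.IsCentric (A ⊔ A') ∧ F.IsFullyNormalized (A ⊔ A') ∧
      S ⊓ Ns A = A ⊔ A' ∧ S ≤ Ns (A ⊔ A') ∧ (∀ g, cj g (A ⊔ A') ≤ S → g ∈ Ns (A ⊔ A')) ∧
      (∀ g, cj g A ≤ S → cj g A = A ∨ cj g A = A') ∧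
      ∀ t ∈ S, t ∉ A ⊔ A' → Js S A A' t

/-- Two tori. -/
def St_Tor : Prop :=
  ∀ {Γ : Type u} [Group Γ] [Finite Γ] {S : Subgroup Γ} {F : FusionSystem S}
    {q : ℕ} {A A' M E : Subgroup Γ} {y : Γ}, Cf F q A A' M E y →
    2 < q → Tor F A A'

/-- The complement in the model of `N_F(J)`. -/
def St_Lam : Prop :=
  ∀ {Γ : Type u} [Group Γ] [Finite Γ] {S : Subgroup Γ} {F : FusionSystem S}
    {A A' M : Subgroup Γ} {y : Γ}, Js S A A' y → Mdl F (A ⊔ A') M → Tor F A A' →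
    ∃ s Λ, Lam F A A' s Λ

/-- The complement inside the model of `N_F(A)`. -/
def St_Lift : Prop :=
  ∀ {Γ : Type u} [Group Γ] [Finite Γ] {S : Subgroup Γ} {F : FusionSystem S}
    {A A' M Λ : Subgroup Γ} {s : Γ}, Lam F A A' s Λ → Mdl F A M → M ⊓ Cs A ≤ A →
    ∃ Λ' ≤ M, Odd (Nat.card Λ') ∧ Λ' ≤ Ns A ⊓ Ns A' ∧ M ⊓ Ns A' ≤ (A ⊔ A') ⊔ Λ' ∧
      (∀ l ∈ Λ, ∃ l' ∈ Λ', ∀ j ∈ A ⊔ A', l' * j * l'⁻¹ = l * j * l⁻¹) ∧
      ∀ l' ∈ Λ', ∃ l ∈ Λ, ∀ j ∈ A ⊔ A', l' * j * l'⁻¹ = l * j * l⁻¹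

/-- Coordinates inside the model of `N_F(A)`. -/
def St_Wg : Prop :=
  ∀ {G : Type u} [Group G] [Finite G] {K : Type} [Field K] [Fintype K] {θ : G → SL(2, K)}
    {ψ : G → Fin 2 → K} {A B D' : Subgroup G}, K0 A B D' θ ψ →
    Cs A ≤ A → Ns A = ⊤ → ∀ Λ : Subgroup G, Odd (Nat.card Λ) → Λ ≤ Ns B →
    Ns B ≤ (A ⊔ B) ⊔ Λ → (∀ a ∈ A, (∀ l ∈ Λ, l * a = a * l) → a = 1) →
    ∃ (u : G) (x z : K → G) (p : G → K), Wg A B (ZZ A B) Λ u x z p ∧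
      zpowers u ⊔ (A ⊔ B) ⊔ Λ = ⊤ ∧
      (ZZ A B ≠ ⊥ → (∀ a, z a ∈ D') ∧ ∀ w ∈ D', ∃ a, z a = w)

/-- Coordinates in the fusion system. -/
def St_Wy : Prop :=
  ∀ {Γ : Type u} [Group Γ] [Finite Γ] {S : Subgroup Γ} {F : FusionSystem S}
    {q : ℕ} {A A' M E : Subgroup Γ} {y : Γ}, Cf F q A A' M E y →
    2 < q → ∀ {s : Γ} {Λ : Subgroup Γ}, Lam F A A' s Λ →
    ∃ (K : Type) (_ : Field K) (_ : Fintype K) (u : Γ) (x z : K → Γ) (p : Γ → K),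
      Fintype.card K = q ∧ Wy F A A' (DD (A ⊔ A') E) Λ s u x z p

/-- The root subgroups. -/
def St_Rt : Prop :=
  ∀ {G : Type u} [Group G] [Finite G] {K : Type} [Field K] [Fintype K] {A A' D Λ : Subgroup G} {s u : G}
    {x z : K → G} {p : G → K}, Wg A A' D Λ u x z p → AB A A' → Λ ≤ Ns A' → s * s = 1 → cj s A = A' →
    s ∈ Ns Λ → (D = ⊥ ∨ ((∀ d ∈ D, ∃ a, s * d * s⁻¹ = z a) ∧ ∀ a, s * z a * s⁻¹ ∈ D)) →
    2 < Fintype.card K →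
    ∃ (m : ℕ) (y v : K → G), Rt m x y z v ∧ rA x z v = A ∧ rA y z v = A' ∧ (∀ d, v d ∈ D) ∧
      (∀ b, p (y b) = b) ∧ (∀ b, ∃ a, y b = s * x a * s⁻¹) ∧ (∀ a, ∃ b, s * x a * s⁻¹ = y b) ∧
      ∃ f g σ, f ≠ 0 ∧ g ≠ 0 ∧ Sw m x y (fun g => s * g * s⁻¹) f g σ

/-- The frame. -/
def St_Fr : Prop :=
  ∀ {Γ : Type u} [Group Γ] [Finite Γ] {S : Subgroup Γ} {F : FusionSystem S}
    {K : Type} [Field K] [Fintype K] {A A' D Λ : Subgroup Γ} {s u : Γ} {x z : K → Γ} {p : Γ → K},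
    Lam F A A' s Λ → Wy F A A' D Λ s u x z p → 2 < Fintype.card K →
    ∃ (m : ℕ) (y v : K → Γ), Fr F m x y z v u s Λ ∧ rA x z v = A ∧ rA y z v = A'

/-- Normal forms. -/
def St_RtB : Prop :=
  ∀ {G : Type u} [Group G] {K : Type} [Field K] {m : ℕ} {x y z v : K → G},
    Rt m x y z v → (2 : K) = 0 →
    (∀ j, j ∈ rA x z v ⊔ rA y z v ↔ ∃ a b c d, j = x a * y b * z c * v d) ∧
    (∀ j, j ∈ rA x z v ↔ ∃ a c d, j = x a * z c * v d) ∧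
    (∀ j, j ∈ rA y z v ↔ ∃ b c d, j = y b * z c * v d) ∧
    (∀ j, j ∈ rA x z v ⊓ rA y z v ↔ ∃ c d, j = z c * v d) ∧ AB (rA x z v) (rA y z v)

/-- Generation by the simple root subgroups. -/
def St_RtG : Prop :=
  ∀ {G : Type u} [Group G] [Finite G] {K : Type} [Field K] [Fintype K] {m : ℕ} {x y z v : K → G},
    Rt m x y z v → (2 : K) = 0 → 2 < Fintype.card K →
    rA x z v ⊔ rA y z v = closure (Set.range x ∪ Set.range y) ∧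
    rA x z v ⊓ rA y z v ≤ ⁅rA x z v, rA y z v⁆ ∧
    2 * Nat.card ↥(rA x z v ⊓ rA y z v) < Nat.card (rA x z v)

/-- Two root systems of the same type are isomorphic. -/
def St_RtHom : Prop :=
  ∀ {G : Type u} [Group G] {L : Type} [Group L] {K : Type} [Field K] {m : ℕ} {x y z v : K → G}
    {X Y Z V : K → L}, Rt m x y z v → Rt m X Y Z V → (2 : K) = 0 →
    ∃ j : G → L, MulOn (rA x z v ⊔ rA y z v) j ∧ Set.InjOn j ↑(rA x z v ⊔ rA y z v) ∧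
      (∀ a, j (x a) = X a) ∧ (∀ a, j (y a) = Y a) ∧ (∀ a, j (z a) = Z a) ∧ ∀ a, j (v a) = V a

/-- Automorphisms that fix `U` pointwise and normalise `U⁻`. -/
def St_Faith : Prop :=
  ∀ {L : Type} [Group L] [Finite L] {K : Type} [Field K] [Fintype K] {m : ℕ} {X Y Z V Xm Ym : K → L}
    {Um : Subgroup L}, Rt m X Y Z V → (2 : K) = 0 → 2 < Fintype.card K →
    IsSylowIn 2 (rA X Z V ⊔ rA Y Z V) ⊤ → Ng X Y Z V Um Xm Ym →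
    ∀ φ ∈ Fx Um, (∀ a, φ (X a) = X a) → (∀ b, φ (Y b) = Y b) → φ = 1

/-- `L₃(q)`: root subgroups. -/
def St_A1 : Prop :=
  ∀ (K : Type) [Field K] [Fintype K], (2 : K) = 0 → 2 < Fintype.card K →
    Rt 1 (aE K 0 1) (aE K 1 2) (aE K 0 2) (a1 K) ∧ IsSylowIn 2 (rA (aE K 0 1) (aE K 0 2) (a1 K) ⊔ rA (aE K 1 2) (aE K 0 2) (a1 K)) ⊤ ∧
    (∀ a, aN K * aE K 0 1 a * (aN K)⁻¹ = aE K 0 2 a) ∧ (∀ a, aN K * aE K 0 2 a * (aN K)⁻¹ = aE K 0 1 a) ∧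
    ∀ a, aN K * a1 K a * (aN K)⁻¹ = a1 K a

/-- `L₃(q)`: the Borel subgroup. -/
def St_A2 : Prop :=
  ∀ (K : Type) [Field K] [Fintype K], (2 : K) = 0 → 2 < Fintype.card K →
    ∀ l ∈ Ns (rA (aE K 0 1) (aE K 0 2) (a1 K) ⊔ rA (aE K 1 2) (aE K 0 2) (a1 K)),
    ∃ w ∈ rA (aE K 0 1) (aE K 0 2) (a1 K) ⊔ rA (aE K 1 2) (aE K 0 2) (a1 K), ∃ h ∈ Ns (aU K), l = w * h ∧
      ∃ t r : K, t ≠ 0 ∧ r ≠ 0 ∧
        Mn (aE K 0 1) (aE K 1 2) (fun g => h * g * h⁻¹) (t⁻¹ * r ^ 2) (t ^ 2 * r⁻¹ ^ 1) 1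

/-- `L₃(q)`: the parabolic subgroup. -/
def St_A3 : Prop :=
  ∀ (K : Type) [Field K] [Fintype K], (2 : K) = 0 → 2 < Fintype.card K →
    Ns (rA (aE K 0 1) (aE K 0 2) (a1 K)) ≤
    zpowers (aN K) ⊔ Ns (rA (aE K 0 1) (aE K 0 2) (a1 K) ⊔ rA (aE K 1 2) (aE K 0 2) (a1 K))

/-- `L₃(q)`: the opposite unipotent subgroup. -/
def St_A4 : Prop :=
  ∀ (K : Type) [Field K] [Fintype K], (2 : K) = 0 → 2 < Fintype.card K →
    Ng (aE K 0 1) (aE K 1 2) (aE K 0 2) (a1 K) (aU K) (aE K 1 0) (aE K 2 1)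

/-- `L₃(q)`: automorphisms. -/
def St_A5 : Prop :=
  ∀ (K : Type) [Field K] [Fintype K], (2 : K) = 0 → 2 < Fintype.card K →
    (∀ (α β : K) (σ : RingAut K), α ≠ 0 → β ≠ 0 → ∃ φ ∈ Fx (aU K), Mn (aE K 0 1) (aE K 1 2) φ α β σ) ∧
    ∃ τ ∈ Fx (aU K), Sw 1 (aE K 0 1) (aE K 1 2) τ 1 1 1

/-- `Sp₄(q)`: root subgroups. -/
def St_C1 : Prop :=
  ∀ (K : Type) [Field K] [Fintype K], (2 : K) = 0 → 2 < Fintype.card K →
    Rt 2 (cX K 5) (cX K 4) (cX K 6) (cX K 7) ∧ IsSylowIn 2 (rA (cX K 5) (cX K 6) (cX K 7) ⊔ rA (cX K 4) (cX K 6) (cX K 7)) ⊤ ∧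
    (∀ a, cN K * cX K 5 a * (cN K)⁻¹ = cX K 6 a) ∧ (∀ a, cN K * cX K 6 a * (cN K)⁻¹ = cX K 5 a) ∧
    ∀ a, cN K * cX K 7 a * (cN K)⁻¹ = cX K 7 a

/-- `Sp₄(q)`: the Borel subgroup. -/
def St_C2 : Prop :=
  ∀ (K : Type) [Field K] [Fintype K], (2 : K) = 0 → 2 < Fintype.card K →
    ∀ l ∈ Ns (rA (cX K 5) (cX K 6) (cX K 7) ⊔ rA (cX K 4) (cX K 6) (cX K 7)),
    ∃ w ∈ rA (cX K 5) (cX K 6) (cX K 7) ⊔ rA (cX K 4) (cX K 6) (cX K 7), ∃ h ∈ Ns (cU K), l = w * h ∧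
      ∃ t r : K, t ≠ 0 ∧ r ≠ 0 ∧
        Mn (cX K 5) (cX K 4) (fun g => h * g * h⁻¹) (t⁻¹ * r ^ 2) (t ^ 2 * r⁻¹ ^ 2) 1

/-- `Sp₄(q)`: the parabolic subgroup. -/
def St_C3 : Prop :=
  ∀ (K : Type) [Field K] [Fintype K], (2 : K) = 0 → 2 < Fintype.card K →
    Ns (rA (cX K 5) (cX K 6) (cX K 7)) ≤
    zpowers (cN K) ⊔ Ns (rA (cX K 5) (cX K 6) (cX K 7) ⊔ rA (cX K 4) (cX K 6) (cX K 7))

/-- `Sp₄(q)`: the opposite unipotent subgroup. -/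
def St_C4 : Prop :=
  ∀ (K : Type) [Field K] [Fintype K], (2 : K) = 0 → 2 < Fintype.card K →
    Ng (cX K 5) (cX K 4) (cX K 6) (cX K 7) (cU K) (cX K 2) (cX K 3)

/-- `Sp₄(q)`: automorphisms. -/
def St_C5 : Prop :=
  ∀ (K : Type) [Field K] [Fintype K], (2 : K) = 0 → 2 < Fintype.card K →
    (∀ (α β : K) (σ : RingAut K), α ≠ 0 → β ≠ 0 → ∃ φ ∈ Fx (cU K), Mn (cX K 5) (cX K 4) φ α β σ) ∧
    ∃ τ ∈ Fx (cU K), Sw 2 (cX K 5) (cX K 4) τ 1 1 1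

/-- The exponent is odd. -/
def St_Odd : Prop :=
  ∀ {G : Type u} [Group G] {K : Type} [Field K] [Fintype K] {x y z v : K → G} {s : G} {f g : K}
    {σ : RingAut K}, Rt 2 x y z v → (2 : K) = 0 → s * s = 1 →
    Sw 2 x y (fun g => s * g * s⁻¹) f g σ → ∃ e : ℕ, Odd e ∧ Fintype.card K = 2 ^ e

/-- The complement acts on the target. -/
def St_Kap : Prop :=
  ∀ {Γ : Type u} [Group Γ] [Finite Γ] {S : Subgroup Γ} {F : FusionSystem S}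
    {K : Type} [Field K] [Fintype K] {m : ℕ} {x y z v : K → Γ} {u s : Γ} {Λ : Subgroup Γ},
    Fr F m x y z v u s Λ → 2 < Fintype.card K →
    ∀ {L : Type} [Group L] [Finite L] {X Y Z V : K → L} {n : L} {Um : Subgroup L},
    Tgt m X Y Z V n Um →
    ∀ j : Γ → L, MulOn (rA x z v ⊔ rA y z v) j → (∀ a, j (x a) = X a) → (∀ a, j (y a) = Y a) →
    ∃ κ : ↥(zpowers s ⊔ Λ) →* MulAut L, (∀ h, κ h ∈ Fx Um) ∧
      ∀ h : ↥(zpowers s ⊔ Λ), ∀ w ∈ rA x z v ⊔ rA y z v, κ h (j w) = j (h * w * (h : Γ)⁻¹)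

/-- The model of `N_F(J)` embeds in `Aut(L)`. -/
def St_Match : Prop :=
  ∀ {Γ : Type u} [Group Γ] [Finite Γ] {S : Subgroup Γ} {F : FusionSystem S}
    {K : Type} [Field K] [Fintype K] {m : ℕ} {x y z v : K → Γ} {u s : Γ} {Λ : Subgroup Γ},
    Fr F m x y z v u s Λ → 2 < Fintype.card K →
    ∀ {L : Type} [Group L] [Finite L] {X Y Z V : K → L} {n : L} {Um : Subgroup L},
    Tgt m X Y Z V n Um →
    ∃ ι : ↥(S ⊔ Λ) →* MulAut L, Rz (S ⊔ Λ) ((rA x z v ⊔ rA y z v) ⊔ Λ) x y z v X Y Z V ι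

/-- The index two subgroup. -/
def St_RealB : Prop :=
  ∀ {Γ : Type u} [Group Γ] [Finite Γ] {S : Subgroup Γ} {F : FusionSystem S}
    {K : Type} [Field K] [Fintype K] {m : ℕ} {x y z v : K → Γ} {u s : Γ} {Λ : Subgroup Γ},
    Fr F m x y z v u s Λ → 2 < Fintype.card K →
    ∀ {L : Type} [Group L] [Finite L] {X Y Z V : K → L} {n : L} {Um : Subgroup L},
    Tgt m X Y Z V n Um →
    ∀ ι : ↥(S ⊔ Λ) →* MulAut L, Rz (S ⊔ Λ) ((rA x z v ⊔ rA y z v) ⊔ Λ) x y z v X Y Z V ι →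
    ∀ h : ↥(S ⊔ Λ), ∀ l : L, ι h = MulAut.conj l → (h : Γ) ∈ (rA x z v ⊔ rA y z v) ⊔ Λ ∧
      ((h : Γ) ∈ S → (h : Γ) ∈ rA x z v ⊔ rA y z v)

/-- The group that realises the system. -/
def St_RealC : Prop :=
  ∀ {Γ : Type u} [Group Γ] [Finite Γ] {S : Subgroup Γ} {F : FusionSystem S}
    {K : Type} [Field K] [Fintype K] {m : ℕ} {x y z v : K → Γ} {u s : Γ} {Λ : Subgroup Γ},
    Fr F m x y z v u s Λ → 2 < Fintype.card K →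
    ∀ {L : Type} [Group L] [Finite L] {X Y Z V : K → L} {n : L} {Um : Subgroup L},
    Tgt m X Y Z V n Um →
    ∀ ι : ↥(S ⊔ Λ) →* MulAut L, Rz (S ⊔ Λ) ((rA x z v ⊔ rA y z v) ⊔ Λ) x y z v X Y Z V ι →
    ∃ E : SylEmb S (GG ι), (∀ t : S, (E.j t : MulAut L) = ι ⟨t, mem_sup_left t.2⟩) ∧
      Nonempty (↥(generalizedFittingSubgroup (GG ι)) ≃* L) ∧
      generalizedFittingSubgroup (GG ι) ≤ pResidual 2 (GG ι) ∧
      Odd ((generalizedFittingSubgroup (GG ι)).subgroupOf (pResidual 2 (GG ι))).index ∧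
      (pResidual 2 (GG ι)).index = 2

/-- The fusion on the overgroups of `J`. -/
def St_RealD : Prop :=
  ∀ {Γ : Type u} [Group Γ] [Finite Γ] {S : Subgroup Γ} {F : FusionSystem S}
    {K : Type} [Field K] [Fintype K] {m : ℕ} {x y z v : K → Γ} {u s : Γ} {Λ : Subgroup Γ},
    Fr F m x y z v u s Λ → 2 < Fintype.card K →
    ∀ {L : Type} [Group L] [Finite L] {X Y Z V : K → L} {n : L} {Um : Subgroup L},
    Tgt m X Y Z V n Um →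
    ∀ ι : ↥(S ⊔ Λ) →* MulAut L, Rz (S ⊔ Λ) ((rA x z v ⊔ rA y z v) ⊔ Λ) x y z v X Y Z V ι →
    ∀ E : SylEmb S (GG ι), (∀ t : S, (E.j t : MulAut L) = ι ⟨t, mem_sup_left t.2⟩) →
    (pullE E).StronglyClosed (rA x z v ⊔ rA y z v) ∧
      ∀ P g, rA x z v ⊔ rA y z v ≤ P → (R (pullE E) P g ↔ R F P g)

/-- The automorphisms of `A`. -/
def St_RealE : Prop :=
  ∀ {Γ : Type u} [Group Γ] [Finite Γ] {S : Subgroup Γ} {F : FusionSystem S}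
    {K : Type} [Field K] [Fintype K] {m : ℕ} {x y z v : K → Γ} {u s : Γ} {Λ : Subgroup Γ},
    Fr F m x y z v u s Λ → 2 < Fintype.card K →
    ∀ {L : Type} [Group L] [Finite L] {X Y Z V : K → L} {n : L} {Um : Subgroup L},
    Tgt m X Y Z V n Um →
    ∀ ι : ↥(S ⊔ Λ) →* MulAut L, Rz (S ⊔ Λ) ((rA x z v ⊔ rA y z v) ⊔ Λ) x y z v X Y Z V ι →
    ∀ E : SylEmb S (GG ι), (∀ t : S, (E.j t : MulAut L) = ι ⟨t, mem_sup_left t.2⟩) →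
    ∀ g ∈ Ns (rA x z v), (R (pullE E) (rA x z v) g ↔ R F (rA x z v) g)

/-- Centric radical subgroups of `J`. -/
def St_Ess0 : Prop :=
  ∀ {Γ : Type u} [Group Γ] [Finite Γ] {S : Subgroup Γ} {F : FusionSystem S}
    {A A' P : Subgroup Γ} {y : Γ}, Js S A A' y → P ≤ A ⊔ A' → F.IsCentric P → F.IsRadical 2 P →
    P = A ∨ P = A' ∨ P = A ⊔ A'

/-- Centric radical subgroups when `J` is strongly closed. -/
def St_EssJ : Prop :=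
  ∀ {Γ : Type u} [Group Γ] [Finite Γ] {S : Subgroup Γ} {F : FusionSystem S}
    {A A' P : Subgroup Γ} {y : Γ}, Js S A A' y → F.StronglyClosed (A ⊔ A') → ¬ P ≤ A ⊔ A' →
    F.IsCentric P → F.IsRadical 2 P → A ⊔ A' ≤ P

/-- The realised system is a subsystem. -/
def St_RlLe : Prop :=
  ∀ {Γ : Type u} [Group Γ] [Finite Γ] {S : Subgroup Γ} {F N : FusionSystem S}
    {A A' : Subgroup Γ} {y : Γ}, Js S A A' y → Univ S → Rl F N A A' → N ≤ F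

/-- Stabilisers of chains in groups of characteristic two. -/
def St_Chain : Prop :=
  ∀ {G : Type u} [Group G] [Finite G] {M X Y : Subgroup G} {j : G}, Local.CharP 2 M →
    M ≤ Ns X → M ≤ Ns Y → j ∈ M → (∀ r ∈ pCoreOf 2 M, ⁅j, r⁆ ∈ X) →
    (∀ r ∈ pCoreOf 2 M ⊓ X, ⁅j, r⁆ ∈ Y) → (∀ r ∈ pCoreOf 2 M ⊓ Y, j * r = r * j) → j ∈ pCoreOf 2 M

/-- First facts on `O₂(M)`. -/
def St_EN1 : Prop :=
  ∀ {G : Type u} [Group G] [Finite G] {S A A' M : Subgroup G} {y : G}, Js S A A' y →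
    IsSylowIn 2 S M → Local.CharP 2 M →
    (pCoreOf 2 M ≤ A ⊔ A' → M ≤ Ns (A ⊔ A')) ∧
    (¬ pCoreOf 2 M ≤ A ⊔ A' → A ⊓ A' ≤ pCoreOf 2 M ∧ M ≤ Ns (A ⊓ A' ⊓ C1 y))

/-- `O₂(M) / Z` not abelian. -/
def St_EN2a : Prop :=
  ∀ {G : Type u} [Group G] [Finite G] {S A A' M : Subgroup G} {y : G}, Js S A A' y →
    IsSylowIn 2 S M → Local.CharP 2 M →
    2 * Nat.card ↥(A ⊓ A') < Nat.card A → A ⊓ A' ≤ pCoreOf 2 M → M ≤ Ns (A ⊓ A') →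
    ∀ m ∈ M, ∀ t ∈ cj m (pCoreOf 2 M ⊓ (A ⊔ A')), t ∉ A ⊔ A' →
    ∀ r ∈ pCoreOf 2 M ⊓ (A ⊔ A'), ⁅t, r⁆ ∈ A ⊓ A'

/-- `O₂(M) / Z` abelian. -/
def St_EN2b : Prop :=
  ∀ {G : Type u} [Group G] [Finite G] {S A A' M : Subgroup G} {y : G}, Js S A A' y →
    IsSylowIn 2 S M → Local.CharP 2 M →
    2 * Nat.card ↥(A ⊓ A') < Nat.card A → A ⊓ A' ≤ pCoreOf 2 M → M ≤ Ns (A ⊓ A') →
    ∀ m ∈ M, ∀ t ∈ cj m (pCoreOf 2 M ⊓ (A ⊔ A')), t ∉ A ⊔ A' →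
    ¬ ∀ r ∈ pCoreOf 2 M ⊓ (A ⊔ A'), ⁅t, r⁆ ∈ A ⊓ A'

/-- `Z` normal in `M`. -/
def St_EN2 : Prop :=
  ∀ {G : Type u} [Group G] [Finite G] {S A A' M : Subgroup G} {y : G}, Js S A A' y →
    IsSylowIn 2 S M → Local.CharP 2 M →
    2 * Nat.card ↥(A ⊓ A') < Nat.card A → A ⊓ A' ≤ pCoreOf 2 M → M ≤ Ns (A ⊓ A') →
    M ≤ Ns (A ⊔ A')

/-- `Z` not normal in `M`. -/
def St_EN3 : Prop :=
  ∀ {G : Type u} [Group G] [Finite G] {S A A' M : Subgroup G} {y : G}, Js S A A' y →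
    IsSylowIn 2 S M → Local.CharP 2 M →
    2 * Nat.card ↥(A ⊓ A') < Nat.card A → A ⊓ A' ≤ ⁅A, A'⁆ → A ⊓ A' ≤ pCoreOf 2 M →
    ¬ pCoreOf 2 M ≤ A ⊔ A' → M ≤ Ns (A ⊓ A' ⊓ C1 y) → ¬ M ≤ Ns (A ⊓ A') →
    ∃ x z, Jc S A A' (pCoreOf 2 M) x z ∧ A ⊓ A' ⊓ C1 y = zpowers z

/-- Groups of characteristic two over `S`. -/
def St_EN : Prop :=
  ∀ {G : Type u} [Group G] [Finite G] {S A A' M : Subgroup G} {y : G}, Js S A A' y →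
    IsSylowIn 2 S M → Local.CharP 2 M →
    2 * Nat.card ↥(A ⊓ A') < Nat.card A → A ⊓ A' ≤ ⁅A, A'⁆ →
    M ≤ Ns (A ⊔ A') ∨ ∃ x z, Jc S A A' (pCoreOf 2 M) x z ∧ M ≤ C1 z ∧ ¬ M ≤ Ns (A ⊓ A')

/-- The local analysis in final form. -/
def St_Loc2 : Prop :=
  ∀ {Γ : Type u} [Group Γ] [Finite Γ] {S : Subgroup Γ} {F N : FusionSystem S} {U : Subgroup Γ},
    Min F → N.IsSaturated 2 → N ≤ F → AS F N → Mx F N U → ¬ S ≤ Ns U →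
    ∃ A A' y, Bad F N A ∧ (Js S A A' y ∨ MC S)

/-- The realised system is `F` unless a normal subgroup of `S` is bad. -/
def St_BigA : Prop :=
  ∀ {Γ : Type u} [Group Γ] [Finite Γ] {S : Subgroup Γ} {F N : FusionSystem S}
    {A A' : Subgroup Γ} {y : Γ}, Min F → Js S A A' y → 4 < Nat.card A → Rl F N A A' → N ≠ F →
    ∃ U, Bad F N U ∧ S ≤ Ns U

/-- A bad normal subgroup gives the exceptional case. -/
def St_BigB : Prop :=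
  ∀ {Γ : Type u} [Group Γ] [Finite Γ] {S : Subgroup Γ} {F N : FusionSystem S}
    {A A' U : Subgroup Γ} {y : Γ}, Min F → Js S A A' y → 2 * Nat.card ↥(A ⊓ A') < Nat.card A →
    A ⊓ A' ≤ ⁅A, A'⁆ → Rl F N A A' → Bad F N U → S ≤ Ns U → Ex F A A'

/-- One class of involutions in `A`. -/
def St_One : Prop :=
  ∀ {Γ : Type u} [Group Γ] [Finite Γ] {S : Subgroup Γ} {F : FusionSystem S}
    {q : ℕ} {A A' M E : Subgroup Γ} {y : Γ}, Cf F q A A' M E y →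
    Nat.card A = 16 → Nat.card ↥(A ⊓ A') = 4 →
    ∀ z ∈ A, z ≠ 1 → ∀ a ∈ A, a ≠ 1 → F.IsConjElt a z

/-- `R` is extraspecial of minus type. -/
def St_JR : Prop :=
  ∀ {G : Type u} [Group G] [Finite G] {S A A' R : Subgroup G} {x z : G}, Jc S A A' R x z →
    Local.SympPair R z ∧ Nat.card R = 32 ∧ Nat.card S = 128 ∧ Spor.HJ.NoE8 R z ∧ A ⊔ R = S ∧
      A' ⊔ R = S ∧ R ⊓ Cs R ≤ zpowers z

/-- The action on five points. -/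
def St_JPi : Prop :=
  ∀ {G : Type u} [Group G] [Finite G] {S A A' M : Subgroup G} {x z : G},
    Jc S A A' (pCoreOf 2 M) x z → IsSylowIn 2 S M → Local.CharP 2 M → M ≤ C1 z →
    ¬ M ≤ Ns (A ⊓ A') →
    ∃ π : M →* Equiv.Perm (Fin 5), π.ker = (pCoreOf 2 M).subgroupOf M ∧
      π.range = alternatingGroup (Fin 5)

/-- The element of order three. -/
def St_JM : Prop :=
  ∀ {G : Type u} [Group G] [Finite G] {S A A' M : Subgroup G} {x z : G},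
    Jc S A A' (pCoreOf 2 M) x z → IsSylowIn 2 S M → Local.CharP 2 M → M ≤ C1 z →
    ¬ M ≤ Ns (A ⊓ A') → ∃ ρ, JM S A A' M x z ρ

/-- The embedding in `J₃`. -/
def St_J3E : Prop :=
  ∀ {G : Type u} [Group G] [Finite G] {S A A' M : Subgroup G} {x z ρ : G}, JM S A A' M x z ρ →
    ∃ (H : Type) (_ : Group H) (_ : Finite H) (κ : M →* H), Spor.IsoJ3 H ∧ Function.Injective κ ∧
      ¬ 2 ∣ κ.range.index ∧ (∀ hz : z ∈ M, κ.range = C1 (κ ⟨z, hz⟩)) ∧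
      ∀ a b : H, orderOf a = 2 → orderOf b = 2 → IsConj a b

/-- The fusion system of `J₃`. -/
def St_J3s : Prop :=
  ∀ {Γ : Type u} [Group Γ] [Finite Γ] {S : Subgroup Γ} {F : FusionSystem S}
    {A A' M : Subgroup Γ} {x z ρ : Γ}, JM S A A' M x z ρ →
    Sat F → ∃ N : FusionSystem S, Concl N ∧ J3s N A M z

/-- Self-centralising subgroups outside `J`. -/
def St_JE : Prop :=
  ∀ {G : Type u} [Group G] [Finite G] {S A A' R : Subgroup G} {x z : G}, Jc S A A' R x z →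
    ∀ P ≤ S, S ⊓ Cs P ≤ P → ¬ P ≤ A ⊔ A' → Ns P ≤ C1 z

/-- Transitivity. -/
def St_JT : Prop :=
  ∀ {Γ : Type u} [Group Γ] [Finite Γ] {S : Subgroup Γ} {F : FusionSystem S}
    {A A' M : Subgroup Γ} {x z ρ : Γ}, JM S A A' M x z ρ →
    J3s F A M z →
    (∀ a ∈ A, a ≠ 1 → ∃ g ∈ NF F A, g * z * g⁻¹ = a) ∧
    (∃ σ ∈ Ns A ⊓ NF F (A ⊔ A'), σ * z * σ⁻¹ ≠ z) ∧ NF F A ⊓ C1 z ≤ Ns (A ⊓ A')

/-- The automorphisms of `J`. -/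
def St_JS : Prop :=
  ∀ {Γ : Type u} [Group Γ] [Finite Γ] {S : Subgroup Γ} {F : FusionSystem S}
    {A A' M : Subgroup Γ} {x z ρ : Γ}, JM S A A' M x z ρ →
    J3s F A M z →
    ∃ σ ∈ Ns A ⊓ NF F (A ⊔ A'), σ * z * σ⁻¹ ≠ z ∧ ⁅σ, ρ⁆ ∈ Cs (A ⊔ A') ∧
      NF F (A ⊔ A') ≤ S ⊔ zpowers ρ ⊔ zpowers σ ⊔ (Cs (A ⊔ A'))

/-- The centraliser of `ρ` in `Aut(J)`. -/
def St_JC : Prop :=
  ∀ {G : Type u} [Group G] [Finite G] {S A A' M : Subgroup G} {x z ρ : G}, JM S A A' M x z ρ →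
    ∀ σ ∈ Ns A ⊓ Ns A', σ * z * σ⁻¹ ≠ z → ⁅σ, ρ⁆ ∈ Cs (A ⊔ A') →
    (∀ τ ∈ Ns A ⊓ Ns A', ⁅τ, ρ⁆ ∈ Cs (A ⊔ A') → τ ∈ zpowers ρ ⊔ zpowers σ ⊔ Cs (A ⊔ A')) ∧
    ∃ h ∈ zpowers ρ ⊔ zpowers σ, (∀ b ∈ A', ⁅h, b⁆ ∈ A) ∧ (∀ a ∈ A, h * a = a * h → a = 1) ∧
      h ^ 3 ∈ Cs (A ⊔ A') ∧ ⁅h, ρ⁆ ∈ Cs (A ⊔ A')

/-- The scalar is central in the model of `N_F(A)`. -/
def St_JA1 : Prop :=
  ∀ {G : Type u} [Group G] [Finite G] {A A' M : Subgroup G} {z h : G}, AB A A' → Nat.card A = 16 →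
    Nat.card A' = 16 → Nat.card ↥(A ⊓ A') = 4 → z ∈ A ⊓ A' → z ≠ 1 → M ≤ Ns A →
    IsSylowIn 2 (A ⊔ A') M → M ⊓ Cs A ≤ A → M ⊓ C1 z ≤ Ns (A ⊓ A') →
    (∀ a ∈ A, a ≠ 1 → ∃ m ∈ M, m * z * m⁻¹ = a) → h ∈ M ⊓ Ns A' → (∀ b ∈ A', ⁅h, b⁆ ∈ A) →
    (∀ a ∈ A, h * a = a * h → a = 1) → h ^ 3 ∈ Cs A → ∀ m ∈ M, ⁅m, h⁆ ∈ Cs A

/-- The Borel subgroup of `GL₂(4)`. -/
def St_JA2 : Prop :=
  ∀ {G : Type u} [Group G] [Finite G] {S A A' M : Subgroup G} {x z ρ : G}, JM S A A' M x z ρ →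
    ∀ h ∈ Ns A ⊓ Ns A', (∀ b ∈ A', ⁅h, b⁆ ∈ A) → (∀ a ∈ A, h * a = a * h → a = 1) →
    h ^ 3 ∈ Cs A → ⁅h, ρ⁆ ∈ Cs A → ∀ g ∈ Ns A, g ∈ C1 z → ⁅g, h⁆ ∈ Cs A →
    g ∈ A' ⊔ zpowers ρ ⊔ Cs A

/-- The automorphisms of `J` are determined. -/
def St_JJ : Prop :=
  ∀ {Γ : Type u} [Group Γ] [Finite Γ] {S : Subgroup Γ} {F N : FusionSystem S}
    {A A' M : Subgroup Γ} {x z ρ : Γ}, JM S A A' M x z ρ → J3s F A M z → J3s N A M z →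
    NF F (A ⊔ A') ≤ NF N (A ⊔ A')

/-- The automorphisms of `A` are determined. -/
def St_JA : Prop :=
  ∀ {Γ : Type u} [Group Γ] [Finite Γ] {S : Subgroup Γ} {F N : FusionSystem S}
    {A A' M : Subgroup Γ} {x z ρ : Γ}, JM S A A' M x z ρ → J3s F A M z → J3s N A M z →
    NF F A ≤ NF N A

/-- Uniqueness. -/
def St_JU : Prop :=
  ∀ {Γ : Type u} [Group Γ] [Finite Γ] {S : Subgroup Γ} {F N : FusionSystem S}
    {A A' M : Subgroup Γ} {x z ρ : Γ}, JM S A A' M x z ρ → J3s F A M z → J3s N A M z →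
    F ≤ N

end Cfsg.Lib.HM
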